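import Cfsg.Agent.H53.OpKit
import Cfsg.Agent.H85.FPDefs

/-! Interfaces for the project FPM: fixed point free nilpotent operator groups. -/

set_option autoImplicit false

namespace Cfsg.Agent.H53.FM

open Subgroup Cfsg Cfsg.Agent.H83 Cfsg.Agent.H53.OC Cfsg.Agent.H53.OpK
open Cfsg.Agent.H85.FP (Small Rad Hyp Env YD SC LocB)
open scoped commutatorElement

universe u

section Defs

variable {Γ : Type u} [Group Γ]

theorem hyp_op {G A : Subgroup Γ} (h : Hyp G A) : Op A G :=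
  ⟨h.AG, fun x hx y hy h1 h2 => (h.fx y hy x hx h2 h1).symm, Or.inl h.cop⟩

/-- The data of the core case: `P` is a faithful `p`-group on `R`. -/
structure Core (p : ℕ) (A R P N : Subgroup Γ) : Prop where
  pp : p.Prime
  p2 : p ≠ 2
  ea : IsElementaryAbelian 2 R
  pP : IsPGroup p P
  pN : IsPGroup 2 N
  op : Op A (R ⊔ P ⊔ N)
  AR : A ≤ normalizer (R : Set Γ)
  AP : A ≤ normalizer (P : Set Γ)
  AN : A ≤ normalizer (N : Set Γ)
  NR : N ≤ normalizer (R : Set Γ)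
  NP : N ≤ normalizer (P : Set Γ)
  PR : P ≤ normalizer (R : Set Γ)
  faith : P ⊓ centralizer (R : Set Γ) = ⊥

/-- `H` is transitive on the non-identity elements of `⁅V, H⁆ ≠ 1`. -/
def Tr (V H : Subgroup Γ) : Prop :=
  ⁅V, H⁆ ≠ ⊥ ∧ ∀ v ∈ ⁅V, H⁆, ∀ w ∈ ⁅V, H⁆, v ≠ 1 → w ≠ 1 → ∃ h ∈ H, h * v * h⁻¹ = w

/-- The torus of a linear factor. -/
structure Tor (T T₀ U H : Subgroup Γ) : Prop where
  odd : Odd (Nat.card H)
  nrm : H ≤ normalizer ((⁅U, T₀⁆ : Subgroup Γ) : Set Γ)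
  cen : H ≤ centralizer ((sq (T ⊓ centralizer (U : Set Γ)) : Subgroup Γ) : Set Γ)
  tr : Tr ⁅U, T₀⁆ H

/-- The linear configuration together with its tori. -/
structure LocC (G S T T₀ E U I : Subgroup Γ) : Prop extends LocB G S T T₀ E U I where
  tor : ∀ D : Subgroup Γ, ⁅U, T₀⁆ ≤ D → D ≤ ⁅U, T₀⁆ ⊔ sq (T ⊓ centralizer (U : Set Γ)) →
    ∃ H : Subgroup Γ, H ≤ G ⊓ normalizer (D : Set Γ) ∧ Odd (Nat.card H) ∧ Tr D H

/-- The simple minimal counterexample. -/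
structure EnvM (G A : Subgroup Γ) : Prop where
  nil : Group.IsNilpotent A
  AG : A ≤ normalizer (G : Set Γ)
  fpf : G ⊓ centralizer (A : Set Γ) = ⊥
  faith : A ⊓ centralizer (G : Set Γ) = ⊥
  simple : IsSimpleGroup G
  nsol : ¬ Group.IsSolvable G
  sol : ∀ H : Subgroup Γ, H < G → A ≤ normalizer (H : Set Γ) → Group.IsSolvable H

end Defs

/-! ### The module lemmas, for both kinds of operator groups -/

def CoreAbStmt : Prop :=
  ∀ (Γ : Type u) [Group Γ] [Finite Γ] (p : ℕ) (A R P N : Subgroup Γ), Core p A R P N →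
    IsElementaryAbelian p P → ∀ b ∈ N, Small R b → b ∈ centralizer (P : Set Γ)

def CoreSpStmt : Prop :=
  ∀ (Γ : Type u) [Group Γ] [Finite Γ] (p : ℕ) (A R P N : Subgroup Γ), Core p A R P N →
    (∀ x ∈ P, x ^ p = 1) → ⁅P, P⁆ ≤ centralizer (P : Set Γ) →
    ∀ b ∈ N, Small R b → b ∈ centralizer ((P ⊓ centralizer (P : Set Γ) : Subgroup Γ) : Set Γ) →
      b ∈ centralizer (P : Set Γ)

def NSStmt : Prop :=
  ∀ (Γ : Type u) [Group Γ] [Finite Γ] (H A R : Subgroup Γ), Op A H → Group.IsSolvable H →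
    R ≤ H → IsElementaryAbelian 2 R → H ≤ normalizer (R : Set Γ) → A ≤ normalizer (R : Set Γ) →
    ∀ b ∈ H, Small R b → Rad H R b

theorem NSStmt.fp (h : NSStmt.{u}) : H85.FP.NSStmt.{u} :=
  fun Γ _ _ H A R hy => h Γ H A R (hyp_op hy)

/-- Two transitive subgroups of a group of odd order. -/
def MergeStmt : Prop :=
  ∀ (Γ : Type u) [Group Γ] [Finite Γ] (V G₁ G₂ : Subgroup Γ), IsElementaryAbelian 2 V →
    Odd (Nat.card ↥(G₁ ⊔ G₂)) → G₁ ≤ normalizer (V : Set Γ) → G₂ ≤ normalizer (V : Set Γ) →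
    Tr V G₁ → Tr V G₂ → Nat.card ↥⁅V, G₁⁆ = Nat.card ↥⁅V, G₂⁆ →
    ⁅V, G₁⁆ ≤ centralizer (G₂ : Set Γ) ∨
      ∃ v ∈ ⁅V, G₁⁆, v ≠ 1 ∧ ∃ g ∈ G₁ ⊔ G₂, g * v * g⁻¹ ∈ ⁅V, G₂⁆

def K4Stmt : Prop :=
  ∀ (Γ : Type u) [Group Γ] [Finite Γ] (A H V G₁ : Subgroup Γ), Op A H →
    H ⊓ centralizer (A : Set Γ) = ⊥ → Group.IsSolvable H → V ≤ H → IsElementaryAbelian 2 V →
    H ≤ normalizer (V : Set Γ) → A ≤ normalizer (V : Set Γ) → G₁ ≤ H → Odd (Nat.card G₁) →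
    ¬ Tr V G₁

/-! ### The local analysis -/

def YStmt : Prop :=
  ∀ (Γ : Type u) [Group Γ] [Finite Γ] (G A S : Subgroup Γ), Env G A S → S ≠ ⊥ →
    ∃ Y, YD G A S Y ∧ A ≤ normalizer (Y : Set Γ)

def LinStmt : Prop :=
  ∀ (P : Type u) [Group P] [Finite P] (T M X Y : Subgroup P) (F : Type) [Field F] [Fintype F]
    (n : ℕ), H85.FP.Pushed T M → H85.FP.Fac T X Y → Fintype.card F = 2 ^ n → 2 ≤ n →
    ActsAsSL2OnSection F ⊤ X ⁅OZ 2 (pCore 2 P), X⁆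
      (⁅OZ 2 (pCore 2 P), X⁆ ⊓ centralizer (X : Set P)) →
    ∃ T₀ U I K H, H85.FP.HatB T T₀ U I K ∧ Tor T T₀ U H

def HatStmt : Prop :=
  ∀ (P : Type u) [Group P] [Finite P] (T M : Subgroup P), H85.FP.Pushed T M →
    (∃ U u x t, HatA T U u x t) ∨ ∃ T₀ U I K H, H85.FP.HatB T T₀ U I K ∧ Tor T T₀ U H

def LocStmt : Prop :=
  ∀ (Γ : Type u) [Group Γ] [Finite Γ] (G A S Y : Subgroup Γ), Odd (Nat.card A) →
    A ≤ normalizer (G : Set Γ) → IsSylowIn 2 S G → A ≤ normalizer (S : Set Γ) → YD G A S Y →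
    SC G S Y ∨ (∃ E U u x t, LocA G S E U u x t) ∨ ∃ T T₀ E U I, LocC G S T T₀ E U I

theorem LinStmt.fp (h : LinStmt.{u}) : H85.FP.LinStmt.{u} :=
  fun P _ _ T M X Y F _ _ n h1 h2 h3 h4 h5 =>
    let ⟨T₀, U, I, K, _, a, _⟩ := h P T M X Y F n h1 h2 h3 h4 h5
    ⟨T₀, U, I, K, a⟩

theorem LocStmt.fp (h : LocStmt.{u}) : H85.FP.LocStmt.{u} :=
  fun Γ _ _ G A S Y h1 h2 h3 h4 h5 => (h Γ G A S Y h1 h2 h3 h4 h5).imp_right fun h6 =>
    h6.imp_right fun ⟨T, T₀, E, U, I, a⟩ => ⟨T, T₀, E, U, I, a.toLocB⟩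

theorem YStmt.fp (h : YStmt.{u}) : H85.FP.YStmt.{u} :=
  fun Γ _ _ G A S h1 h2 => (h Γ G A S h1 h2).imp fun _ a => a.1

def FinAStmt : Prop :=
  ∀ (Γ : Type u) [Group Γ] [Finite Γ] (G B S E U : Subgroup Γ) (u x t : Γ), Odd (Nat.card B) →
    B ≤ normalizer (G : Set Γ) → B ≤ normalizer (S : Set Γ) →
    S ⊓ resOf 2 G ⊓ centralizer (B : Set Γ) = ⊥ → LocA G S E U u x t → False

def FinBStmt : Prop :=
  ∀ (Γ : Type u) [Group Γ] [Finite Γ] (G A S T T₀ E U I : Subgroup Γ),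
    A ≤ normalizer (S : Set Γ) →
    (∀ D : Subgroup Γ, D ≤ S → D ≠ ⊥ → A ≤ normalizer (D : Set Γ) →
      Group.IsSolvable ↥(G ⊓ normalizer (D : Set Γ))) →
    (∀ D H : Subgroup Γ, D ≤ S → IsElementaryAbelian 2 D → A ≤ normalizer (D : Set Γ) →
      H ≤ G ⊓ normalizer (D : Set Γ) → Odd (Nat.card H) → ¬ Tr D H) →
    LocC G S T T₀ E U I → False

/-- The subgroup `Y` also serves for the extension of `G` by the `2`-part of `A`. -/
def UpStmt : Prop :=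
  ∀ (Γ : Type u) [Group Γ] [Finite Γ] (G A S Y : Subgroup Γ), EnvM G A → IsSylowIn 2 S G →
    A ≤ normalizer (S : Set Γ) → YD G A S Y → A ≤ normalizer (Y : Set Γ) →
    YD (G ⊔ pCoreOf 2 A) (resOf 2 A) (S ⊔ pCoreOf 2 A) Y

def EndStmt : Prop :=
  ∀ (Γ : Type u) [Group Γ] [Finite Γ] (G A S Y : Subgroup Γ), EnvM G A → IsSylowIn 2 S G →
    A ≤ normalizer (S : Set Γ) → Y ≤ S → Y ≠ ⊥ → IsElementaryAbelian 2 Y → SC G S Y → False

/-! ### The invariant Sylow `2`-subgroup -/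

/-- For odd `p`: if `C(Ω₁Z(S))` and `N(Z(J(S)))` have odd order, so have all automizers. -/
def OFStmt : Prop :=
  ∀ (Γ : Type u) [Group Γ] [Finite Γ] (p : ℕ) (G S : Subgroup Γ), p.Prime → p ≠ 2 →
    IsSylowIn p S G → Odd (Nat.card ↥(G ⊓ centralizer (OZ p S : Set Γ))) →
    Odd (Nat.card ↥(G ⊓ normalizer (centerThompsonOf p S : Set Γ))) →
    ∀ X : Subgroup Γ, X ≤ G → IsPGroup p X → ∀ g ∈ G ⊓ normalizer (X : Set Γ),
      (∃ k : ℕ, g ^ 2 ^ k = 1) → g ∈ centralizer (X : Set Γ)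

/-- The local step of `OFStmt`. -/
def OFLocStmt : Prop :=
  ∀ (P : Type u) [Group P] [Finite P] (p : ℕ) (T : Subgroup P), p.Prime → p ≠ 2 →
    IsSylowIn p T ⊤ → centralizer (pCore p P : Set P) ≤ pCore p P →
    Odd (Nat.card ↥(centralizer (OZ p T : Set P))) →
    Odd (Nat.card ↥(normalizer (centerThompsonOf p T : Set P))) → Odd (Nat.card P)

/-- Odd automizers give control of fusion. -/
def CtlStmt : Prop :=
  ∀ (Γ : Type u) [Group Γ] [Finite Γ] (p : ℕ) (G S : Subgroup Γ), p.Prime → p ≠ 2 →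
    IsSylowIn p S G →
    (∀ X : Subgroup Γ, X ≤ G → IsPGroup p X → ∀ g ∈ G ⊓ normalizer (X : Set Γ),
      (∃ k : ℕ, g ^ 2 ^ k = 1) → g ∈ centralizer (X : Set Γ)) →
    ∀ y ∈ S, ∀ g ∈ G, g * y * g⁻¹ ∈ S →
      ∃ n ∈ G ⊓ normalizer (centerThompsonOf p S : Set Γ), n * y * n⁻¹ = g * y * g⁻¹

def SylStmt : Prop :=
  ∀ (Γ : Type u) [Group Γ] [Finite Γ] (G A : Subgroup Γ), EnvM G A →
    ∃ S, IsSylowIn 2 S G ∧ A ≤ normalizer (S : Set Γ)

def SimpleStmt : Prop :=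
  ∀ (Γ : Type u) [Group Γ] [Finite Γ] (G A : Subgroup Γ), ¬ EnvM G A

def MainStmt : Prop :=
  ∀ (Γ : Type u) [Group Γ] [Finite Γ] (A K G : Subgroup Γ), NOp A K G → Group.IsSolvable G

/-- The statement S4124 without faithfulness. -/
def NilStmt : Prop :=
  ∀ (G : Type u) (A : Type u) [Group G] [Finite G] [Group A] [Finite A]
    [MulDistribMulAction A G], Group.IsNilpotent A → (∀ g : G, (∀ a : A, a • g = g) → g = 1) →
    Group.IsSolvable G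

end Cfsg.Agent.H53.FM
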