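import Cfsg.Agent.H53.MWDefs

/-!
Solvable linear groups (project MW2): the statements of the two tool kits.
-/

set_option autoImplicit false

namespace Cfsg.Agent.H53.MW

open MulAction Cfsg.Agent.H12.RO

universe u

/-- Tools on class numbers and commuting probabilities. -/
structure CpKit : Prop where
  inj : ∀ (G H : Type u) [Group G] [Finite G] [Group H] (f : H →* G), Function.Injective f →
    commProb G ≤ commProb H
  faith : ∀ (G V : Type u) [Group G] [MulAction G V], (∀ g : G, (∀ x : V, g • x = x) → g = 1) →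
    Nat.card (img G V) = Nat.card G ∧ cp G V = commProb G ∧
      ko G V = Nat.card (ConjClasses G) + Nat.card (orbitRel.Quotient G V)
  quot : ∀ (G G' V : Type u) [Group G] [Group G'] [MulAction G V] [MulAction G' V] (f : G →* G'),
    Function.Surjective f → (∀ (g : G) (v : V), f g • v = g • v) →
    img G V = img G' V ∧ cp G V = cp G' V ∧ ko G V = ko G' V
  sub : ∀ (G V : Type u) [Group G] [Finite G] [MulAction G V] (X : Subgroup G),
    cp X V ≤ cp G V * (X.index : ℚ) ^ 2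
  sum : ∀ (G V : Type u) [Group G] [Finite G] [AddCommGroup V] [DistribMulAction G V]
    (U W : AddSubgroup V) (hU : Inv G U) (hW : Inv G W), U ⊔ W = ⊤ →
    (letI := subAct hU; cp G U) * (letI := subAct hW; cp G W) ≤ cp G V
  sys : ∀ (G V Ω : Type u) [Group G] [Finite G] [AddCommGroup V] [Finite V] [DistribMulAction G V]
    [MulAction G Ω] [Fintype Ω] (S : Sys G V Ω) (c : ℚ), 0 ≤ c →
    (∀ ω, c ≤ (letI := subAct (S.inv_range ω); cp (stabilizer G ω) (S.e ω).range) *
      Nat.card (S.e ω).range) →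
    c ^ Fintype.card Ω ≤ cp G V * Nat.card V * (Nat.card (img G Ω) : ℚ) ^ 2
  am : ∀ (G V : Type u) [Group G] [Finite G] [AddCommGroup V] [Finite V] [DistribMulAction G V],
    4 * cp G V * ((Nat.card V : ℚ) - 1) ≤ ((ko G V : ℚ) - 1) ^ 2 ∧ 2 ≤ ko G V ∧
    Nat.card V - 1 ≤ (Nat.card (orbitRel.Quotient G V) - 1) * Nat.card (img G V)
  cls : ∀ (H : Type u) [Group H] [Finite H] (U : Subgroup H), U ≤ Subgroup.center H → IsCyclic U →
    ∀ (k : ℕ) (x : Fin k → H) (z : Fin k → ℕ), (∀ i, 0 < z i) →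
    (∀ i j (g : H), ∀ a ∈ U, g * x i * g⁻¹ = a * x j → i = j) →
    (∀ i (g : H), ∀ a ∈ U, g * x i * g⁻¹ = a * x i → a ^ z i = 1) →
    ∑ i, (Nat.card U : ℚ) / z i ≤ Nat.card (ConjClasses H)
  sec : ∀ (G N : Type u) [Group G] [Finite G] [AddCommGroup N] [DistribMulAction G N]
    (L M : Subgroup G) [L.Normal] [M.Normal] (π : G → N), L ≤ M → IsSec L M π →
    ko G N ≤ Nat.card (ConjClasses G) + 1
  quo : ∀ (G H : Type u) [Group G] [Finite G] [Group H] (f : G →* H), Function.Surjective f →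
    Nat.card (ConjClasses H) ≤ Nat.card (ConjClasses G)

/-- Tools on orders. -/
structure OrdKit : Prop where
  base : ∀ (G W : Type u) [Group G] [Finite G] [Group.IsSolvable G] [AddCommGroup W] [Finite W]
    [Nontrivial W] [DistribMulAction G W], CR G W → 5 * Nat.card (img G W) ≤ Nat.card W ^ 3
  aff : ∀ (G Ω N : Type u) [Group G] [Finite G] [MulAction G Ω] [Fintype Ω] [AddCommGroup N]
    [DistribMulAction G N], Aff G Ω N →
    Nat.card (img G Ω) ≤ Fintype.card Ω * Nat.card (img G N)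
  prime : ∀ (G N : Type u) [Group G] [AddCommGroup N] [Finite N] [DistribMulAction G N],
    (Nat.card N).Prime → Nat.card (img G N) ≤ Nat.card N - 1 ∧ IsMulCommutative (img G N)
  clifford : ∀ (G W : Type u) [Group G] [Finite G] [AddCommGroup W] [Finite W]
    [DistribMulAction G W], CR G W → ∀ (X : Subgroup G) [X.Normal], CR X W
  sysCard : ∀ (G V Ω : Type u) [Group G] [AddCommGroup V] [Finite V] [DistribMulAction G V]
    [MulAction G Ω] [Fintype Ω] (S : Sys G V Ω),
    Nat.card V = ∏ ω, Nat.card (S.e ω).range ∧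
      (Irr G V → ∀ ω ω', Nat.card (S.e ω).range = Nat.card (S.e ω').range)
  pk : AllPk.{u} fun G V K W _ _ _ _ _ _ _ σ U M e =>
    Nat.card V = Nat.card K ^ Module.finrank K V ∧ Nat.card M = Nat.card U * e ^ 2 ∧
    Nat.card σ.ker = Nat.card U * e ^ 2 * Nat.card (img σ.ker W) ∧
    (∀ p : ℕ, p.Prime → (∀ v : V, p • v = 0) →
      ∃ f, Nat.card K = p ^ f ∧ σ.ker.index ∣ f ∧ 0 < f) ∧
    (∀ r : ℕ, r.Prime → r ∣ e → r ∣ Nat.card K - 1) ∧
    (∀ g ∈ σ.ker, ∀ u ∈ U, Commute u g) ∧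
    (∀ x ∈ σ.ker, ∀ g ∈ σ.ker, ∀ u ∈ U, g * x * g⁻¹ = u * x → u ^ Module.finrank K V = 1)

/-- SQF (corrected: `2 ≤ e`): the symplectic bound on a module of order `e²`, `e` squarefree -/
def SqfStmt' : Prop :=
  ∀ (G W : Type u) (A : Type u) [Group G] [Finite G] [AddCommGroup W] [Finite W]
    [DistribMulAction G W] [CommGroup A] (b : W → W → A) (e : ℕ), 2 ≤ e → Squarefree e →
    Nat.card W = e ^ 2 → (∀ x y z, b (x + y) z = b x z * b y z) →
    (∀ x y z, b x (y + z) = b x y * b x z) → (∀ x, b x x = 1) → (∀ x, (∀ y, b x y = 1) → x = 0) →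
    (∀ (g : G) x y, b (g • x) (g • y) = b x y) → Nat.card (img G W) ≤ e * (e ^ 2 - 1)

/-- LINZ: a central element of large prime order acting without fixed points -/
def LinZStmt' : Prop :=
  ∀ (p : ℕ), p.Prime → 53 ≤ p → ∀ (r : ℕ), r.Prime →
    ∀ (G V : Type u) [Group G] [Finite G] [Group.IsSolvable G]
    [AddCommGroup V] [Finite V] [Nontrivial V] [DistribMulAction G V], CR G V →
    (∀ v : V, r • v = 0) → ∀ z : G, z ∈ Subgroup.center G → z ^ p = 1 →
    (∀ v : V, z • v = v → v = 0) →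
    54 ≤ cp G V * Nat.card V ∧ ∃ m : Polynomial ℤ, m.Monic ∧
      Polynomial.aeval (DistribMulAction.toModuleEnd ℤ V z) m = 0 ∧
      2 ^ m.natDegree ≤ cp G V * Nat.card V

/-- LANDAU: groups with few conjugacy classes -/
def LandauStmt : Prop :=
  ∀ (G : Type u) [Group G] [Finite G], (Nat.card (ConjClasses G) ≤ 2 → Nat.card G ≤ 2) ∧
    (Nat.card (ConjClasses G) ≤ 3 → Nat.card G ≤ 6) ∧
    (Nat.card (ConjClasses G) ≤ 4 → Nat.card G ≤ 42)

end Cfsg.Agent.H53.MW
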