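import Cfsg.Agent.H53.MWPk
import Cfsg.Agent.H29.CpK

/-!
Solvable linear groups (project MW2): the kit on orders.
-/

set_option autoImplicit false

namespace Cfsg.Agent.H53.MW

open MulAction Cfsg.Agent.H12.RO Cfsg.Agent.H29.CpK
open scoped commutatorElement

universe u

theorem rr_eq_iff {G V : Type*} [Group G] [MulAction G V] {g g' : G} :
    (toPermHom G V).rangeRestrict g = (toPermHom G V).rangeRestrict g' ↔
      ∀ x : V, g • x = g' • x := by
  rw [Subtype.ext_iff, Equiv.ext_iff]; rfl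

theorem ord_base {G W : Type*} [Group G] [Finite G] [Group.IsSolvable G] [AddCommGroup W]
    [Finite W] [Nontrivial W] [DistribMulAction G W] (h : CR G W) :
    5 * Nat.card (img G W) ≤ Nat.card W ^ 3 := by
  obtain ⟨v, hv⟩ := seress ‹_› h
  obtain ⟨w, hw, hw'⟩ := five_orbits v hv
  choose s hs using (toPermHom G W).rangeRestrict_surjective
  have h1 := Nat.card_le_card_of_injective
    (fun x : Fin 5 × img G W => fun i => s x.2 • w x.1 i) (by
      rintro ⟨a, x⟩ ⟨a', x'⟩ e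
      have e' : ∀ i, ((s x')⁻¹ * s x) • w a i = w a' i := fun i => by
        rw [mul_smul, inv_smul_eq_iff]; exact congrFun e i
      obtain rfl := hw' _ _ _ e'
      refine Prod.ext rfl ?_
      change x = x'
      rw [← hs x, ← hs x', rr_eq_iff]
      intro y
      have := hw a _ e' y
      rwa [mul_smul, inv_smul_eq_iff] at this)
  simpa [Nat.card_prod, Nat.card_fun] using h1

theorem ord_aff {G Ω N : Type*} [Group G] [Finite G] [MulAction G Ω] [Fintype Ω] [AddCommGroup N]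
    [DistribMulAction G N] (A : Aff G Ω N) :
    Nat.card (img G Ω) ≤ Fintype.card Ω * Nat.card (img G N) := by
  have : Finite N := Finite.of_equiv _ A.e
  choose s hs using (toPermHom G Ω).rangeRestrict_surjective
  rw [← A.card_eq, ← Nat.card_prod]
  refine Nat.card_le_card_of_injective
    (fun x => (A.c (s x), (toPermHom G N).rangeRestrict (s x))) fun x x' e => ?_
  rw [← hs x, ← hs x', rr_eq_iff]
  intro ω
  apply A.e.injective
  obtain ⟨e1, e2⟩ := Prod.mk.inj e
  rw [A.he, A.he, e1, rr_eq_iff.1 e2]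

theorem ord_prime {G N : Type*} [Group G] [AddCommGroup N] [Finite N] [DistribMulAction G N]
    (hp : (Nat.card N).Prime) :
    Nat.card (img G N) ≤ Nat.card N - 1 ∧ IsMulCommutative (img G N) := by
  have : Fact (Nat.card N).Prime := ⟨hp⟩
  have hc : IsAddCyclic N := isAddCyclic_of_prime_card rfl
  obtain ⟨x, hx⟩ := hc.exists_zsmul_surjective
  have hnt : Nontrivial N := Finite.one_lt_card_iff_nontrivial.1 hp.one_lt
  have hx0 : x ≠ 0 := by
    rintro rfl
    obtain ⟨y, hy⟩ := exists_ne (0 : N)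
    obtain ⟨n, rfl⟩ := hx y
    exact hy (smul_zero _)
  choose s hs using (toPermHom G N).rangeRestrict_surjective
  constructor
  · rw [← card_ne (0 : N)]
    refine Nat.card_le_card_of_injective (fun g => ⟨s g • x, (smul_ne_zero_iff_ne _).2 hx0⟩) fun g g' e => ?_
    rw [← hs g, ← hs g', rr_eq_iff]
    intro y
    obtain ⟨n, rfl⟩ := hx y
    have e' : s g • x = s g' • x := congrArg Subtype.val e
    change s g • n • x = s g' • n • x
    rw [smul_comm, e', smul_comm]
  · refine ⟨⟨fun g g' => ?_⟩⟩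
    rw [← hs g, ← hs g', ← map_mul, ← map_mul, rr_eq_iff]
    intro y
    obtain ⟨n, rfl⟩ := hx y
    obtain ⟨a, ha⟩ := hx (s g • x)
    obtain ⟨a', ha'⟩ := hx (s g' • x)
    change _ • n • x = _ • n • x
    change a • x = _ at ha
    change a' • x = _ at ha'
    rw [smul_comm, smul_comm _ n, mul_smul, mul_smul, ← ha, ← ha', smul_comm (s g) a', ← ha,
      smul_comm (s g') a, ← ha', smul_comm a a']

theorem clifford {G W : Type*} [Group G] [AddCommGroup W] [Finite W] [DistribMulAction G W]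
    (h : CR G W) (X : Subgroup G) [hX : X.Normal] : CR X W := by
  intro A hA
  obtain ⟨B, ⟨hB, hAB⟩, hmax⟩ := (wellFounded_gt (α := AddSubgroup W)).has_min
    {B | Inv X B ∧ A ⊓ B = ⊥} ⟨⊥, fun g v hv => by
      rw [AddSubgroup.mem_bot] at hv ⊢; rw [hv, smul_zero], inf_bot_eq _⟩
  refine ⟨B, hB, hAB, ?_⟩
  have hT : Inv X (A ⊔ B) := fun g v hv => by
    obtain ⟨a, ha, b, hb, rfl⟩ := AddSubgroup.mem_sup.1 hv
    rw [smul_add]
    exact AddSubgroup.add_mem_sup (hA g a ha) (hB g b hb)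
  let n : G → AddSubgroup W := fun g => (A ⊔ B).comap (DistribSMul.toAddMonoidHom W g)
  have hn : ∀ g, Inv X (n g) := fun g x v hv => by
    have := hT ⟨_, hX.conj_mem x x.2 g⟩ _ hv
    change (g * x * g⁻¹) • g • v ∈ _ at this
    change g • (x : G) • v ∈ A ⊔ B
    rwa [mul_smul, mul_smul, inv_smul_smul] at this
  obtain ⟨C, hC, h1, h2⟩ := h (⨅ g, n g) fun g v hv => by
    rw [AddSubgroup.mem_iInf] at hv ⊢
    intro g'
    have := hv (g' * g)
    change (g' * g) • v ∈ A ⊔ B at this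
    change g' • g • v ∈ A ⊔ B
    rwa [← mul_smul]
  by_cases hC0 : C = ⊥
  · rw [hC0, sup_bot_eq] at h2
    rw [eq_top_iff]
    intro v _
    have : (1 : G) • v ∈ A ⊔ B := AddSubgroup.mem_iInf.1 (h2 ▸ AddSubgroup.mem_top v) 1
    rwa [one_smul] at this
  exfalso
  obtain ⟨m, ⟨hm, hm0, hmC⟩, hmin⟩ := (wellFounded_lt (α := AddSubgroup W)).has_min
    {m | Inv X m ∧ m ≠ ⊥ ∧ m ≤ C} ⟨C, fun g v hv => hC g v hv, hC0, le_rfl⟩
  obtain ⟨g, hg⟩ : ∃ g, ¬ m ≤ n g := by
    by_contra hn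
    push Not at hn
    exact hm0 (le_bot_iff.1 (h1 ▸ le_inf (le_iInf hn) hmC))
  have h3 : m ⊓ n g = ⊥ := by
    by_contra h3
    exact hmin (m ⊓ n g) ⟨fun x v hv => ⟨hm x v hv.1, hn g x v hv.2⟩, h3, inf_le_left.trans hmC⟩
      (lt_of_le_of_ne inf_le_left fun e => hg (inf_eq_left.1 e))
  refine hmax (B ⊔ m.map (DistribSMul.toAddMonoidHom W g)) ⟨fun x v hv => ?_, ?_⟩
    (lt_of_le_not_ge le_sup_left fun e => hg fun v hv =>
      AddSubgroup.mem_sup_right (e (AddSubgroup.mem_sup_right ⟨v, hv, rfl⟩)))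
  · obtain ⟨b, hb, _, ⟨y, hy, rfl⟩, rfl⟩ := AddSubgroup.mem_sup.1 hv
    rw [smul_add]
    refine AddSubgroup.add_mem_sup (hB x b hb) ⟨_, hm ⟨_, hX.conj_mem' x x.2 g⟩ y hy, ?_⟩
    change g • (g⁻¹ * x * g) • y = (x : G) • g • y
    rw [mul_smul, mul_smul, smul_inv_smul]
  · rw [eq_bot_iff]
    rintro v ⟨hv, hv'⟩
    obtain ⟨b, hb, _, ⟨y, hy, rfl⟩, rfl⟩ := AddSubgroup.mem_sup.1 hv'
    have h4 : y ∈ m ⊓ n g := ⟨hy, by
      have := (A ⊔ B).sub_mem (AddSubgroup.mem_sup_left hv) (AddSubgroup.mem_sup_right hb)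
      rwa [add_sub_cancel_left] at this⟩
    rw [h3, AddSubgroup.mem_bot] at h4
    rw [h4, map_zero, add_zero] at hv ⊢
    exact hAB ▸ ⟨hv, hb⟩

theorem sys_card_eq {G V Ω : Type*} [Group G] [AddCommGroup V] [DistribMulAction G V]
    [MulAction G Ω] [Fintype Ω] (S : Sys G V Ω) (h : Irr G V) (ω ω' : Ω) :
    Nat.card (S.e ω).range = Nat.card (S.e ω').range := by
  obtain ⟨g, rfl⟩ := S.trans h ω ω'
  refine Nat.card_congr
    { toFun := fun x => ⟨g • x.1, by
        obtain ⟨y, hy⟩ := x.2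
        exact ⟨g • y, by rw [S.equiv, hy]⟩⟩
      invFun := fun x => ⟨g⁻¹ • x.1, by
        obtain ⟨y, hy⟩ := x.2
        exact ⟨g⁻¹ • y, by rw [← hy, ← S.equiv, inv_smul_smul]⟩⟩
      left_inv := fun x => Subtype.ext (inv_smul_smul g x.1)
      right_inv := fun x => Subtype.ext (smul_inv_smul g x.1) }

section Pk

variable {G V K W : Type*} [Group G] [Finite G] [AddCommGroup V] [Finite V] [Nontrivial V]
  [DistribMulAction G V] [Field K] [Finite K] [Module K V] [AddCommGroup W] [DistribMulAction G W]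
  {σ : G →* RingAut K} {U To E M : Subgroup G} {π : G → W} {b : W → W → Kˣ} {e : ℕ}
  (h : Pk G V K W σ U To E M π b e)
include h

omit [Finite G] [Finite V] [Nontrivial V] [Finite K] in
theorem Pk.U_le : U ≤ M := h.M_eq ▸ le_sup_left

omit [Finite V] [Nontrivial V] [Finite K] in
theorem Pk.card_M : Nat.card M = Nat.card U * e ^ 2 := by
  rw [h.sec.card, inf_eq_left.2 h.U_le, h.card, mul_comm]

omit [Finite V] [Nontrivial V] [Finite K] in
theorem Pk.card_ker : Nat.card σ.ker = Nat.card U * e ^ 2 * Nat.card (img σ.ker W) := by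
  have h1 : (toPermHom σ.ker W).ker = M.subgroupOf σ.ker := by
    ext g
    rw [MonoidHom.mem_ker, Equiv.ext_iff, Subgroup.mem_subgroupOf]
    have := h.Mn
    exact ⟨fun hg => h.kerW g g.2 hg, fun hg w => h.sec.smul_of_mem hg w⟩
  rw [← (toPermHom σ.ker W).ker.card_mul_index, Subgroup.index_ker, h1,
    Nat.card_congr (Subgroup.subgroupOfEquivOfLe (show M ≤ σ.ker from h.σM)).toEquiv, h.card_M]

omit h [Finite G] [Finite V] in
theorem char_field {p : ℕ} (hp : p.Prime) (hV : ∀ v : V, p • v = 0) (σ : G →* RingAut K) :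
    ∃ f, Nat.card K = p ^ f ∧ σ.ker.index ∣ f ∧ 0 < f := by
  have := Fintype.ofFinite K
  obtain ⟨q, hq, f, hq', hf⟩ := FiniteField.card' K
  rw [← Nat.card_eq_fintype_card] at hf
  obtain ⟨v, hv⟩ := exists_ne (0 : V)
  have h1 : (p : K) = 0 := by
    have := hV v
    rw [← Nat.cast_smul_eq_nsmul K, smul_eq_zero] at this
    exact this.resolve_right hv
  obtain rfl : q = p := (Nat.prime_dvd_prime_iff_eq hq' hp).1 ((CharP.cast_eq_zero_iff K q p).1 h1)
  refine ⟨f, hf, ?_, f.pos⟩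
  rw [Subgroup.index_ker, ← H61.natCard_ringEquiv hp hf]
  exact σ.range.card_subgroup_dvd_card

omit [Finite G] [Finite K] in
theorem Pk.pow_finrank {x g u : G} (hx : σ x = 1) (hg : σ g = 1) (hu : u ∈ U)
    (e1 : g * x * g⁻¹ = u * x) : u ^ Module.finrank K V = 1 := by
  have : Module.Finite K V := Module.Finite.of_finite
  obtain ⟨c, hc⟩ := h.Usc u hu
  have hd : ∀ y (hy : σ y = 1), LinearMap.det (h.toEnd y hy) ≠ 0 := fun y hy h0 => by
    have h1 : h.toEnd y hy * h.toEnd y⁻¹ (by rw [map_inv, hy, inv_one]) = 1 :=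
      LinearMap.ext fun v => smul_inv_smul y v
    have h2 := congrArg LinearMap.det h1
    rw [map_mul, h0, zero_mul, map_one] at h2
    exact zero_ne_one h2
  have h1 : h.toEnd g hg * h.toEnd x hx = c • (h.toEnd x hx * h.toEnd g hg) :=
    LinearMap.ext fun v => by
      change g • x • v = c • x • g • v
      rw [← hc, ← mul_smul u, ← e1, mul_smul, mul_smul, inv_smul_smul]
  have h2 := congrArg LinearMap.det h1
  rw [LinearMap.det_smul, map_mul, map_mul, mul_comm (LinearMap.det (h.toEnd g hg)), eq_comm,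
    mul_eq_right₀ (mul_ne_zero (hd x hx) (hd g hg))] at h2
  refine h.faith _ fun v => ?_
  have h3 : ∀ n : ℕ, u ^ n • v = c ^ n • v := fun n => by
    induction n with
    | zero => simp
    | succ n ih => rw [pow_succ', mul_smul, ih, hc, pow_succ', mul_smul]
  rw [h3, h2, one_smul]

end Pk

theorem ordKit : OrdKit.{u} where
  base _ _ _ _ _ _ _ _ _ h := ord_base h
  aff _ _ _ _ _ _ _ _ _ A := ord_aff A
  prime _ _ _ _ _ _ hp := ord_prime hp
  clifford _ _ _ _ _ _ _ h X _ := clifford h X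
  sysCard _ _ _ _ _ _ _ _ _ S := ⟨sys_card S, sys_card_eq S⟩
  pk := by
    intro G V K W _ _ _ _ _ _ _ _ _ _ _ _ _ σ U To E M π b e h
    have : Module.Finite K V := Module.Finite.of_finite
    exact ⟨Module.natCard_eq_pow_finrank, h.card_M, h.card_ker,
      fun p hp hV => char_field hp hV σ, fun r hr hre => (h.dvd r hr hre).trans h.U_dvd,
      fun g hg u hu => h.comm_U hg hu, fun x hx g hg u hu e1 => h.pow_finrank hx hg hu e1⟩

end Cfsg.Agent.H53.MW
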