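import Cfsg.Agent.H53.MWDefs2

/-!
Solvable linear groups (project MW2): the primitive package exists.
-/

set_option autoImplicit false

namespace Cfsg.Agent.H53.MW

open MulAction Cfsg.Agent.H12.RO
open scoped commutatorElement

universe u

theorem card_hom_le (A K : Type*) [Group A] [Finite A] [Field K] :
    Finite (A →* Kˣ) ∧ Nat.card (A →* Kˣ) ≤ Nat.card A := by
  classical
  have := Fintype.ofFinite A
  have h1 : LinearIndependent K fun f : A →* Kˣ => (((Units.coeHom K).comp f : A →* K) : A → K) :=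
    (linearIndependent_monoidHom A K).comp _ fun f g h =>
      MonoidHom.ext fun a => Units.ext (DFunLike.congr_fun h a)
  have h2 : Finite (A →* Kˣ) := h1.finite
  have := Fintype.ofFinite (A →* Kˣ)
  refine ⟨h2, ?_⟩
  have h3 := h1.fintype_card_le_finrank
  rwa [Module.finrank_fintype_fun_eq_card, ← Nat.card_eq_fintype_card,
    ← Nat.card_eq_fintype_card] at h3

section Form

variable {W K : Type*} [AddCommGroup W] [Field K] (b : W → W → Kˣ)

/-- a non-degenerate alternating form with values in the units of a field -/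
structure Alt : Prop where
  l : ∀ x y z, b (x + y) z = b x z * b y z
  r : ∀ x y z, b x (y + z) = b x y * b x z
  self : ∀ x, b x x = 1
  nd : ∀ x, (∀ y, b x y = 1) → x = 0

variable {b} (h : Alt b)
include h

theorem Alt.zero_left (y : W) : b 0 y = 1 := by
  have := h.l 0 0 y
  rw [add_zero] at this
  exact (mul_eq_left.1 this.symm)

theorem Alt.zero_right (x : W) : b x 0 = 1 := by
  have := h.r x 0 0
  rw [add_zero] at this
  exact (mul_eq_left.1 this.symm)

theorem Alt.neg_left (x y : W) : b (-x) y = (b x y)⁻¹ := by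
  rw [eq_inv_iff_mul_eq_one, ← h.l, neg_add_cancel, h.zero_left]

theorem Alt.neg_right (x y : W) : b x (-y) = (b x y)⁻¹ := by
  rw [eq_inv_iff_mul_eq_one, ← h.r, neg_add_cancel, h.zero_right]

theorem Alt.swap (x y : W) : b y x = (b x y)⁻¹ := by
  have := h.self (x + y)
  rw [h.l, h.r, h.r, h.self, h.self, one_mul, mul_one] at this
  rw [eq_inv_iff_mul_eq_one, mul_comm, this]

theorem Alt.nsmul_left (n : ℕ) (x y : W) : b (n • x) y = b x y ^ n := by
  induction n with
  | zero => rw [zero_smul, pow_zero, h.zero_left]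
  | succ n ih => rw [succ_nsmul, h.l, ih, pow_succ]

theorem Alt.zsmul_left (n : ℤ) (x y : W) : b (n • x) y = b x y ^ n := by
  obtain ⟨n, rfl | rfl⟩ := n.eq_nat_or_neg
  · rw [natCast_zsmul, zpow_natCast, h.nsmul_left]
  · rw [neg_smul, h.neg_left, natCast_zsmul, zpow_neg, zpow_natCast, h.nsmul_left]

/-- the orthogonal complement -/
def Alt.perp (A : AddSubgroup W) : AddSubgroup W where
  carrier := {y | ∀ x ∈ A, b x y = 1}
  zero_mem' x _ := h.zero_right x
  add_mem' {y z} hy hz x hx := by rw [h.r, hy x hx, hz x hx, mul_one]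
  neg_mem' {y} hy x hx := by rw [h.neg_right, hy x hx, inv_one]

theorem Alt.mem_perp {A : AddSubgroup W} {y : W} : y ∈ h.perp A ↔ ∀ x ∈ A, b x y = 1 := Iff.rfl

theorem Alt.card_le [Finite W] (A : AddSubgroup W) :
    Nat.card W ≤ Nat.card A * Nat.card (h.perp A) := by
  obtain ⟨h1, h2⟩ := card_hom_le (Multiplicative A) K
  rw [← (h.perp A).index_mul_card]
  refine Nat.mul_le_mul_right _ (le_trans ?_ h2)
  let F : W ⧸ h.perp A → (Multiplicative A →* Kˣ) := fun q =>
    MonoidHom.mk' (fun x => b (x.toAdd : A) q.out) fun x x' => h.l _ _ _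
  refine Nat.card_le_card_of_injective F fun q q' e => ?_
  rw [← q.out_eq', ← q'.out_eq', QuotientAddGroup.eq]
  intro x hx
  have : b x q.out = b x q'.out := DFunLike.congr_fun e (Multiplicative.ofAdd ⟨x, hx⟩)
  rw [h.r, h.neg_right, this, inv_mul_cancel]

theorem Alt.le_card [Finite W] (A : AddSubgroup W) :
    Nat.card A * Nat.card (h.perp A) ≤ Nat.card W := by
  obtain ⟨h1, h2⟩ := card_hom_le (Multiplicative (W ⧸ h.perp A)) K
  rw [← (h.perp A).index_mul_card]
  refine Nat.mul_le_mul_right _ (le_trans ?_ h2)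
  let f : A → W →+ Additive Kˣ := fun x =>
    AddMonoidHom.mk' (fun y => Additive.ofMul (b x y)) fun y z => congrArg _ (h.r _ _ _)
  let F : A → (Multiplicative (W ⧸ h.perp A) →* Kˣ) := fun x =>
    AddMonoidHom.toMultiplicativeLeft (QuotientAddGroup.lift _ (f x) fun y hy =>
      congrArg Additive.ofMul (hy x x.2))
  refine Nat.card_le_card_of_injective F fun x x' e => Subtype.ext ?_
  rw [← sub_eq_zero]
  refine h.nd _ fun y => ?_
  have : b x y = b x' y := DFunLike.congr_fun e (Multiplicative.ofAdd (y : W ⧸ h.perp A))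
  rw [sub_eq_add_neg, h.l, h.neg_left, this, mul_inv_cancel]

theorem Alt.card_mul [Finite W] (A : AddSubgroup W) :
    Nat.card A * Nat.card (h.perp A) = Nat.card W := le_antisymm (h.le_card A) (h.card_le A)

theorem Alt.sup_perp [Finite W] {A : AddSubgroup W} (hA : A ⊓ h.perp A = ⊥) :
    A ⊔ h.perp A = ⊤ := by
  refine AddSubgroup.eq_top_of_le_card _ ?_
  rw [← h.card_mul A, ← Nat.card_prod]
  refine Nat.card_le_card_of_injective (fun x => (⟨x.1 + x.2, AddSubgroup.add_mem_sup x.1.2 x.2.2⟩ :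
    (A ⊔ h.perp A : AddSubgroup W))) ?_
  rintro ⟨x, y⟩ ⟨x', y'⟩ e
  have e' : (x : W) + y = x' + y' := congrArg Subtype.val e
  have h1 : (x : W) - x' = y' - y := by rw [sub_eq_sub_iff_add_eq_add, e', add_comm]
  have h2 : (x : W) - x' ∈ A ⊓ h.perp A :=
    ⟨A.sub_mem x.2 x'.2, h1 ▸ (h.perp A).sub_mem y'.2 y.2⟩
  rw [hA, AddSubgroup.mem_bot] at h2
  rw [h2, eq_comm, sub_eq_zero] at h1
  exact Prod.ext (Subtype.ext (sub_eq_zero.1 h2)) (Subtype.ext h1.symm)

theorem Alt.exists_lagr [Finite W] : ∃ D : AddSubgroup W, h.perp D = D := by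
  obtain ⟨D, hD, hmax⟩ := (wellFounded_gt (α := AddSubgroup W)).has_min
    {D | D ≤ h.perp D} ⟨⊥, (bot_le : ⊥ ≤ h.perp ⊥)⟩
  refine ⟨D, le_antisymm (fun y hy => ?_) hD⟩
  by_contra hn
  refine hmax (D ⊔ AddSubgroup.zmultiples y) (fun z hz x hx => ?_)
    (lt_of_le_not_ge le_sup_left fun e => hn (e (AddSubgroup.mem_sup_right
      (AddSubgroup.mem_zmultiples y))))
  obtain ⟨d, hd, _, ⟨m, rfl⟩, rfl⟩ := AddSubgroup.mem_sup.1 hz
  obtain ⟨d', hd', _, ⟨m', rfl⟩, rfl⟩ := AddSubgroup.mem_sup.1 hx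
  have h1 : b d' (m • y) = 1 := (h.perp D).zsmul_mem hy m d' hd'
  have h2 : b d (m' • y) = 1 := (h.perp D).zsmul_mem hy m' d hd
  change b (d' + m' • y) (d + m • y) = 1
  rw [h.l, h.r, h.r, hD hd d' hd', h1, h.swap d, h2, h.zsmul_left, h.swap (m • y), h.zsmul_left,
    h.self]
  simp

theorem Alt.exists_sq [Finite W] : ∃ e, 0 < e ∧ Nat.card W = e ^ 2 := by
  obtain ⟨D, hD⟩ := h.exists_lagr
  exact ⟨Nat.card D, Nat.card_pos, by rw [← h.card_mul D, hD, sq]⟩

theorem Alt.exists_eq [Finite W] (χ : W → Kˣ) (hχ : ∀ x y, χ (x + y) = χ x * χ y) :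
    ∃ x, ∀ y, b x y = χ y := by
  obtain ⟨h1, h2⟩ := card_hom_le (Multiplicative W) K
  let F : W → (Multiplicative W →* Kˣ) := fun x =>
    MonoidHom.mk' (fun y => b x y.toAdd) fun y z => h.r _ _ _
  have hF : Function.Injective F := fun x x' e => by
    rw [← sub_eq_zero]
    refine h.nd _ fun y => ?_
    have : b x y = b x' y := DFunLike.congr_fun e (Multiplicative.ofAdd y)
    rw [sub_eq_add_neg, h.l, h.neg_left, this, mul_inv_cancel]
  obtain ⟨x, hx⟩ := (hF.bijective_of_nat_card_le h2).2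
    (MonoidHom.mk' (fun y => χ y.toAdd) fun y z => hχ _ _)
  exact ⟨x, fun y => DFunLike.congr_fun hx (Multiplicative.ofAdd y)⟩

end Form

section Main

variable {G V K : Type*} [Group G] [AddCommGroup V] [DistribMulAction G V] [Field K]
  [Module K V] {σ : G →* RingAut K} {U To E : Subgroup G}

theorem exists_unit [Nontrivial V] {g : G} {c : K} (h : ∀ v : V, g • v = c • v) :
    ∃ c : Kˣ, ∀ v : V, g • v = (c : K) • v := by
  refine ⟨Units.mk0 c ?_, h⟩
  rintro rfl
  obtain ⟨v, hv⟩ := exists_ne (0 : V)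
  have := h v
  rw [zero_smul, smul_eq_zero_iff_eq] at this
  exact hv this

theorem unit_ext [Nontrivial V] {c d : Kˣ} (h : ∀ v : V, (c : K) • v = (d : K) • v) : c = d := by
  obtain ⟨v, hv⟩ := exists_ne (0 : V)
  exact Units.ext (smul_left_injective K hv (h v))

theorem mem_M (h : Str G V K σ U To E) {t : G} (ht : t ∈ U ⊔ (To ⊔ E)) :
    ∃ u ∈ U, ∃ s ∈ To ⊔ E, t = u * s := by
  have := h.Un
  obtain ⟨u, hu, s, hs, rfl⟩ := Subgroup.mem_sup_of_normal_left.1 ht
  exact ⟨u, hu, s, hs, rfl⟩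

theorem σ_M (h : Str G V K σ U To E) {t : G} (ht : t ∈ U ⊔ (To ⊔ E)) : σ t = 1 := by
  obtain ⟨u, hu, s, hs, rfl⟩ := mem_M h ht
  rw [map_mul, h.σ_U hu, h.σ_T hs, mul_one]

theorem comm_mul_U (h : Str G V K σ U To E) {s t u : G} (hs : σ s = 1) (ht : σ t = 1)
    (hu : u ∈ U) : ⁅s * u, t⁆ = ⁅s, t⁆ ∧ ⁅t, s * u⁆ = ⁅t, s⁆ := by
  have h1 : ⁅s * u, t⁆ = ⁅s, t⁆ := by
    simp only [commutatorElement_def, mul_inv_rev]
    rw [mul_assoc s u, (h.comm_U ht hu).eq]
    group
  exact ⟨h1, by rw [← commutatorElement_inv, h1, commutatorElement_inv]⟩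

theorem comm_M (h : Str G V K σ U To E) {s t : G} (hs : s ∈ U ⊔ (To ⊔ E))
    (ht : t ∈ U ⊔ (To ⊔ E)) : ⁅s, t⁆ ∈ U := by
  have hs' := σ_M h hs
  obtain ⟨u', hu', t', ht', rfl⟩ := mem_M h ht
  rw [(h.comm_U (h.σ_T ht') hu').eq, (comm_mul_U h (h.σ_T ht') hs' hu').2]
  obtain ⟨u, hu, s', hs1, rfl⟩ := mem_M h hs
  rw [(h.comm_U (h.σ_T hs1) hu).eq, (comm_mul_U h (h.σ_T hs1) (h.σ_T ht') hu).1]
  exact h.comm_T hs1 ht'

theorem cent_M (h : Str G V K σ U To E) {g : G} (hg : σ g = 1)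
    (hc : ∀ t ∈ U ⊔ (To ⊔ E), Commute g t) : g ∈ U :=
  h.cent g hg (fun t ht => hc t (Subgroup.mem_sup_right (Subgroup.mem_sup_left ht)))
    fun t ht => hc t (Subgroup.mem_sup_right (Subgroup.mem_sup_right ht))

theorem scal_mem (h : Str G V K σ U To E) {g : G} (hg : ∃ c : K, ∀ v : V, g • v = c • v)
    [Nontrivial V] : g ∈ U := by
  let B : Subgroup G :=
    { carrier := {g | ∃ c : Kˣ, ∀ v : V, g • v = (c : K) • v}
      one_mem' := ⟨1, by simp⟩
      mul_mem' := by
        rintro a a' ⟨c, hc⟩ ⟨c', hc'⟩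
        exact ⟨c * c', fun v => by rw [mul_smul, hc, hc', Units.val_mul, mul_smul]⟩
      inv_mem' := by
        rintro a ⟨c, hc⟩
        exact ⟨c⁻¹, fun v => by rw [inv_smul_eq_iff, hc, smul_smul]; simp⟩ }
  have hB : B.Normal := ⟨by
    rintro a ⟨c, hc⟩ x
    exact exists_unit (c := σ x c) fun v => by
      rw [mul_smul, mul_smul, hc, h.semi, smul_inv_smul]⟩
  obtain ⟨c, hc⟩ := hg
  refine h.maxU B hB (fun u hu => ?_) ?_ (exists_unit hc)
  · obtain ⟨c, hc⟩ := h.Usc u hu
    exact exists_unit hc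
  · rintro a ⟨c, hc⟩ a' ⟨c', hc'⟩
    rw [← mul_inv_eq_one]
    refine h.faith _ fun v => ?_
    rw [mul_smul, mul_smul, hc, hc', smul_comm, ← hc, ← hc', ← mul_smul, smul_inv_smul]

end Main

theorem pk : PkStmt.{u} := by
  classical
  intro G V _ _ _ _ _ _ _ hf hp
  obtain ⟨K, _, _, _, σ, U, To, E, h⟩ := exists_str hf hp
  have := h.Un
  have := h.T_normal
  set M := U ⊔ (To ⊔ E) with hM
  have hMn : M.Normal := inferInstance
  obtain ⟨W, _, _, π, hπ⟩ := exists_sec U M
    (Subgroup.commutator_le.2 fun s hs t ht => comm_M h hs ht)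
  have hW : Finite W := hπ.finite
  choose r hr hr' using hπ.surj
  have hsc : ∀ u : G, ∃ c : Kˣ, u ∈ U → ∀ v : V, u • v = (c : K) • v := by
    intro u
    by_cases hu : u ∈ U
    · obtain ⟨c, hc⟩ := h.Usc u hu
      obtain ⟨c, hc⟩ := exists_unit hc
      exact ⟨c, fun _ => hc⟩
    · exact ⟨1, fun e => absurd e hu⟩
  choose sc hsc using hsc
  have sc_mul : ∀ a ∈ U, ∀ a' ∈ U, sc (a * a') = sc a * sc a' := fun a ha a' ha' =>
    unit_ext (V := V) fun v => by
      rw [← hsc _ (U.mul_mem ha ha'), mul_smul, hsc _ ha, hsc _ ha', Units.val_mul, mul_smul]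
  have sc_one : ∀ a ∈ U, sc a = 1 → a = 1 := fun a ha e =>
    hf a fun v => by rw [hsc a ha, e]; simp
  have hrs : ∀ s ∈ M, ∃ u ∈ U, s = r (π s) * u := fun s hs =>
    ⟨_, (hπ.eq_iff (hr _) hs).1 (hr' _), by group⟩
  have hcr : ∀ g, σ g = 1 → ∀ t ∈ M, ⁅g, r (π t)⁆ = ⁅g, t⁆ ∧ ⁅r (π t), g⁆ = ⁅t, g⁆ := by
    intro g hg t ht
    obtain ⟨u, hu, e⟩ := hrs t ht
    have := comm_mul_U h (σ_M h (hr (π t))) hg hu
    rw [← e] at this
    exact ⟨this.2.symm, this.1.symm⟩
  let b : W → W → Kˣ := fun x y => sc ⁅r x, r y⁆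
  have hb' : ∀ s ∈ M, ∀ t ∈ M, b (π s) (π t) = sc ⁅s, t⁆ := fun s hs t ht => by
    change sc _ = _
    rw [(hcr _ (σ_M h (hr _)) t ht).1, (hcr _ (σ_M h ht) s hs).2]
  have hb : ∀ s ∈ M, ∀ t ∈ M, ∀ v : V, ⁅s, t⁆ • v = (b (π s) (π t) : K) • v :=
    fun s hs t ht v => by rw [hb' s hs t ht, hsc _ (comm_M h hs ht)]
  -- commutators with an element acting trivially on `W`
  have hχ : ∀ g, σ g = 1 → (∀ t ∈ M, ⁅g, t⁆ ∈ U) → ∀ x y,
      sc ⁅g, r (x + y)⁆ = sc ⁅g, r x⁆ * sc ⁅g, r y⁆ := by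
    intro g hg hc x y
    have h1 := (hcr g hg _ (M.mul_mem (hr x) (hr y))).1
    rw [hπ.mul _ (hr x) _ (hr y), hr', hr'] at h1
    rw [h1, ← sc_mul _ (hc _ (hr x)) _ (hc _ (hr y))]
    congr 1
    have := (h.comm_U (σ_M h (hr x)) (hc _ (hr y))).eq
    calc ⁅g, r x * r y⁆ = ⁅g, r x⁆ * (r x * ⁅g, r y⁆) * (r x)⁻¹ := by
          simp only [commutatorElement_def]; group
      _ = _ := by rw [← this]; group
  have br : ∀ x y z, b x (y + z) = b x y * b x z := fun x =>
    hχ _ (σ_M h (hr x)) fun t ht => comm_M h (hr x) ht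
  have bs : ∀ x y, b y x = (b x y)⁻¹ := fun x y => by
    rw [eq_inv_iff_mul_eq_one]
    change sc _ * sc _ = 1
    rw [← sc_mul _ (comm_M h (hr _) (hr _)) _ (comm_M h (hr _) (hr _)),
      ← commutatorElement_inv (r x), inv_mul_cancel]
    exact unit_ext (V := V) fun v => by rw [← hsc _ U.one_mem]; simp
  have hA : Alt b :=
    { l := fun x y z => by rw [bs, br, mul_inv, ← bs, ← bs]
      r := br
      self := fun x => unit_ext (V := V) fun v => by
        rw [← hsc _ (comm_M h (hr x) (hr x))]; simp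
      nd := fun x hx => by
        rw [← hr' x, hπ.ker _ (hr x)]
        refine cent_M h (σ_M h (hr x)) fun t ht => ?_
        rw [← commutatorElement_eq_one_iff_commute]
        refine sc_one _ (comm_M h (hr x) ht) ?_
        rw [← hb' _ (hr x) t ht, hr', hx] }
  have bg : ∀ (g : G) x y, (b (g • x) (g • y) : K) = σ g (b x y) := by
    intro g x y
    obtain ⟨v, hv⟩ := exists_ne (0 : V)
    refine smul_left_injective K hv ?_
    have h1 := hb _ (hMn.conj_mem _ (hr x) g) _ (hMn.conj_mem _ (hr y) g) v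
    rw [hπ.conj g _ (hr x), hπ.conj g _ (hr y), hr', hr'] at h1
    have h2 := hb _ (hr x) _ (hr y) (g⁻¹ • v)
    rw [hr', hr'] at h2
    change (b _ _ : K) • v = σ g _ • v
    rw [← h1, show ⁅g * r x * g⁻¹, g * r y * g⁻¹⁆ = g * ⁅r x, r y⁆ * g⁻¹ by
      simp only [commutatorElement_def]; group, mul_smul, mul_smul, h2, h.semi, smul_inv_smul]
  obtain ⟨e, he0, he⟩ := hA.exists_sq
  let scU : U →* Kˣ := MonoidHom.mk' (fun a => sc a) fun a a' => sc_mul _ a.2 _ a'.2
  have scU_inj : Function.Injective scU :=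
    (injective_iff_map_eq_one _).2 fun a ha => Subtype.ext (sc_one _ a.2 ha)
  refine ⟨K, inferInstance, inferInstance, inferInstance, W, inferInstance, hW, inferInstance, σ,
    U, To, E, M, π, b, e,
    { toStr := h, M_eq := rfl, Mn := hMn, sec := hπ, σM := fun t ht => σ_M h ht
      kerW := fun g hg hw => ?_
      cr := fun A hA' => ?_
      hb := hb, b_add_left := hA.l, b_add_right := hA.r, b_self := hA.self, b_nd := hA.nd
      b_smul := bg, card := he, pos := he0
      le := ?_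
      dvd := fun p hp hpe => ?_
      U_dvd := ?_
      cyc := isCyclic_of_scalars hf h.Usc
      scal := fun g hg => scal_mem h hg }⟩
  · have hc : ∀ t ∈ M, ⁅g, t⁆ ∈ U := fun t ht => by
      have h1 := (hπ.eq_iff ht (hMn.conj_mem t ht g)).1 (by rw [hπ.conj g t ht, hw])
      have := h.Un.conj_mem _ h1 t
      rwa [show t * (t⁻¹ * (g * t * g⁻¹)) * t⁻¹ = ⁅g, t⁆ by
        rw [commutatorElement_def]; group] at this
    obtain ⟨x, hx⟩ := hA.exists_eq (fun y => sc ⁅g, r y⁆) (hχ g hg hc)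
    have h1 : (r x)⁻¹ * g ∈ U := by
      refine cent_M h (by rw [map_mul, map_inv, σ_M h (hr x), hg]; simp) fun t ht => ?_
      have h2 : ⁅r x, t⁆ = ⁅g, t⁆ := by
        rw [← mul_inv_eq_one]
        refine hf _ fun v => ?_
        have h3 := hx (π t)
        rw [(hcr g hg t ht).1] at h3
        have h4 := hb _ (hr x) t ht
        rw [hr', h3] at h4
        rw [mul_smul, h4, ← hsc _ (hc t ht), smul_inv_smul]
      rw [commutatorElement_def, commutatorElement_def, mul_left_inj] at h2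
      change _ * _ * t = t * _
      calc (r x)⁻¹ * g * t = (r x)⁻¹ * (g * t * g⁻¹) * g := by group
        _ = _ := by rw [← h2]; group
    simpa using M.mul_mem (hr x) (Subgroup.mem_sup_left h1)
  · have hinv : Inv G (hA.perp A) := fun g y hy x hx => by
      have h1 := bg g (g⁻¹ • x) y
      rw [smul_inv_smul, hy _ (hA' g⁻¹ x hx), Units.val_one, map_one] at h1
      exact Units.ext h1
    have hbot : A ⊓ hA.perp A = ⊥ := by
      have hI : Inv G (A ⊓ hA.perp A) := fun g y hy => ⟨hA' g y hy.1, hinv g y hy.2⟩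
      have h1 := h.maxU (hπ.pre (A ⊓ hA.perp A)) (hπ.pre_normal hI) (fun u hu =>
        ⟨Subgroup.mem_sup_left hu, by
          rw [(hπ.ker u (Subgroup.mem_sup_left hu)).2 hu]; exact zero_mem _⟩)
        fun a ha a' ha' => by
          rw [← commutatorElement_eq_one_iff_mul_comm]
          refine sc_one _ (comm_M h ha.1 ha'.1) ?_
          rw [← hb' a ha.1 a' ha'.1]
          exact ha'.2.2 _ ha.2.1
      rw [eq_bot_iff]
      intro x hx
      have := h1 (show r x ∈ hπ.pre _ from ⟨hr x, by rwa [hr']⟩)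
      rw [← hπ.ker _ (hr x), hr'] at this
      exact this
    exact ⟨_, hinv, hbot, hA.sup_perp hbot⟩
  · have := Fintype.ofFinite W
    have hfin : Module.Finite K V := Module.Finite.of_finite
    let ρ : M → Module.End K V := fun t => h.toEnd t (σ_M h t.2)
    have hli : LinearIndependent K fun x : W => ρ ⟨r x, hr x⟩ := by
      rw [Fintype.linearIndependent_iff]
      intro c hc x
      let act : M → Module.End K V →+ Module.End K V := fun d =>
        AddMonoidHom.mk' (fun φ => ρ d * φ * ρ d⁻¹) fun φ ψ => by rw [mul_add, add_mul]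
      let χ : W → M →* K := fun y => (Units.coeHom K).comp (MonoidHom.mk' (fun d => b (π d) y)
        fun d d' => by rw [Subgroup.coe_mul, hπ.mul _ d.2 _ d'.2, hA.l])
      have h1 := eig_indep act χ (fun y => c y • ρ ⟨r y, hr y⟩) (fun y d => by
        refine LinearMap.ext fun v => ?_
        change (d : G) • c y • r y • (d : G)⁻¹ • v = (b (π d) y : K) • c y • r y • v
        have h2 := hb _ d.2 _ (hr y) (r y • v)
        rw [hr', commutatorElement_def, mul_smul, mul_smul, mul_smul, inv_smul_smul] at h2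
        rw [h.lin (σ_M h d.2), h2, smul_comm]) hc (χ x)
      rw [Finset.sum_eq_single x] at h1
      · obtain ⟨v, hv⟩ := exists_ne (0 : V)
        have h2 : c x • r x • v = 0 := LinearMap.congr_fun h1 v
        rw [smul_eq_zero, smul_eq_zero_iff_eq] at h2
        exact h2.resolve_right hv
      · intro y hy hyx
        refine absurd ?_ hyx
        rw [← sub_eq_zero]
        refine hA.nd _ fun z => ?_
        have h2 : b (π (r z)) y = b (π (r z)) x :=
          Units.ext (DFunLike.congr_fun (Finset.mem_filter.1 hy).2 (⟨r z, hr z⟩ : M))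
        rw [hr'] at h2
        rw [hA.swap, sub_eq_add_neg, hA.r, hA.neg_right, h2, mul_inv_cancel, inv_one]
      · simp
    have h3 := hli.fintype_card_le_finrank
    rw [Module.finrank_linearMap, ← Nat.card_eq_fintype_card, he, ← sq] at h3
    exact (Nat.pow_le_pow_iff_left two_ne_zero).1 h3
  · have : Fact p.Prime := ⟨hp⟩
    obtain ⟨x, hx⟩ := exists_prime_addOrderOf_dvd_card' (G := W) p
      (he ▸ hpe.trans (dvd_pow_self e two_ne_zero))
    have hx0 : x ≠ 0 := by
      rintro rfl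
      rw [addOrderOf_zero] at hx
      exact hp.one_lt.ne hx
    obtain ⟨y, hy⟩ : ∃ y, b x y ≠ 1 := by
      by_contra hn
      push Not at hn
      exact hx0 (hA.nd x hn)
    have h1 : b x y ^ p = 1 := by
      rw [← hA.nsmul_left, ← hx, addOrderOf_nsmul_eq_zero, hA.zero_left]
    have h2 := orderOf_eq_prime h1 hy
    have h3 := orderOf_injective scU scU_inj ⟨_, comm_M h (hr x) (hr y)⟩
    rw [← h2]
    exact (show orderOf (b x y) = _ from h3) ▸ orderOf_dvd_natCard _
  · rw [← Nat.card_units]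
    exact Subgroup.card_dvd_of_injective scU scU_inj

end Cfsg.Agent.H53.MW
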