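import Cfsg.Agent.H42.HtDefs

/-!
# Project HT, piece I1: `ρ` is not conjugate in `C(w)` into the component
-/

set_option autoImplicit false

namespace Cfsg.Agent.H53.HtI

open Cfsg Cfsg.Agent.H63 Cfsg.Agent.H63.SL Cfsg.Agent.H63.AN Subgroup Cfsg.Agent.H42.HT
open Cfsg.Agent.H7.AA
open Cfsg.Agent.H68.HN (K K1 eU cU f_uu eU_K1)
open Equiv (swap Perm)
open Equiv.Perm (sign)
open scoped commutatorElement

universe u

variable {G : Type u} [Group G]

theorem root_K {a k : K} (ha : a * a = eU) (hk : k * k = eU) :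
    ∃ m ∈ K1, m * a * m⁻¹ = k ∨ m * a * m⁻¹ = eU * k := by
  obtain ⟨m, m1, hm⟩ := H48.HS.root_class1 ha
  obtain ⟨l, l1, hl⟩ := H48.HS.root_class1 hk
  refine ⟨l⁻¹ * m, mul_mem (inv_mem l1) m1, ?_⟩
  have e : l⁻¹ * m * a * (l⁻¹ * m)⁻¹ = l⁻¹ * (m * a * m⁻¹) * l := by group
  have e1 : l⁻¹ * (l * k * l⁻¹) * l = k := by group
  have e2 : l⁻¹ * (eU * (l * k * l⁻¹)) * l = eU * k := by
    rw [← mul_assoc l⁻¹ eU, ← cU l⁻¹]; group
  rw [e]
  rcases hm with a1 | a1 <;> rcases hl with a2 | a2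
  · left; rw [a1, ← a2, e1]
  · right; rw [← e2, a2, ← mul_assoc eU eU, f_uu, one_mul, a1]
  · right; rw [a1, ← a2, e2]
  · left; rw [a1, ← a2, e1]

theorem root_J {β : A8 →* G} {w r : G} {J : K → G} (h : Ns β w r J) {a k : K} (ha : a ∈ K1)
    (hk : k ∈ K1) (aa : J a * J a = w) (kk : k * k = eU) :
    ∃ m ∈ K1, J m * J a * (J m)⁻¹ = J k ∨ J m * J a * (J m)⁻¹ = w * J k := by
  have : a * a = eU := h.inj _ (mul_mem ha ha) _ eU_K1 (by rw [h.mul _ ha _ ha, aa, h.ju])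
  obtain ⟨m, m1, hm⟩ := root_K this kk
  refine ⟨m, m1, ?_⟩
  rw [h.conj m1 ha, ← h.uj hk]
  exact hm.imp (congrArg J) (congrArg J)

theorem core [Finite G] {β : A8 →* G} {t τ w r : G} {J : K → G} {k : K} (h : Ns β w r J)
    (iz : Iz t r J k) (w2 : w * w = 1) (rr : r * r = w) (τw : Commute τ w)
    (τr : τ * r * τ⁻¹ = r * w)
    (fin : ∀ n, Commute n t → ⁅n, r⁆ ≠ t ∧ ⁅n, r⁆ ≠ t * w)
    (hg : (∃ g ∈ Mr w r, g * t * g⁻¹ = t * w) ∨ ¬ IsConj t (t * w)) :
    ∀ n, Commute n w → ∀ a ∈ K1, n * r * n⁻¹ ≠ J a := by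
  have rw' : Commute r w := by rw [← rr]; exact (Commute.refl r).mul_right (Commute.refl r)
  have rJ : ∀ a ∈ K1, Commute r (J a) := fun a ha => h.cr a ha
  have kw : Commute (J k) w := h.cw iz.k1
  have tw : Commute t w := by rw [iz.tk]; exact rw'.mul_left kw
  have cw : ∀ {n : G}, Commute n w → ∀ x, n * (x * w) * n⁻¹ = n * x * n⁻¹ * w := fun {n} c x => by
    rw [← mul_assoc, mul_assoc _ w, ← c.inv_left.eq, ← mul_assoc]
  have sq : ∀ {n : G}, Commute n w → n * r * n⁻¹ * (n * r * n⁻¹) = w := fun {n} c => by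
    rw [show n * r * n⁻¹ * (n * r * n⁻¹) = n * (r * r) * n⁻¹ by group, rr, c.eq,
      mul_inv_cancel_right]
  have last : ∀ n, Commute n t → n * r * n⁻¹ ≠ J k ∧ n * r * n⁻¹ ≠ J k * w := fun n c => by
    have e : J k * r⁻¹ = t * w := by
      rw [iz.tk, (rJ k iz.k1).eq, mul_assoc (J k) r]
      congr 1
      rw [inv_eq_iff_mul_eq_one, ← mul_assoc, rr, w2]
    refine ⟨fun a => (fin n c).2 ?_, fun a => (fin n c).1 ?_⟩
    · rw [commutatorElement_def, a, e]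
    · rw [commutatorElement_def, a, mul_assoc, ← rw'.inv_left.eq, ← mul_assoc, e, mul_assoc, w2,
        mul_one]
  have main : ∀ n, Commute n w → n * r * n⁻¹ ≠ J k := by
    intro n c e
    have c1 : Commute (n⁻¹ * r * n⁻¹⁻¹) w := (c.inv_left.mul_left rw').mul_left c.inv_left.inv_left
    have c2 : Commute (n⁻¹ * r * n⁻¹⁻¹) r := by
      have := rJ k iz.k1
      rw [← e] at this
      have e2 : n⁻¹ * (r * (n * r * n⁻¹)) * n = n⁻¹ * (n * r * n⁻¹ * r) * n := by rw [this.eq]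
      calc n⁻¹ * r * n⁻¹⁻¹ * r = n⁻¹ * (r * (n * r * n⁻¹)) * n := by group
        _ = _ := e2
        _ = r * (n⁻¹ * r * n⁻¹⁻¹) := by group
    have et : n⁻¹ * t * n⁻¹⁻¹ = n⁻¹ * r * n⁻¹⁻¹ * r := by
      rw [iz.tk, ← e]; group
    obtain ⟨a, a1, ha⟩ := h.dec _ c1 c2 ⟨2, by
      rw [show 2 ^ 2 = 2 * 2 from rfl, pow_mul, pow_two (n⁻¹ * r * n⁻¹⁻¹), sq c.inv_left, pow_two,
        w2]⟩
    rcases ha with ha | ha
    · obtain ⟨m, m1, hm⟩ := root_J h a1 iz.k1 (by rw [← ha, sq c.inv_left]) iz.kk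
      have mr := rJ m m1
      have n1 : Commute (n * (J m)⁻¹) w := c.mul_left (h.cw m1).inv_left
      have n2 : n * (J m)⁻¹ * r * (n * (J m)⁻¹)⁻¹ = J k := by
        rw [← e, mul_assoc n, ← mr.inv_right.eq]; group
      have n3 : (n * (J m)⁻¹)⁻¹ * t * (n * (J m)⁻¹) = J m * J a * (J m)⁻¹ * r := by
        rw [show (n * (J m)⁻¹)⁻¹ * t * (n * (J m)⁻¹) = J m * (n⁻¹ * t * n⁻¹⁻¹) * (J m)⁻¹ by group,
          et, ha, mul_assoc _ _ r, ← mr.inv_right.eq]
        group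
      generalize n * (J m)⁻¹ = p at n1 n2 n3
      rcases hm with b | b
      · rw [b, ← (rJ k iz.k1).eq, ← iz.tk] at n3
        refine (last p ?_).1 n2
        rw [Commute, SemiconjBy]
        calc p * t = p * (p⁻¹ * t * p) := by rw [n3]
          _ = t * p := by group
      · rw [b, mul_assoc w, ← (rJ k iz.k1).eq, ← iz.tk, ← tw.eq] at n3
        rcases hg with ⟨g, g1, g2⟩ | hg
        · obtain ⟨-, g3⟩ := (mem_Mr w2).1 g1
          have c3 : Commute (p * g) t := by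
            rw [Commute, SemiconjBy]
            calc p * g * t = p * (g * t * g⁻¹) * g := by group
              _ = p * (p⁻¹ * t * p) * g := by rw [g2, n3]
              _ = t * (p * g) := by group
          have e3 : p * g * r * (p * g)⁻¹ = p * (g * r * g⁻¹) * p⁻¹ := by group
          rcases g3 with g3 | g3
          · exact (last _ c3).1 (by rw [e3, g3, n2])
          · exact (last _ c3).2 (by rw [e3, g3, cw n1, n2])
        · exact hg (isConj_iff.2 ⟨p⁻¹, by rw [inv_inv, n3]⟩)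
    · refine iz.nlk (eU * a) (mul_mem eU_K1 a1) (isConj_iff.2 ⟨n⁻¹, ?_⟩)
      rw [et, ha, h.uj a1, mul_assoc, ← (rJ a a1).eq, ← mul_assoc, rr]
  intro n c a a1 e
  obtain ⟨m, m1, hm⟩ := root_J h a1 iz.k1 (by rw [← e, sq c]) iz.kk
  have c1 : Commute (J m * n) w := (h.cw m1).mul_left c
  have e1 : J m * n * r * (J m * n)⁻¹ = J m * J a * (J m)⁻¹ := by rw [← e]; group
  rcases hm with b | b
  · exact main _ c1 (e1.trans b)
  · refine main (J m * n * τ) (c1.mul_left τw) ?_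
    rw [show J m * n * τ * r * (J m * n * τ)⁻¹ = J m * n * (τ * r * τ⁻¹) * (J m * n)⁻¹ by group, τr,
      cw c1, e1, b, ← kw.eq, mul_assoc, w2, mul_one]

theorem i1 : I1Stmt.{u} := by
  intro _ G _ _ ψ t fr _ τ h J k co ns iz hg
  have sw : sign w = 1 := by decide
  have sv : sign v = 1 := by decide
  have w2 : ev ψ w * ev ψ w = 1 := by
    rw [← ev_mul sw sw, show w * w = 1 by decide, ev_one]
  have v2 : ev ψ v * ev ψ v = 1 := by
    rw [← ev_mul sv sv, show v * v = 1 by decide, ev_one]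
  have vw : Commute (ev ψ v) (ev ψ w) := ev_comm sv sw (by decide)
  have τ2 : τ * τ = 1 := by
    rw [← co.ht, show h * t * h⁻¹ * (h * t * h⁻¹) = h * (t * t) * h⁻¹ by group, fr.t2]
    group
  have τw : Commute τ (ev ψ w) := co.d1.ac.comm sw (by decide)
  have vτ := fr.cls τ _ co.d1.cm co.d1.ac v sv
  rw [show v * swap 0 1 * v⁻¹ * (swap 0 1)⁻¹ = w by decide, inv_eq_of_mul_eq_one_left v2] at vτ
  have tw : Commute t (ev ψ w) := KA_ev fr.tK _
  have rt : Commute (τ * ev ψ v) t := co.d1.cm.mul_left (Commute.symm (KA_ev fr.tK _))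
  have nt : t ∉ ψ.range := fun m => by
    obtain ⟨σ, -, e⟩ := mem_range_iff.1 m
    exact fr.tn σ e
  refine core (τ := τ) ns iz w2 ?_ τw ?_ (fun n c => ?_) hg
  · rw [mul_assoc, ← mul_assoc (ev ψ v), vτ, ← τw.eq, ← mul_assoc, τ2, one_mul]
  · rw [← mul_assoc, τ2, one_mul, inv_eq_of_mul_eq_one_left τ2, mul_assoc, vw.eq, ← mul_assoc,
      τw.eq, ← vτ, mul_assoc, v2, mul_one]
  · have m : ⁅n, τ * ev ψ v⁆ ∈ ⁅C1[t], C1[t]⁆ := commutator_mem_commutator
      (mem_centralizer_singleton_iff.2 c) (mem_centralizer_singleton_iff.2 rt)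
    refine ⟨fun e => nt (fr.der t (e ▸ m) ⟨1, by rw [pow_one, pow_two, fr.t2]⟩), fun e => nt ?_⟩
    have := fr.der _ (e ▸ m) ⟨1, by
      rw [pow_one, pow_two, mul_assoc, ← mul_assoc (ev ψ w), ← tw.eq, mul_assoc, w2, mul_one,
        fr.t2]⟩
    exact (mul_mem_cancel_right (ev_mem w)).1 this

end Cfsg.Agent.H53.HtI
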