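import Cfsg.Agent.H53.OCKit
import Cfsg.Agent.H82.TI

/-! Pushing up with an odd order group of automorphisms of the Sylow subgroup. -/

set_option autoImplicit false

namespace Cfsg.Agent.H53.OC

open Subgroup Cfsg Cfsg.Agent.H82 Cfsg.Agent.H83

universe u

variable {G : Type u} [Group G] [Finite G] {S : Subgroup G}

omit [Finite G] in
theorem Min.uniqMax (h : Min S) : H85.UniqMax S (normalizer (S : Set G)) ⊤ :=
  ⟨le_normalizer, h.norm_ne.lt_top, fun K h1 h2 => h.max K h1 h2.ne⟩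

theorem Min.inv (hm : Min S) (A : Subgroup (MulAut S)) (hA : Odd (Nat.card A)) :
    ∃ U : Subgroup G, U ≠ ⊥ ∧ U.Normal ∧ U ≤ S ∧
      ∀ a ∈ A, ∀ x : S, (x : G) ∈ U → ((a x : S) : G) ∈ U := by
  have hM := hm.uniqMax
  have hT := hm.syl
  have hH := hm.charP
  have h0 : S ≠ ⊥ := fun h => hm.nn (h ▸ inferInstance)
  by_cases hd : H85.NoChar ⊤ S
  swap
  · simp only [H85.NoChar, not_forall, not_not] at hd
    obtain ⟨C, a, b, c, d⟩ := hd
    exact ⟨C, b, normalizer_eq_top_iff.1 (top_le_iff.1 d), a, fun α _ x hx =>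
      Ch.mem ⟨a, c⟩ α hx⟩
  obtain ⟨X, m, h, hX, hXM⟩ := exists_ti hT hM hH le_rfl le_normalizer (hT.resOf_sup.symm ▸ hT)
    h0 hd
  have hB := H85.bB_le 2 S
  have hV := h.V_le.trans hB
  have hQ := h.Q_le.trans hB
  have hZ := h.ctr_G_le.trans (inf_le_left.trans hB)
  let I : Subgroup (MulAut S) := (MulAut.conj (G := S)).range
  haveI : I.Normal := ⟨by
    rintro _ ⟨s, rfl⟩ α
    exact ⟨α s, by ext x; simp⟩⟩
  obtain ⟨D, h1, h2, h3⟩ := exists_inv_between (V := (ZQ 2 X).subgroupOf S)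
    (Q := (pCoreOf 2 X).subgroupOf S) (A ⊔ I) fun γ hγ => by
      by_contra hn
      have h1 := (h.lg.subgroupOf hB hZ).swap (by
        rw [← map_le_map_iff_of_injective S.subtype_injective,
          Subgroup.map_commutator, subgroupOf_map_of_le hQ, subgroupOf_map_of_le hZ]
        exact h.QQ) (characteristic_iff_map_eq.1 (ch_baum 2 S).ch γ) hn
      obtain ⟨a, ha, i, hi, rfl⟩ := mem_sup_of_normal_right.1 hγ
      obtain ⟨t, ht⟩ : (a * i) ^ Nat.card A ∈ I := by
        rw [← QuotientGroup.eq_one_iff, ← QuotientGroup.mk'_apply, map_pow, map_mul,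
          QuotientGroup.mk'_apply I i, (QuotientGroup.eq_one_iff i).2 hi, mul_one, ← map_pow,
          show a ^ Nat.card A = 1 from congrArg Subtype.val (pow_card_eq_one' (x := (⟨a, ha⟩ : A))),
          map_one]
      rw [← map_odd_pow h1 hA, ← ht] at hn
      refine hn ?_
      rintro _ ⟨x, hx, rfl⟩
      exact h.cj_le_Q hH hX (H85.le_norm_bB (le_norm_of_le hT.pCoreOf_le)) (mem_top (t : G))
        (H85.le_norm_bB le_normalizer t.2) ⟨x, hx, rfl⟩
  obtain ⟨h4, h5⟩ := h.norm_between hM hX hXM hB (D := D.map S.subtype)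
    (by rw [← subgroupOf_map_of_le hV]; exact map_mono h1) (map_le_iff_le_comap.2 h2)
    (le_normalizer_of_conj_mem (by
      rintro g hg _ ⟨x, hx, rfl⟩
      exact ⟨_, h3 _ (mem_sup_right ⟨⟨g, hg⟩, rfl⟩) x hx, rfl⟩))
  exact ⟨_, h4, normalizer_eq_top_iff.1 (top_le_iff.1 h5), map_subtype_le _, fun a ha x hx =>
    mem_map_of_mem _ (h3 a (mem_sup_left ha) x
      ((mem_map_iff_mem S.subtype_injective).1 hx))⟩

end Cfsg.Agent.H53.OC
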