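import Cfsg.Agent.H53.FMCov
import Cfsg.Agent.H77.FPHat

/-! The local analysis: `Y` is strongly closed or one of the two configurations occurs. -/

set_option autoImplicit false

namespace Cfsg.Agent.H53.FL

open Subgroup Cfsg Cfsg.Agent.H83
open Cfsg.Agent.H53.OC (factTwo tot tot_eq tot_mul tot_inv tot_one tot_conj tot_comm tot_pow mem_bar
  mem_pre tot_mem sq HatA LocA)
open Cfsg.Agent.H53.FM (Tr Tor LocC)
open scoped commutatorElement

universe u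

variable {Γ : Type u} [Group Γ] {G A S M E T X D P O : Subgroup Γ} {Q : Type u} [Group Q]

open H63 (pim ppre)

/-- The full configuration. -/
structure Cfg (G A S M E T O P : Subgroup Γ) (f : P →* Q) : Prop extends Cov G S M E T O P f where
  oA : Odd (Nat.card A)
  AS : A ≤ normalizer (S : Set Γ)
  tc : ∀ U : Subgroup Γ, U ≤ S → U ≠ ⊥ → S ≤ normalizer (U : Set Γ) → A ≤ normalizer (U : Set Γ) →
    OF M (G ⊓ normalizer (U : Set Γ))

namespace Cfg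

variable [Finite Γ] [Finite Q] {f : P →* Q} (h : Cfg G A S M E T O P f)
include h

theorem ni (a : OF M (G ⊓ normalizer (X : Set Γ))) : ¬ P ≤ normalizer (X : Set Γ) :=
  fun b => h.not_of (a.mono (le_inf h.PG b))

theorem Z_le : OZ 2 S ≤ OZ 2 T ⊓ E := by
  have h1 : OZ 2 S ≤ centralizer (T : Set Γ) := (OZ_le_cent S).trans (cent_anti h.TS)
  have h2 : OZ 2 S ≤ T := h.hT.ge.trans' (le_inf (OZ_le S)
    (le_norm_of_le_cent (h1.trans (cent_anti h.ET))))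
  exact le_inf (le_OZ h2 h1 fun a ha => (mem_OZ.1 ha).2.2)
    ((le_inf h2 (h1.trans (cent_anti h.ET))).trans h.cent_le)

theorem not_cent : ¬ (⊤ : Subgroup Q) ≤ centralizer (pim f (OZ 2 S) : Set Q) := fun h1 => by
  have h0 : S ≠ ⊥ := fun h0 => h.min'.nn (by
    rw [le_bot_iff.1 (h.TS.trans h0.le), H63.pim_bot]; infer_instance)
  refine h.ni (h.tc _ (OZ_le S) (OZ_ne_bot h.sy.isPGroup h0) (norm_OZ le_normalizer) (norm_OZ h.AS))
    (le_norm_of_le_cent fun g hg => ?_)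
  exact (h.cent_iff (h.Z_le.trans inf_le_right) h.ET hg (h.PE hg)).1 (h1 (mem_top _))

theorem bar_Z : pim f (OZ 2 S) ≤ OZ 2 (pim f T) := fun y hy => by
  have h1 := h.Z_le.trans inf_le_left
  obtain ⟨a, ha, rfl⟩ := (mem_bar f (h1.trans ((OZ_le T).trans h.TP))).1 hy
  exact (h.OZ_iff le_rfl (OZ_le T (h1 ha))).2 (h1 ha)

theorem not_res {V : Subgroup Q} (hV : pim f (OZ 2 S) ≤ V) :
    ¬ resOf 2 (⊤ : Subgroup Q) ≤ centralizer (V : Set Q) := fun h1 =>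
  h.not_cent (h.min'.syl.resOf_sup.ge.trans (sup_le (h1.trans (cent_anti hV))
    ((le_cent_OZ _).trans (cent_anti h.bar_Z))))

theorem lt : T < S := by
  refine lt_of_le_of_ne h.TS fun h0 => ?_
  subst h0
  obtain ⟨θ, hθ⟩ := h.exists_aut
  obtain ⟨U, h1, h2, h3, h4⟩ := H77.FP.inv Q _ _ h.min' ((A.subgroupOf _).map θ) (by
    refine Odd.of_dvd_nat h.oA ?_
    rw [← card_subgroupOf h.AS]
    exact card_map_dvd _ _)
  obtain ⟨X, hX, rfl⟩ := h.exists_pull h3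
  refine h.ni (h.tc X hX (fun h5 => h1 (by rw [h5, H63.pim_bot]))
    (h.TP.trans (h.norm_of_normal hX h2).2) fun a ha =>
    mem_normalizer_fintype fun x hx => ?_) (h.norm_of_normal hX h2).2
  have := h4 _ (mem_map_of_mem θ (show ⟨a, h.AS ha⟩ ∈ A.subgroupOf _ from ha))
    ⟨_, tot_mem f h.TP (hX hx)⟩ (tot_mem f (hX.trans h.TP) hx)
  rw [hθ _ _ (hX hx)] at this
  exact (h.mem_iff hX (conj_mem h.AS ha (hX hx))).1 this

theorem lt_norm : T < S ⊓ normalizer (T : Set Γ) := lt_inf_normalizer h.sy.isPGroup h.lt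

theorem norm_of_aut (hX : X ≤ T) {n : Γ} (hn : n ∈ normalizer (T : Set Γ))
    {φ : MulAut (pim f T)}
    (hφ : ∀ (a : Γ) (ha : a ∈ T), (φ ⟨tot f a, tot_mem f h.TP ha⟩ : Q) = tot f (n * a * n⁻¹))
    (h1 : ∀ c : pim f T, (c : Q) ∈ pim f X → (φ c : Q) ∈ pim f X) : n ∈ normalizer (X : Set Γ) :=
  mem_normalizer_fintype fun x hx => (h.mem_iff hX (conj_mem le_rfl hn (hX hx))).1
    (hφ x (hX hx) ▸ h1 ⟨_, tot_mem f h.TP (hX hx)⟩ (tot_mem f (hX.trans h.TP) hx))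

theorem pushed : H85.FP.Pushed (pim f T) (pim f (P ⊓ rls G M E)) := by
  obtain ⟨θ, hθ⟩ := h.exists_aut
  refine ⟨h.min', ?_, fun h1 => h.not_cent (h1.ge.trans (cent_anti h.bar_Z)), fun h1 => ?_⟩
  · let D : Subgroup Γ := sSup {X | X ≤ E ∧ P ⊔ S ⊓ normalizer (T : Set Γ) ≤ normalizer (X : Set Γ)}
    have hE : D ≤ E := sSup_le fun X hX => hX.1
    have hn : P ⊔ S ⊓ normalizer (T : Set Γ) ≤ normalizer (D : Set Γ) := fun g hg => by
      rw [← cj_eq_self_iff, cj]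
      unfold D
      rw [sSup_eq_iSup', Subgroup.map_iSup]
      exact iSup_congr fun X => cj_eq_self (X.2.2 hg)
    have hD := hE.trans h.ET
    refine H77.FP.push Q _ _ (pim f D) h.min' (h.normal_bar (le_sup_left.trans hn)) (H63.pim_mono f hD)
      (h.res_le hE (le_sup_left.trans hn) (h.lt_norm.trans_le (le_inf inf_le_left
        (le_sup_right.trans hn)))) (fun C h1 h2 h3 => ?_)
      (h.not_res (h.bar_Z.trans (H77.FP.min_OZ_le h.min')))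
    obtain ⟨X, hX, rfl⟩ := h.exists_pull h2
    obtain ⟨h4, h5⟩ := h.norm_of_normal hX h1
    refine H63.pim_mono f (le_sSup ⟨h4, sup_le h5 fun n hn' => ?_⟩)
    refine h.norm_of_aut hX hn'.2 (hθ ⟨n, hn'.2⟩) (h3 _ fun d => ?_)
    obtain ⟨_, hd⟩ := d
    obtain ⟨a, ha, rfl⟩ := (mem_bar f h.TP).1 hd
    rw [hθ _ _ ha, h.mem_iff hD ha, h.mem_iff hD (conj_mem le_rfl hn'.2 ha)]
    exact mem_normalizer_iff.1 (hn (mem_sup_right hn')) a
  · obtain ⟨X, hX, h2⟩ := h.exists_pull (H85.bJ_le 2 (pim f T))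
    obtain ⟨h4, h5⟩ := h.norm_of_normal hX (h2 ▸ h1)
    refine h.not_res (V := pim f X) ?_ (h.res_le h4 h5 (h.lt_norm.trans_le (le_inf inf_le_left
      fun n hn => h.norm_of_aut hX hn.2 (hθ ⟨n, hn.2⟩) fun c hc => ?_)))
    · rw [h2]
      exact h.bar_Z.trans ((H85.oz_le_zJ _).trans (OZ_le _))
    · rw [h2] at hc ⊢
      exact (H82.ch_J 2 _).mem _ hc

theorem m1 (hX : X ≤ E) (hn : (pim f X).Normal)
    (hc : ¬ resOf 2 (⊤ : Subgroup Q) ≤ centralizer (pim f X : Set Q)) :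
    S ⊓ normalizer (X : Set Γ) ≤ T := by
  by_contra h1
  have h2 := (h.norm_of_normal (hX.trans h.ET) hn).2
  exact hc (h.res_le hX h2 (lt_of_le_not_ge (le_inf h.TS (h.TP.trans h2)) h1))

theorem locA {U : Subgroup Q} {u x t : Q} (a : HatA (pim f T) U u x t) :
    ∃ U u x t, LocA G S E U u x t := by
  have hc := h.core_eq
  obtain ⟨W, hW, rfl⟩ := h.exists_pull (a.UV.trans ((OZ_le _).trans (H77.FP.min_E_le h.min')))
  have hWP := hW.trans h.TP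
  have hV : W ≤ OZ 2 E := fun w hw => (h.OZ_iff h.ET (hW hw)).1 (hc ▸ a.UV (tot_mem f hWP hw))
  have hWE := hV.trans (OZ_le E)
  obtain ⟨u, hu, rfl⟩ := (mem_bar f hWP).1 a.mem
  obtain ⟨x, hx, rfl, hxo⟩ := h.exists_odd a.xo
  obtain ⟨t, ht, rfl⟩ := (mem_bar f h.TP).1 a.tT
  have cE : ∀ e ∈ E, ∀ g ∈ P, ⁅e, g⁆ ∈ T := fun e he g hg => h.ET (by
    simpa only [commutatorElement_def, mul_assoc] using
      E.mul_mem he (conj_mem h.PE hg (E.inv_mem he)))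
  have cjW : ∀ g ∈ T, cj g W ≤ E := fun g hg => cj_le_of_norm hWE (h.TN hg)
  have bcj : ∀ g ∈ T, pim f (cj g W) = cj (tot f g) (pim f W) := fun g hg => by
    rw [tot_eq f (h.TP hg)]; exact H63.pim_cj f (h.TP hg) W
  have hT := h.hT
  refine ⟨W, u, x, t, h.sy.le, h.sy.isPGroup, h.ET.trans h.TS, hT ▸ h.syl,
    fun h1 => h.lt.not_ge (hT.ge.trans' (le_inf le_rfl h1)), hV, (h.card_bar hW).symm.trans a.card, hu,
    fun h1 => a.ne (h1 ▸ tot_one f), h.PG hx, hxo, fun e he => ?_,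
    fun h1 => a.xU ((h.cent_iff hWE h.ET hx (h.PE hx)).2 h1), hT ▸ ht, fun v hv => ?_,
    fun h1 => a.tU ((h.cent_iff hW le_rfl (h.TP ht) (le_normalizer ht)).2 h1), fun g hg => ?_,
    fun s hs h1 => ?_, fun X h1 h2 h3 => ?_⟩
  · rw [← h.mem_iff hW (cE e he x hx), tot_comm f (h.EP he) hx]
    exact a.xE _ (hc ▸ tot_mem f h.EP he)
  · have hv' := OZ_le E hv
    have := a.tV (tot f v) (hc ▸ (h.OZ_iff h.ET (h.ET hv')).2 hv)
    rw [← tot_comm f (h.EP hv') (h.TP ht), ← tot_one f] at this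
    exact this.imp (h.inj (cE v hv' t (h.TP ht)) T.one_mem) (h.inj (cE v hv' t (h.TP ht)) (hW hu))
  · rw [← hT] at hg
    have h1 := (cjW g hg).trans h.ET
    rcases a.ti _ (tot_mem f h.TP hg) with h2 | ⟨h2, h3⟩
    · rw [← bcj g hg] at h2
      exact Or.inl (le_antisymm ((h.bar_le h1 hW).1 h2.le) ((h.bar_le hW h1).1 h2.ge))
    · rw [← bcj g hg] at h2
      have h4 := T.mul_mem (T.mul_mem hg ht) (T.inv_mem hg)
      refine Or.inr ⟨le_bot_iff.1 ((h.bar_le (inf_le_left.trans hW) bot_le).1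
        ((H63.pim_inf_le f _ _).trans (h2.le.trans bot_le))),
        (h.cent_iff hW le_rfl (h.TP h4) (le_normalizer h4)).1 ?_⟩
      rwa [tot_conj f (h.TP hg) (h.TP ht)]
  · rw [← hT] at hs h1
    rw [← h.mem_iff h.ET hs, ← hc]
    refine a.cT _ (tot_mem f h.TP hs) fun y hy => ?_
    obtain ⟨g, hg, rfl⟩ := (mem_bar f h.TP).1 hy
    rw [← bcj g hg]
    exact (h.cent_iff ((cjW g hg).trans h.ET) le_rfl (h.TP hs) (le_normalizer hs)).2 (h1 g hg)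
  · rw [← hT] at h3
    refine (h.m1 h2 (a.nrm _ (H63.pim_mono f h1) (hc ▸ H63.pim_mono f h2) (H63.pim_norms f h3))
      fun h4 => a.xU (cent_anti (H63.pim_mono f h1) (h4 (mem_resOf (mem_top _)
        (Nat.coprime_two_right.2 a.xo))))).trans h.TN

theorem tor {W T₀ : Subgroup Γ} {H : Subgroup Q} (hW : W ≤ T) (hV : W ≤ centralizer (W : Set Γ))
    (hT : T₀ ≤ T ⊓ normalizer (W : Set Γ)) (a : Tor (pim f T) (pim f T₀) (pim f W) H)
    (h1 : ⁅W, T₀⁆ ≤ D) (h2 : D ≤ ⁅W, T₀⁆ ⊔ sq (T ⊓ centralizer (W : Set Γ))) :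
    ∃ H : Subgroup Γ, H ≤ G ⊓ normalizer (D : Set Γ) ∧ Odd (Nat.card H) ∧ Tr D H := by
  have hJ : ⁅W, T₀⁆ ≤ W := comm_le_left (hT.trans inf_le_right)
  have hF : sq (T ⊓ centralizer (W : Set Γ)) ≤ T := (OC.sq_le _).trans inf_le_left
  have hD : D ≤ T := h2.trans (sup_le (hJ.trans hW) hF)
  have e1 := H63.pim_commutator f (hW.trans h.TP) (hT.trans (inf_le_left.trans h.TP))
  have e2 : pim f (sq (T ⊓ centralizer (W : Set Γ))) =
      sq (pim f T ⊓ centralizer (pim f W : Set Q)) := by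
    rw [h.bar_sq inf_le_left, h.bar_inf_cent hW]
  have b1 : ⁅pim f W, pim f T₀⁆ ≤ pim f D := e1 ▸ H63.pim_mono f h1
  have b2 : pim f D ≤ ⁅pim f W, pim f T₀⁆ ⊔ sq (pim f T ⊓ centralizer (pim f W : Set Q)) := by
    rw [← e1, ← e2, ← H63.pim_sup f (hJ.trans (hW.trans h.TP)) (hF.trans h.TP)]
    exact H63.pim_mono f h2
  have b3 : ⁅pim f W, pim f T₀⁆ ≤ pim f W := e1 ▸ H63.pim_mono f hJ
  set J := ⁅pim f W, pim f T₀⁆
  have b4 : J ⊔ sq (pim f T ⊓ centralizer (pim f W : Set Q)) ≤ centralizer (pim f W : Set Q) :=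
    sup_le (b3.trans (H63.pim_cents f hV)) ((OC.sq_le _).trans inf_le_right)
  have b5 : ⁅J, H⁆ ≤ J := comm_le_left a.nrm
  have b6 : ⁅pim f D, H⁆ = ⁅J, H⁆ := le_antisymm ((commutator_mono b2 le_rfl).trans
    (comm_sup_left_le le_rfl ((comm_eq_bot_iff.2 a.cen).le.trans bot_le)
      (le_norm_of_le_cent (b4.trans (cent_anti (b5.trans b3)))))) (commutator_mono b1 le_rfl)
  have b7 : H ≤ normalizer (pim f D : Set Q) :=
    fun y hy => OC.norm_of_comm b1 fun d hd => b5 (b6.le (commutator_mem_commutator hd hy))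
  have b8 : ∀ y ∈ H, ∃ b ∈ ppre f H ⊓ normalizer (D : Set Γ), tot f b = y := fun y hy => by
    obtain ⟨b, hb, rfl⟩ := h.lift_norm hD (b7 hy)
    exact ⟨b, ⟨(mem_pre f).2 ⟨hb.1, hy⟩, hb.2⟩, rfl⟩
  have b9 : ppre f H ⊓ normalizer (D : Set Γ) ≤ P := inf_le_left.trans (H63.ppre_le_dom f H)
  have e3 : pim f ⁅D, ppre f H ⊓ normalizer (D : Set Γ)⁆ = ⁅J, H⁆ := by
    rw [H63.pim_commutator f (hD.trans h.TP) b9, ← b6]
    congr 1
    exact le_antisymm (H63.pim_le_of_le_ppre f inf_le_left) fun y hy => (mem_bar f b9).2 (b8 y hy)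
  have b10 : ⁅D, ppre f H ⊓ normalizer (D : Set Γ)⁆ ≤ D := comm_le_left inf_le_right
  refine ⟨ppre f H ⊓ normalizer (D : Set Γ), inf_le_inf_right _ ((H63.ppre_le_dom f H).trans h.PG),
    Odd.of_dvd_nat (h.odd_pre a.odd) (card_dvd_of_le inf_le_left),
    fun h3 => a.tr.1 (by rw [← e3, h3, H63.pim_bot]), fun v hv w hw h3 h4 => ?_⟩
  have key : ∀ v ∈ ⁅D, ppre f H ⊓ normalizer (D : Set Γ)⁆, v ≠ 1 → tot f v ∈ ⁅J, H⁆ ∧ tot f v ≠ 1 :=
    fun v hv h3 => ⟨e3 ▸ tot_mem f (b10.trans (hD.trans h.TP)) hv,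
      fun h5 => h3 (h.inj (hD (b10 hv)) T.one_mem (h5.trans (tot_one f).symm))⟩
  obtain ⟨y, hy, h5⟩ := a.tr.2 _ (key v hv h3).1 _ (key w hw h4).1 (key v hv h3).2 (key w hw h4).2
  obtain ⟨b, hb, rfl⟩ := b8 y hy
  refine ⟨b, hb, h.inj (hD (conj_mem le_rfl hb.2 (b10 hv))) (hD (b10 hw)) ?_⟩
  rw [tot_conj f (b9 hb) (h.TP (hD (b10 hv))), h5]

theorem locC {T₀ U I K H : Subgroup Q} (a : H85.FP.HatB (pim f T) T₀ U I K)
    (b : Tor (pim f T) T₀ U H) : ∃ T₀ U I, LocC G S T T₀ E U I := by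
  have hc := h.core_eq
  obtain ⟨W, hW, rfl⟩ := h.exists_pull (a.UV.trans ((OZ_le _).trans (H77.FP.min_E_le h.min')))
  obtain ⟨T₀, hT, rfl⟩ := h.exists_pull (a.le.trans inf_le_left)
  obtain ⟨I, hI, rfl⟩ := h.exists_pull (a.IU.trans (H63.pim_mono f hW))
  have hWP := hW.trans h.TP
  have hV : W ≤ OZ 2 E := fun w hw => (h.OZ_iff h.ET (hW hw)).1 (hc ▸ a.UV (tot_mem f hWP hw))
  have hWE := hV.trans (OZ_le E)
  have hN : T₀ ≤ T ⊓ normalizer (W : Set Γ) := fun t ht =>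
    ⟨hT ht, (h.normT hW (hT ht)).1 (a.le (tot_mem f (hT.trans h.TP) ht)).2⟩
  have cjW : ∀ g ∈ T, cj g W ≤ T := fun g hg => cj_le_of_mem hW hg
  have cT : ∀ {x y : Γ}, x ∈ T → y ∈ T → ⁅x, y⁆ ∈ T := fun hx hy =>
    T.mul_mem (T.mul_mem (T.mul_mem hx hy) (T.inv_mem hx)) (T.inv_mem hy)
  have eF := h.bar_inf_cent hW
  refine ⟨T₀, W, I, ⟨⟨h.sy.isPGroup, h.lt, h.ET, h.TN, hV, (h.bar_le hI hW).1 a.IU, ?_,
    (h.bar_le inf_le_left hT).1 (eF ▸ a.ge), hN, ?_, fun t ht h1 v hv h2 => ?_, fun g hg h1 => ?_,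
    fun g hg h1 => ?_, fun n hn h1 y hy h2 => ?_, fun s hs h1 => ?_, fun X h1 h2 h3 => ?_⟩,
    fun D h1 h2 h3 => ?_⟩,
    fun D => h.tor hW (hWE.trans ((le_cent_OZ E).trans (cent_anti hV))) hN b⟩
  · obtain ⟨v, hv, w, hw, h1, h2, h3⟩ := a.q2
    obtain ⟨v, hv', rfl⟩ := (mem_bar f hWP).1 hv
    obtain ⟨w, hw', rfl⟩ := (mem_bar f hWP).1 hw
    rw [← tot_mul f (hWP hv') (hWP hw')] at h3
    exact ⟨v, hv', w, hw', fun h4 => h1 (tot_mem f (hI.trans h.TP) h4),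
      fun h4 => h2 (tot_mem f (hI.trans h.TP) h4), fun h4 => h3 (tot_mem f (hI.trans h.TP) h4)⟩
  · rw [← h.card_bar hT, ← h.card_bar hI, ← h.card_bar hW, ← h.card_bar inf_le_left, eF]
    exact a.card
  · rw [← h.mem_iff hI (hW hv)]
    refine a.quad _ (tot_mem f (hT.trans h.TP) ht) (fun h3 => h1 ((h.centT hW (hT ht)).1 h3)) _
      (tot_mem f hWP hv) ?_
    rw [← tot_comm f (hWP hv) (h.TP (hT ht)), ← eF, ← h.bar_sq inf_le_left]
    exact tot_mem f ((OC.sq_le _).trans (inf_le_left.trans h.TP)) h2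
  · obtain ⟨t, ht, h2, h3⟩ := a.a1 _ (tot_mem f h.TP hg) fun h2 => h1 ((h.normT hW hg).1 h2)
    obtain ⟨t, ht', rfl⟩ := (mem_bar f (hT.trans h.TP)).1 ht
    exact ⟨t, ht', fun h4 => h2 ((h.centT hW (hT ht')).2 h4),
      (h.centT (cjW g hg) (hT ht')).1 (by rw [h.bar_cj (h.TP hg)]; exact h3)⟩
  · rw [← h.mem_iff hT hg.1]
    refine a.a2 _ ⟨tot_mem f h.TP hg.1, (h.normT hW hg.1).2 hg.2⟩ fun t ht => ?_
    obtain ⟨t, ht', rfl⟩ := (mem_bar f h.TP).1 ht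
    rw [← tot_comm f (h.TP ht') (h.TP hg.1)]
    exact (h.centT hW (cT ht' hg.1)).2 (h1 t ht')
  · rw [← h.mem_iff hT hy]
    refine a.a3 _ (tot_mem f (hT.trans h.TP) hn) (fun h3 => h1 ((h.centT hW (hT hn)).1 h3)) _
      (tot_mem f h.TP hy) fun v hv => ?_
    obtain ⟨v, hv', rfl⟩ := (mem_bar f hWP).1 hv
    have h3 := h.TP (cT (hW hv') (hT hn))
    rw [← tot_comm f (hWP hv') (h.TP (hT hn)), ← tot_mul f (h.TP hy) h3, ← tot_mul f h3 (h.TP hy),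
      h2 v hv']
  · rw [← h.mem_iff h.ET hs, ← hc]
    refine a.cT _ (tot_mem f h.TP hs) fun y hy => ?_
    obtain ⟨g, hg, rfl⟩ := (mem_bar f h.TP).1 hy
    have := (h.centT (cjW g hg) hs).2 (h1 g hg)
    rwa [h.bar_cj (h.TP hg)] at this
  · exact h.m1 h2 (a.nrm _ (H63.pim_mono f h1) (hc ▸ H63.pim_mono f h2) (H63.pim_norms f h3))
      fun h4 => a.nc (h4.trans (cent_anti (H63.pim_mono f h1)))
  · have h4 : K ≤ normalizer (pim f D : Set Q) := fun y hy =>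
      OC.norm_of_comm (H63.pim_mono f h1) fun d hd =>
        a.kc (commutator_mem_commutator (eF ▸ H63.pim_mono f h2 hd) hy)
    have h5 : K ≤ pim f (G ⊓ normalizer (D : Set Γ)) := fun y hy => by
      obtain ⟨b, hb, rfl⟩ := h.lift_norm (h2.trans inf_le_left) (h4 hy)
      exact H63.pim_mono f (inf_le_inf_right _ h.PG) (tot_mem f inf_le_left hb)
    haveI := H63.pim_isSolvable f h3
    exact a.ks (Group.isSolvable_of_isSolvable_injective (inclusion_injective h5))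

end Cfg

theorem loc (hh : FM.HatStmt.{u}) : FM.LocStmt.{u} := by
  intro Γ _ _ G A S Y h1 h2 h3 h4 y
  have c : Ctx G S (G ⊓ normalizer (Y : Set Γ)) := ⟨h3, inf_le_left, le_inf inf_le_left y.nS⟩
  by_cases hb : ∀ X, FN G S X → Gd G (G ⊓ normalizer (Y : Set Γ)) X
  · refine Or.inl fun g hg x hx h5 => ?_
    obtain ⟨m, hm, h6⟩ := c.alp (k := 0) (fun X a _ => hb X a) ((zpowers_le (G := Γ)).2 (y.le hx))
      (Nat.zero_le _) g hg (by rw [cj, MonoidHom.map_zpowers]; exact (zpowers_le (G := Γ)).2 h5)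
    rw [h6 x (mem_zpowers x)]
    exact conj_mem le_rfl hm.2 hx
  push Not at hb
  obtain ⟨X, a, b⟩ := hb
  obtain ⟨E, T, h5⟩ := c.exists_bad a b
  obtain ⟨O, P, h6⟩ := h5.exists_par
  obtain ⟨Q, _, _, f, h7⟩ := h6.exists_cov
  have h : Cfg G A S _ E T O P f := ⟨h7, h1, h4, fun U a b c d => by
    obtain ⟨O, e1, e2, e3, e4⟩ := y.loc U a b c d
    refine ⟨O, e2, e3, fun n hn => ?_⟩
    obtain ⟨o, ho, e5⟩ := e4 _ (inv_mem hn)
    exact ⟨_, inv_mem ⟨G.mul_mem (G.inv_mem (e1 ho).1) (G.inv_mem hn.1), e5⟩,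
      by simpa using ho⟩⟩
  rcases hh Q _ _ h.pushed with ⟨U, u, x, t, a⟩ | ⟨T₀, U, I, K, H, a, b⟩
  · obtain ⟨U, u, x, t, a⟩ := h.locA a
    exact Or.inr (Or.inl ⟨E, U, u, x, t, a⟩)
  · obtain ⟨T₀, U, I, a⟩ := h.locC a b
    exact Or.inr (Or.inr ⟨T, T₀, E, U, I, a⟩)

end Cfsg.Agent.H53.FL
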