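import Cfsg.Agent.H63.GvDefs

/-! Project CY, piece CL2: normalised `2`-groups have class at most two. -/

set_option autoImplicit false

namespace Cfsg.Agent.H53.CyCl2

open Subgroup Cfsg.Agent.H11.Cy Cfsg.Agent.H45.Iv Cfsg.Agent.H63.Gv
open scoped commutatorElement

/-- A nilpotent group whose characteristic abelian subgroups are central has class at most two. -/
theorem class_two {H : Type} [Group H] [Group.IsNilpotent H]
    (h : ∀ K : Subgroup H, K.Characteristic → (∀ u ∈ K, ∀ v ∈ K, u * v = v * u) → K ≤ center H) :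
    commutator H ≤ center H := by
  have z2 : ⁅(⊤ : Subgroup H), Subgroup.upperCentralSeries H 2⁆ ≤ center H := by
    rw [commutator_comm, commutator_le, ← Subgroup.upperCentralSeries_one]
    exact fun x hx y _ => Subgroup.mem_upperCentralSeries_succ_iff.1 hx y
  have z3 : ⁅⁅(⊤ : Subgroup H), Subgroup.upperCentralSeries H 2⁆, (⊤ : Subgroup H)⁆ = ⊥ := by
    rw [commutator_eq_bot_iff_le_centralizer, coe_top, centralizer_univ]
    exact z2
  have z4 : ⁅⁅(⊤ : Subgroup H), (⊤ : Subgroup H)⁆, Subgroup.upperCentralSeries H 2⁆ = ⊥ :=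
    commutator_commutator_eq_bot_of_rotate z3 (by rwa [commutator_comm (Subgroup.upperCentralSeries H 2)])
  have k : commutator H ⊓ Subgroup.upperCentralSeries H 2 ≤ center H := by
    refine h _ (characteristic_iff_comap_eq.2 fun φ => ?_) fun u hu v hv => ?_
    · rw [comap_inf, characteristic_iff_comap_eq.1 inferInstance φ,
        characteristic_iff_comap_eq.1 inferInstance φ]
    · exact ((commutator_eq_bot_iff_le_centralizer.1 z4) hu.1 v hv.2).symm
  have key : ∀ n, commutator H ⊓ Subgroup.upperCentralSeries H n ≤ center H := by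
    intro n
    induction n with
    | zero => exact inf_le_right.trans bot_le
    | succ n ih =>
      intro x hx
      refine k ⟨hx.1, Subgroup.mem_upperCentralSeries_succ_iff.2 fun y => ?_⟩
      rw [Subgroup.upperCentralSeries_one]
      exact ih ⟨commutator_mem_commutator (mem_top x) (mem_top y),
        Subgroup.mem_upperCentralSeries_succ_iff.1 hx.2 y⟩
  obtain ⟨n, hn⟩ := Group.IsNilpotent.nilpotent H
  simpa [hn] using key n

theorem cl2 : Cl2Stmt := by
  intro G _ _ Ω _ _ p A _ c ab Φ T hT hM hN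
  have := Fact.mk Nat.prime_two
  have ch : ∀ K : Subgroup T, K.Characteristic → (∀ u ∈ K, ∀ v ∈ K, u * v = v * u) →
      ∀ k ∈ K, (k : G) ∈ Cs A Φ := fun K hK ha k hk => by
    refine (c.sk.cs Φ k).2 fun w hw => ab w (K.map T.subtype) ((hT.to_subgroup K).map _) ?_ ?_ k
      ⟨k, hk, rfl⟩
    · rintro _ ⟨u, hu, rfl⟩ _ ⟨v, hv, rfl⟩
      exact congrArg Subtype.val (ha u hu v hv)
    · rintro a ha' _ ⟨s, hs, rfl⟩
      have hn : a ∈ normalizer (T : Set G) := mem_normalizer_iff.2 fun x =>
        ⟨hN w hw a ha' x, fun hx => by simpa [mul_assoc] using hN w hw _ (inv_mem ha') _ hx⟩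
      exact ⟨T.normalizerMonoidHom ⟨a, hn⟩ s,
        characteristic_iff_map_le.1 hK (T.normalizerMonoidHom ⟨a, hn⟩) ⟨s, hs, rfl⟩, rfl⟩
  have zc : ∀ k ∈ center T, (k : G) ∈ Cs A Φ :=
    ch _ inferInstance fun u _ v hv => mem_center_iff.1 hv u
  refine ⟨fun t ht h => zc ⟨t, ht⟩ (mem_center_iff.2 fun s => Subtype.ext (h s s.2).symm),
    fun s hs t ht => ?_⟩
  have := hT.isNilpotent
  exact zc ⁅(⟨s, hs⟩ : T), ⟨t, ht⟩⁆ (class_two (fun K hK ha k hk => mem_center_iff.2 fun x =>
    Subtype.ext (ch K hK ha k hk x (hM x.2))) (commutator_mem_commutator (mem_top _) (mem_top _)))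

end Cfsg.Agent.H53.CyCl2
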