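import Cfsg.Agent.H26.PInst
import Cfsg.Agent.H78.FrameRD
import Cfsg.Agent.H78.Levi
import Cfsg.Agent.H14.InduceChar
import Cfsg.Agent.H11.Irr

/-!
Project DG (statement S4984): definitions and the statements of the pieces.
Proof sketches: `stubs/notes/h53_dg.md`.
-/

set_option autoImplicit false

namespace Cfsg.Agent.H53.Dg

open Module Cfsg.Agent.H26 Cfsg.Agent.H78
open scoped ComplexConjugate

/-! ### Characters without `Fintype` instances -/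

/-- The inner product of class functions. -/
noncomputable def ip {G : Type} [Group G] [Finite G] (φ ψ : G → ℂ) : ℂ :=
  @classInner G _ (Fintype.ofFinite G) φ ψ

/-- The induced class function. -/
noncomputable def ind {G : Type} [Group G] [Finite G] (S : Subgroup G) (ξ : S → ℂ) : G → ℂ :=
  @indFun G _ (Fintype.ofFinite G) S ξ

/-- The Mackey sum attached to `x`. -/
noncomputable def mT {G : Type} [Group G] (S : Subgroup G) (ξ ξ' : G → ℂ) (x : G) : ℂ :=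
  ∑ᶠ h : {h : G // h ∈ S ∧ x⁻¹ * h * x ∈ S}, ξ h * conj (ξ' (x⁻¹ * h * x))

/-- `ξ` is constant on the conjugacy classes of `S`. -/
def ClOn {G : Type} [Group G] (S : Subgroup G) (ξ : G → ℂ) : Prop :=
  ∀ g ∈ S, ∀ h ∈ S, ξ (g * h * g⁻¹) = ξ h

/-! ### Linear groups and cuspidal characters -/

section Lin

variable {F X : Type} [Field F] [AddCommGroup X] [Module F X]

instance finiteEquiv [Finite X] : Finite (X ≃ₗ[F] X) :=
  Finite.of_injective (fun g : X ≃ₗ[F] X => (g : X → X)) DFunLike.coe_injective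

/-- The unipotent radical of the stabilizer of `Z`. -/
def UZ (Z : Submodule F X) : Subgroup (X ≃ₗ[F] X) where
  carrier := {u | (∀ z ∈ Z, u z = z) ∧ ∀ x, u x - x ∈ Z}
  mul_mem' {a b} ha hb := ⟨fun z hz => by
      rw [PForm.mul_apply', hb.1 z hz, ha.1 z hz], fun x => by
      have := Z.add_mem (ha.2 (b x)) (hb.2 x)
      rwa [sub_add_sub_cancel] at this⟩
  one_mem' := ⟨fun _ _ => rfl, fun x => by simp⟩
  inv_mem' {a} ha := ⟨fun z hz => by
      conv_lhs => rw [← ha.1 z hz]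
      exact PForm.inv_apply_apply a z, fun x => by
      have := Z.neg_mem (ha.2 (a⁻¹ x))
      rwa [PForm.apply_inv_apply, neg_sub] at this⟩

/-- Cuspidality (strong form: for all translates). -/
def IsCusp (ψ : (X ≃ₗ[F] X) → ℂ) : Prop :=
  ∀ Z : Submodule F X, Z ≠ ⊥ → Z ≠ ⊤ → ∀ g, ∑ᶠ u : UZ Z, ψ (g * u) = 0

/-- The degree of the cuspidal characters of `GL_k(q)`. -/
def cd (q k : ℕ) : ℕ := ∏ i ∈ Finset.Ico 1 k, (q ^ i - 1)

/-- An irreducible cuspidal character, real (`sd = true`) or not, with `-1` acting as `s`. -/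
structure CuspFn [Finite X] (ψ : (X ≃ₗ[F] X) → ℂ) (sd : Bool) (s : ℂ) : Prop where
  irr : IsIrrCharacter _ ψ
  cusp : IsCusp ψ
  deg : ψ 1 = cd (Nat.card F) (finrank F X)
  dual : ip ψ (fun g => conj (ψ g)) = if sd then 1 else 0
  real : sd = true → ∀ g, conj (ψ g) = ψ g
  sgn : ψ (LinearEquiv.neg F) = s * ψ 1

variable (F) in
/-- Such a character exists in dimension `k`. -/
def Cusp (k : ℕ) (sd : Bool) (s : ℂ) : Prop :=
  ∀ (X : Type) [AddCommGroup X] [Module F X] [Finite X], finrank F X = k →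
    ∃ ψ : (X ≃ₗ[F] X) → ℂ, CuspFn ψ sd s

/-- The restriction to an invariant subspace. -/
def rsS (Y : Submodule F X) (g : stabSub Y) : Y ≃ₗ[F] Y where
  toFun y := ⟨g.1 y, (g.2 y).1 y.2⟩
  map_add' a b := Subtype.ext (map_add g.1 _ _)
  map_smul' c a := Subtype.ext (map_smul g.1 _ _)
  invFun y := ⟨g.1⁻¹ y, (g⁻¹.2 y).1 y.2⟩
  left_inv y := Subtype.ext (PForm.inv_apply_apply g.1 y)
  right_inv y := Subtype.ext (PForm.apply_inv_apply g.1 y)

open Classical in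
/-- The restriction to `Y` (the identity if `Y` is not invariant). -/
noncomputable def rs (Y : Submodule F X) (g : X ≃ₗ[F] X) : Y ≃ₗ[F] Y :=
  if h : g ∈ stabSub Y then rsS Y ⟨g, h⟩ else 1

theorem rs_apply {Y : Submodule F X} {g : X ≃ₗ[F] X} (h : g ∈ stabSub Y) (y : Y) :
    (rs Y g y : X) = g y := by
  rw [rs, dif_pos h]; rfl

theorem rs_mul {Y : Submodule F X} {g k : X ≃ₗ[F] X} (hg : g ∈ stabSub Y) (hk : k ∈ stabSub Y) :
    rs Y (g * k) = rs Y g * rs Y k := by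
  ext y
  rw [rs_apply (mul_mem hg hk), PForm.mul_apply', PForm.mul_apply', rs_apply hg, rs_apply hk]

theorem rs_one (Y : Submodule F X) : rs Y 1 = 1 := by
  ext y
  rw [rs_apply (one_mem _)]; rfl

/-- The image of a subspace. -/
abbrev mp (g : X ≃ₗ[F] X) (Y : Submodule F X) : Submodule F X := Y.map (g : X →ₗ[F] X)

/-- The stabilizer of `Y` in `G`. -/
abbrev stab (G : Subgroup (X ≃ₗ[F] X)) (Y : Submodule F X) : Subgroup G := (stabSub Y).subgroupOf G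

/-- `-1` acts as `s` (if it lies in `G`). -/
def Sgn (G : Subgroup (X ≃ₗ[F] X)) (χ : G → ℂ) (s : ℂ) : Prop :=
  ∀ z : G, (z : X ≃ₗ[F] X) = LinearEquiv.neg F → χ z = s * χ 1

end Lin

/-! ### Polar spaces -/

section Geo

variable {F V : Type} [Field F] [AddCommGroup V] [Module F V] (P : PForm F V)

/-- Totally singular subspaces. -/
def TS (X : Submodule F V) : Prop := (∀ x ∈ X, P.Sing x) ∧ X ≤ P.perp X

/-- `g` is trivial on `X^⊥ / X`. -/
def Top (X : Submodule F V) (g : V ≃ₗ[F] V) : Prop := ∀ v ∈ P.perp X, g v - v ∈ X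

/-- `g` is trivial on `X` and on `X^⊥ / X`. -/
def Rad (X : Submodule F V) (g : V ≃ₗ[F] V) : Prop := (∀ x ∈ X, g x = x) ∧ Top P X g

/-- `g` preserves orthogonality and singular vectors. -/
def Sim (g : V ≃ₗ[F] V) : Prop :=
  (∀ x y, P.f x y = 0 → P.f (g x) (g y) = 0) ∧ ∀ x, P.Sing x → P.Sing (g x)

/-- The unipotent radical of the stabilizer of `Y` in `G`. -/
def UU (G : Subgroup (V ≃ₗ[F] V)) (Y : Submodule F V) : Subgroup G where
  carrier := {u | Rad P Y u ∧ ∀ v ∈ P.perp Y, (u : V ≃ₗ[F] V) v ∈ P.perp Y ∧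
    (u : V ≃ₗ[F] V)⁻¹ v ∈ P.perp Y}
  mul_mem' {a b} ha hb := ⟨⟨fun z hz => by
      rw [Subgroup.coe_mul, PForm.mul_apply', hb.1.1 z hz, ha.1.1 z hz], fun v hv => by
      have := Y.add_mem (ha.1.2 _ (hb.2 v hv).1) (hb.1.2 v hv)
      rwa [sub_add_sub_cancel] at this⟩, fun v hv =>
      ⟨(ha.2 _ (hb.2 v hv).1).1, by
        rw [Subgroup.coe_mul, mul_inv_rev, PForm.mul_apply']; exact (hb.2 _ (ha.2 v hv).2).2⟩⟩
  one_mem' := ⟨⟨fun _ _ => rfl, fun v _ => by simp⟩, fun v hv => ⟨hv, by simpa using hv⟩⟩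
  inv_mem' {a} ha := ⟨⟨fun z hz => by
      conv_lhs => rw [← ha.1.1 z hz]
      exact PForm.inv_apply_apply _ z, fun v hv => by
      have := Y.neg_mem (ha.1.2 _ (ha.2 v hv).2)
      rwa [PForm.apply_inv_apply, neg_sub] at this⟩, fun v hv =>
      ⟨(ha.2 v hv).2, by simpa using (ha.2 v hv).1⟩⟩

/-- The restriction of the form to a non-degenerate subspace. -/
def res (W : Submodule F V) (hW : ∀ y ∈ W, (∀ x ∈ W, P.f x y = 0) → y = 0) : PForm F W where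
  σ := P.σ
  ε := P.ε
  f x y := P.f x y
  h x := P.h x
  Λ := P.Λ
  d := P.d
  σσ := P.σσ
  ε_sq := P.ε_sq
  f_add_left x y z := P.f_add_left x y z
  f_smul_left c x y := P.f_smul_left c x y
  herm x y := P.herm x y
  nondeg y h := Subtype.ext (hW y y.2 fun x hx => h ⟨x, hx⟩)
  h_add x y := P.h_add x y
  h_smul c x := P.h_smul c x
  f_self x := P.f_self x
  Λ_le := P.Λ_le
  Λ_ge := P.Λ_ge
  Λ_smul := P.Λ_smul
  exists_sing U hU := by
    obtain ⟨e, ⟨u, hu, rfl⟩, h0, h1⟩ := P.exists_sing (U.map W.subtype)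
      (by rwa [Submodule.finrank_map_subtype_eq])
    exact ⟨u, hu, fun h => h0 (by rw [h]; rfl), h1⟩

/-- The type of the space: symplectic of dimension `2w` (`sp = true`, `e = 1`), or orthogonal of
dimension `2w + e` and Witt index `w` (`sp = false`, `e ≤ 2`). -/
structure Ty (sp : Bool) (w e : ℕ) : Prop where
  sig : ∀ a, P.σ a = a
  symp : sp = true → P.ε = -1 ∧ P.Λ = ⊤ ∧ e = 1 ∧ finrank F V = 2 * w
  orth : sp = false → P.ε = 1 ∧ P.Λ = ⊥ ∧ e ≤ 2 ∧ finrank F V = 2 * w + e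
  frame : ∃ Fr : Frame P w, Fr.Norm ∧ Fr.Aniso

/-- The isometry group has an irreducible character of degree `n` with `-1` acting as `s`. -/
def Dg (n : ℕ) (s : ℂ) : Prop :=
  ∃ χ : P.isom → ℂ, IsIrrCharacter _ χ ∧ χ 1 = n ∧ Sgn P.isom χ s

/-- The projective Eichler group (`PSp`, `PΩ`). -/
abbrev QE : Type := P.E ⧸ Subgroup.center P.E

/-- The projective Eichler group has an irreducible character of degree `n`. -/
def DgE (n : ℕ) : Prop := ∃ χ : QE P → ℂ, IsIrrCharacter _ χ ∧ χ 1 = n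

/-- The projective Eichler group has an irreducible character of degree divisible by `c`. -/
def Dv (c : ℕ) : Prop := ∃ n, c ∣ n ∧ DgE P n

/-- The number of totally singular subspaces fixed by `g` in which `X` is a hyperplane. -/
noncomputable def npt (X : Submodule F V) (g : V ≃ₗ[F] V) : ℕ :=
  Nat.card {Y : Submodule F V //
    TS P Y ∧ X ≤ Y ∧ finrank F Y = finrank F X + 1 ∧ g ∈ stabSub Y}

/-- A Levi decomposition for a totally singular `k`-space. -/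
structure Lev (k : ℕ) where
  X : Submodule F V
  X' : Submodule F V
  ts : TS P X
  ts' : TS P X'
  dim : finrank F X = k
  dim' : finrank F X' = k
  opp : X ⊓ P.perp X' = ⊥
  hW : ∀ y ∈ P.perp (X ⊔ X'), (∀ x ∈ P.perp (X ⊔ X'), P.f x y = 0) → y = 0
  pr : (V ≃ₗ[F] V) → (res P (P.perp (X ⊔ X')) hW).isom
  pr_spec : ∀ g ∈ P.isom, g ∈ stabSub X → ∀ v : P.perp (X ⊔ X'), g v - ((pr g).1 v : V) ∈ X
  pr_mul : ∀ g ∈ P.isom, g ∈ stabSub X → ∀ h ∈ P.isom, h ∈ stabSub X → pr (g * h) = pr g * pr h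
  surj : ∀ (A : X ≃ₗ[F] X) (B : (res P (P.perp (X ⊔ X')) hW).isom),
    ∃ g ∈ P.isom, g ∈ stabSub X ∧ g ∈ stabSub X' ∧ rs X g = A ∧ pr g = B
  w0 : V ≃ₗ[F] V
  w0_mem : w0 ∈ P.isom
  w0_X : mp w0 X = X'
  w0_X' : mp w0 X' = X
  w0_W : ∀ v ∈ P.perp (X ⊔ X'), w0 v = v
  dual : ∀ g ∈ P.isom, g ∈ stabSub X → g ∈ stabSub X' →
    IsConj (rs X (w0⁻¹ * g * w0)) (rs X g)⁻¹

variable {P}

/-- The non-degenerate complement. -/
abbrev Lev.W {k : ℕ} (L : Lev P k) : Submodule F V := P.perp (L.X ⊔ L.X')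

/-- The form on the complement. -/
abbrev Lev.PW {k : ℕ} (L : Lev P k) : PForm F L.W := res P L.W L.hW

/-- The inflated function on the isometry group (only the values on the stabilizer matter). -/
noncomputable def Lev.xi {k : ℕ} (L : Lev P k) (ψ : (L.X ≃ₗ[F] L.X) → ℂ) (φ : L.PW.isom → ℂ)
    (g : P.isom) : ℂ := ψ (rs L.X g) * φ (L.pr g)

/-- Harish-Chandra induction. -/
noncomputable def Lev.hc [Finite V] {k : ℕ} (L : Lev P k) (ψ : (L.X ≃ₗ[F] L.X) → ℂ)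
    (φ : L.PW.isom → ℂ) : P.isom → ℂ :=
  ind (stab P.isom L.X) fun h => L.xi ψ φ h

end Geo

/-- The number of non-zero singular vectors. -/
def ns (q w e : ℕ) : ℕ := (q ^ w - 1) * (q ^ (w + e - 1) + 1)

/-- The product of the numbers `ns q (w - i) e`, `i < k`. -/
def Nk (q w e k : ℕ) : ℕ := ∏ i ∈ Finset.range k, ns q (w - i) e

/-- The degrees of the two non-principal constituents of the permutation character on points. -/
def FG (q w e f g : ℕ) : Prop :=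
  f * ((q - 1) * (q ^ e + q)) = q ^ (e + 1) * (q ^ w - 1) * (q ^ (w + e - 2) + 1) ∧
  g * ((q - 1) * (q ^ e + q)) = q ^ 2 * (q ^ (w - 1) - 1) * (q ^ (w + e - 1) + 1)

/-- The loss in the descent from the isometry group to the Eichler group. -/
def cc (sp : Bool) (q : ℕ) : ℕ := if sp then 1 else if Even q then 2 else 4

/-! ### Pieces on finite groups -/

/-- ADAMS. -/
def AdamsStmt : Prop := ∀ (G : Type) [Group G] [Finite G] (χ : G → ℂ) (u : ℕ),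
  IsGeneralizedCharacter G χ → IsGeneralizedCharacter G fun g => χ (g ^ u)

/-- VL (a): no fixed vectors, so all translates sum to zero. -/
def ZeroStmt : Prop := ∀ (G : Type) [Group G] [Finite G] (χ : G → ℂ) (U : Subgroup G),
  IsCharacter G χ → ∑ᶠ u : U, χ u = 0 → ∀ g : G, ∑ᶠ u : U, χ (g * u) = 0

/-- VL (b): constituents. -/
def SubStmt : Prop := ∀ (G : Type) [Group G] [Finite G] (χ χ' : G → ℂ) (U : Subgroup G),
  IsCharacter G χ → IsCharacter G χ' → ∑ᶠ u : U, (χ u + χ' u) = 0 → ∑ᶠ u : U, χ u = 0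

/-- VL (c): a fixed point free element of prime order. -/
def VlStmt : Prop := ∀ (G : Type) [Group G] [Finite G] (χ : G → ℂ) (U : Subgroup G) (x : G)
  (r n : ℕ), IsCharacter G χ → χ 1 = n → r.Prime → orderOf x = r →
  (∀ u ∈ U, x * u * x⁻¹ ∈ U) → (∀ u ∈ U, x * u = u * x → u = 1) → ∑ᶠ u : U, χ u = 0 → r ∣ n

/-- VL (d): the degree modulo `p`. -/
def PlStmt : Prop := ∀ (G : Type) [Group G] [Finite G] (χ : G → ℂ) (U Z : Subgroup G)
  (p n m : ℕ), IsCharacter G χ → p.Prime → IsPGroup p U → Z ≤ ⁅U, U⁆ →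
  (∀ u ∈ U, ∀ z ∈ Z, u * z * u⁻¹ ∈ Z) → χ 1 = n → ∑ᶠ z : Z, χ z = Nat.card Z * m →
  n ≡ m [MOD p]

/-- NG: the Mackey formula with two surviving double cosets. -/
def NgStmt : Prop := ∀ (G : Type) [Group G] [Finite G] (S : Subgroup G) (ξ ξ' : G → ℂ) (w : G),
  ClOn S ξ → ClOn S ξ' → w ∉ S →
  (∀ x, x ∈ S ∨ (∃ a ∈ S, ∃ b ∈ S, x = a * w * b) ∨ mT S ξ ξ' x = 0) →
  ip (ind S fun h => ξ h) (ind S fun h => ξ' h) = ip (fun h : S => ξ h) (fun h : S => ξ' h) +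
    (Nat.card {h : G // h ∈ S ∧ w⁻¹ * h * w ∈ S} : ℂ)⁻¹ * mT S ξ ξ' w

/-- SRG: rank three permutation characters. -/
def SrgStmt : Prop := ∀ (H Ω : Type) [Group H] [Finite H] [Finite Ω] [MulAction H Ω]
  (adj : Ω → Ω → Prop) (v k μ : ℕ) (r s : ℤ),
  (∀ a b, adj a b → adj b a) → (∀ a, ¬ adj a a) → (∀ (h : H) a b, adj a b → adj (h • a) (h • b)) →
  Nat.card Ω = v → (∀ a, Nat.card {b // adj a b} = k) →
  (∀ a b, a ≠ b → ¬ adj a b → Nat.card {c // adj a c ∧ adj b c} = μ) →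
  (∀ a b : Ω, ∃ h : H, h • a = b) →
  (∀ a b a' b', adj a b → adj a' b' → ∃ h : H, h • a = a' ∧ h • b = b') →
  (∀ a b a' b', a ≠ b → ¬ adj a b → a' ≠ b' → ¬ adj a' b' → ∃ h : H, h • a = a' ∧ h • b = b') →
  0 < k → k + 1 < v → r ≠ s → r * s = μ - k → (k - r) * (k - s) = μ * v →
  ∃ χ χ' : H → ℂ, IsIrrCharacter H χ ∧ IsIrrCharacter H χ' ∧
    (∀ h : H, (Nat.card {a : Ω // h • a = a} : ℂ) = 1 + χ h + χ' h) ∧
    ∃ f g : ℕ, χ 1 = f ∧ χ' 1 = g ∧ f + g + 1 = v ∧ (k : ℤ) + f * r + g * s = 0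

/-- CLIF: Clifford theory downwards, upwards, and the central quotient. -/
def ClifStmt : Prop := ∀ (G : Type) [Group G] [Finite G] (N : Subgroup G) [N.Normal],
  (∀ (χ : G → ℂ) (n : ℕ), IsIrrCharacter G χ → χ 1 = n → ∃ (θ : N → ℂ) (m : ℕ),
    IsIrrCharacter N θ ∧ θ 1 = m ∧ n ∣ N.index * m ∧ ∀ z : N, χ z = χ 1 → θ z = θ 1) ∧
  (∀ (θ : N → ℂ) (m : ℕ), IsIrrCharacter N θ → θ 1 = m → ∃ (χ : G → ℂ) (n : ℕ),
    IsIrrCharacter G χ ∧ χ 1 = n ∧ m ∣ n ∧ ∀ (z : N) (s : ℂ), (z : G) ∈ Subgroup.center G →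
      θ z = s * θ 1 → χ z = s * χ 1) ∧
  (∀ χ : G → ℂ, IsIrrCharacter G χ → (∀ z ∈ N, χ z = χ 1) →
    ∃ χ' : G ⧸ N → ℂ, IsIrrCharacter _ χ' ∧ ∀ g : G, χ' g = χ g) ∧
  (N.index = 2 → ∀ χ : G → ℂ, IsIrrCharacter G χ →
    (∀ δ : G → ℂ, (∀ g ∈ N, δ g = 1) → (∀ g, g ∉ N → δ g = -1) →
      ip χ (fun g => χ g * δ g) = 0) → IsIrrCharacter N fun g => χ g)

/-- CU: cuspidal characters from the `u`-th power of a faithful character of `F_{q^k}ˣ`. -/
def CuStmt : Prop := ∀ (F : Type) [Field F] [Finite F] (k u : ℕ), 0 < k → 0 < u →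
  (∀ i, 0 < i → i < k → ¬ Nat.card F ^ k - 1 ∣ u * (Nat.card F ^ i - 1)) →
  ((∀ i < k, ¬ Nat.card F ^ k - 1 ∣ u * (Nat.card F ^ i + 1)) →
    Cusp F k false (if Odd (Nat.card F) then (-1) ^ u else 1)) ∧
  ((∃ i < k, Nat.card F ^ k - 1 ∣ u * (Nat.card F ^ i + 1)) →
    Cusp F k true (if Odd (Nat.card F) then (-1) ^ u else 1))

/-! ### Pieces on the geometry -/

/-- VAN: vanishing by Eichler transformations. -/
def VanStmt : Prop := ∀ (F V : Type) [Field F] [Finite F] [AddCommGroup V] [Module F V] [Finite V] (P : PForm F V)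
  (X Y Z : Submodule F V) (ψ : (X ≃ₗ[F] X) → ℂ) (H : Subgroup (V ≃ₗ[F] V))
  (Φ : (V ≃ₗ[F] V) → ℂ), (∀ a, P.σ a = a) → TS P X → TS P Y →
  (Z = X ⊓ Y ∨ Z = X ⊓ P.perp Y) → Z ≠ ⊥ → Z ≠ X → IsCusp ψ → H ≤ stabSub X →
  (∀ g ∈ P.E, Rad P Y g → Top P X g → g ∈ H) →
  (∀ h ∈ H, ∀ g ∈ P.E, Rad P Y g → Top P X g → Φ (h * g) = Φ h) →
  ∑ᶠ h : H, ψ (rs X h) * Φ h = 0

/-- OPP: opposite subspaces, and elements of the Eichler group. -/
def OppStmt : Prop := ∀ (F V : Type) [Field F] [Finite F] [AddCommGroup V] [Module F V] [Finite V] (P : PForm F V)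
  (X : Submodule F V), (∀ a, P.σ a = a) → TS P X →
  (∀ X' X'' : Submodule F V, TS P X' → TS P X'' → finrank F X' = finrank F X →
    finrank F X'' = finrank F X → X ⊓ P.perp X' = ⊥ → X ⊓ P.perp X'' = ⊥ →
    ∃ u ∈ P.E, Rad P X u ∧ mp u X' = X'') ∧
  (∀ g ∈ P.isom, Rad P X g → g ∈ P.E) ∧
  (∀ g ∈ P.isom, Top P X g → LinearMap.det (rs X g : X →ₗ[F] X) = 1 → g ∈ P.E)

/-- NORM: the Mackey formula for a group of similitudes. -/
def NormStmt : Prop := ∀ (F V : Type) [Field F] [Finite F] [AddCommGroup V] [Module F V] [Finite V] (P : PForm F V)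
  (G : Subgroup (V ≃ₗ[F] V)) (X : Submodule F V) (ψ : (X ≃ₗ[F] X) → ℂ) (φ ξ' : G → ℂ) (w : G),
  (∀ a, P.σ a = a) → P.E ≤ G → (∀ g ∈ G, Sim P g) → TS P X → X ≠ ⊥ → IsCusp ψ →
  ClOn (stab G X) (fun h => ψ (rs X h) * φ h) → ClOn (stab G X) ξ' →
  (∀ h ∈ stab G X, ∀ g : G, g.1 ∈ P.E → Top P X g → φ (h * g) = φ h) →
  (∀ h ∈ stab G X, ∀ g : G, Rad P X g → ξ' (h * g) = ξ' h) →
  X ⊓ P.perp (mp w.1 X) = ⊥ →
  (∀ x : G, mp x.1 X ≤ P.perp X → X ⊓ mp x.1 X = ⊥ →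
    mT (stab G X) (fun h => ψ (rs X h) * φ h) ξ' x = 0) →
  ip (ind (stab G X) fun h => ψ (rs X h) * φ h) (ind (stab G X) fun h => ξ' h) =
    ip (fun h : stab G X => ψ (rs X h) * φ h) (fun h : stab G X => ξ' h) +
    (Nat.card {h : G // h ∈ stab G X ∧ w⁻¹ * h * w ∈ stab G X} : ℂ)⁻¹ *
      mT (stab G X) (fun h => ψ (rs X h) * φ h) ξ' w

/-- NOFIX: no fixed vectors of a smaller unipotent radical. -/
def NofixStmt : Prop := ∀ (F V : Type) [Field F] [Finite F] [AddCommGroup V] [Module F V] [Finite V] (P : PForm F V)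
  (G : Subgroup (V ≃ₗ[F] V)) (X Y : Submodule F V) (ψ : (X ≃ₗ[F] X) → ℂ) (φ : G → ℂ),
  (∀ a, P.σ a = a) → P.E ≤ G → G ≤ P.isom → TS P X → TS P Y → IsCusp ψ →
  (∀ h ∈ stab G X, ∀ g : G, g.1 ∈ P.E → Top P X g → φ (h * g) = φ h) →
  finrank F Y < finrank F X → (∀ T, TS P T → finrank F T < finrank F X + finrank F Y) →
  ∑ᶠ u : UU P G Y, ind (stab G X) (fun h => ψ (rs X h) * φ h) u = 0

/-- PERP: the orthogonal double coset for the permutation character on points. -/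
def PerpStmt : Prop := ∀ (F V : Type) [Field F] [Finite F] [AddCommGroup V] [Module F V] [Finite V] (P : PForm F V)
  (G : Subgroup (V ≃ₗ[F] V)) (X : Submodule F V) (ψ ψ' : (X ≃ₗ[F] X) → ℂ) (x : G),
  (∀ a, P.σ a = a) → P.isom ≤ G → (∀ g ∈ G, Sim P g) → TS P X →
  ((2 ≤ finrank F X ∧ IsCusp ψ) ∨
    (finrank F X = 1 ∧ (∀ a b, ψ (a * b) = ψ a * ψ b) ∧ ∃ t, ψ t ≠ 1)) →
  mp x.1 X ≤ P.perp X → X ⊓ mp x.1 X = ⊥ →
  mT (stab G X) (fun h => ψ (rs X h) * npt P X h) (fun h => ψ' (rs X h) * npt P X h) x = 0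

/-- LEVI. -/
def LeviStmt : Prop := ∀ (F V : Type) [Field F] [Finite F] [AddCommGroup V] [Module F V] [Finite V] (P : PForm F V)
  (sp : Bool) (w e k : ℕ), Ty P sp w e → k ≤ w → ∃ L : Lev P k, Ty L.PW sp (w - k) e

/-- HC (a): Harish-Chandra induction gives characters. -/
def Hc1Stmt : Prop := ∀ (F V : Type) [Field F] [Finite F] [AddCommGroup V] [Module F V] [Finite V] (P : PForm F V)
  (k : ℕ) (L : Lev P k) (ψ : (L.X ≃ₗ[F] L.X) → ℂ) (φ : L.PW.isom → ℂ),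
  IsCharacter _ ψ → IsCharacter _ φ → IsCharacter _ (L.hc ψ φ) ∧
  L.hc ψ φ 1 = (stab P.isom L.X).index * ψ 1 * φ 1 ∧
  (∀ s t : ℂ, ψ (LinearEquiv.neg F) = s * ψ 1 → Sgn _ φ t → Sgn _ (L.hc ψ φ) (s * t)) ∧
  ∀ g : P.isom, g.1 ∈ stabSub L.X → npt P L.X g = npt L.PW ⊥ (L.pr g)

/-- HC (b): the inner product formula. -/
def Hc2Stmt : Prop := ∀ (F V : Type) [Field F] [Finite F] [AddCommGroup V] [Module F V] [Finite V] (P : PForm F V)
  (k : ℕ) (L : Lev P k) (ψ ψ' : (L.X ≃ₗ[F] L.X) → ℂ) (φ φ' : L.PW.isom → ℂ),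
  (∀ a, P.σ a = a) → 0 < k → IsCharacter _ ψ → IsCharacter _ ψ' → IsCharacter _ φ →
  IsCharacter _ φ' → IsCusp ψ →
  (∀ x : P.isom, mp x.1 L.X ≤ P.perp L.X → L.X ⊓ mp x.1 L.X = ⊥ →
    mT (stab P.isom L.X) (L.xi ψ φ) (L.xi ψ' φ') x = 0) →
  ip (L.hc ψ φ) (L.hc ψ' φ') = (ip ψ ψ' + ip ψ fun g => conj (ψ' g)) * ip φ φ'

/-- SING. -/
def SingStmt : Prop := ∀ (F V : Type) [Field F] [Finite F] [AddCommGroup V] [Module F V] [Finite V] (P : PForm F V)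
  (sp : Bool) (w e : ℕ), Ty P sp w e →
  Nat.card {v : V // v ≠ 0 ∧ P.Sing v} = ns (Nat.card F) w e

/-- WITT. -/
def WittStmt : Prop := ∀ (F V : Type) [Field F] [Finite F] [AddCommGroup V] [Module F V] [Finite V] (P : PForm F V)
  (sp : Bool) (w e : ℕ), Ty P sp w e → (∀ T, TS P T → finrank F T ≤ w) ∧
  ∀ X X' : Submodule F V, TS P X → TS P X' → ∀ A : X ≃ₗ[F] X',
    ∃ g ∈ P.isom, ∀ x : X, g x = A x

/-- COUNT. -/
def CountStmt : Prop := ∀ (F V : Type) [Field F] [Finite F] [AddCommGroup V] [Module F V] [Finite V] (P : PForm F V)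
  (sp : Bool) (w e : ℕ) (X : Submodule F V), Ty P sp w e → TS P X →
  (stab P.isom X).index * ∏ i ∈ Finset.range (finrank F X), (Nat.card F ^ (i + 1) - 1) =
    Nk (Nat.card F) w e (finrank F X)

/-- RK3: transitivity on pairs of points. -/
def Rk3Stmt : Prop := ∀ (F V : Type) [Field F] [Finite F] [AddCommGroup V] [Module F V] [Finite V] (P : PForm F V)
  (sp : Bool) (w e : ℕ), Ty P sp w e → 2 ≤ w → ∀ x y x' y' : V, P.Sing x → P.Sing y →
  P.Sing x' → P.Sing y' → x ≠ 0 → x' ≠ 0 →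
  (∃ g ∈ P.E, g x ∈ F ∙ x') ∧
  (P.f x y ≠ 0 → P.f x' y' ≠ 0 → ∃ g ∈ P.E, g x ∈ F ∙ x' ∧ g y ∈ F ∙ y') ∧
  (P.f x y = 0 → P.f x' y' = 0 → y ∉ F ∙ x → y' ∉ F ∙ x' →
    ∃ g ∈ P.isom, (1 ≤ e ∨ 3 ≤ w → g ∈ P.E) ∧ g x ∈ F ∙ x' ∧ g y ∈ F ∙ y')

/-- CNT3: the parameters of the collinearity graph. -/
def Cnt3Stmt : Prop := ∀ (F V : Type) [Field F] [Finite F] [AddCommGroup V] [Module F V] [Finite V] (P : PForm F V)
  (sp : Bool) (w e : ℕ), Ty P sp w e → 1 ≤ w →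
  Nat.card {Y : Submodule F V // TS P Y ∧ finrank F Y = 1} * (Nat.card F - 1) =
    ns (Nat.card F) w e ∧
  ∀ Y Y' : Submodule F V, TS P Y → finrank F Y = 1 → TS P Y' → finrank F Y' = 1 →
    Nat.card {Z : Submodule F V // (TS P Z ∧ finrank F Z = 1) ∧ Z ≠ Y ∧ Z ≤ P.perp Y} *
      (Nat.card F - 1) = Nat.card F * ns (Nat.card F) (w - 1) e ∧
    (¬ Y' ≤ P.perp Y →
      Nat.card {Z : Submodule F V // (TS P Z ∧ finrank F Z = 1) ∧ Z ≤ P.perp Y ∧ Z ≤ P.perp Y'} *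
        (Nat.card F - 1) = ns (Nat.card F) (w - 1) e)

/-- R: the permutation character on points. -/
def RStmt : Prop := ∀ (F V : Type) [Field F] [Finite F] [AddCommGroup V] [Module F V] [Finite V] (P : PForm F V)
  (sp : Bool) (w e : ℕ) (H : Type) [Group H] [Finite H] (τ : H →* V ≃ₗ[F] V),
  Ty P sp w e → 2 ≤ w → (∀ h, Sim P (τ h)) →
  (P.isom ≤ τ.range ∨ (P.E ≤ τ.range ∧ (1 ≤ e ∨ 3 ≤ w))) →
  ∃ χ χ' : H → ℂ, IsIrrCharacter H χ ∧ IsIrrCharacter H χ' ∧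
    (∀ h, (npt P ⊥ (τ h) : ℂ) = 1 + χ h + χ' h) ∧
    ∃ f g : ℕ, χ 1 = f ∧ χ' 1 = g ∧ FG (Nat.card F) w e f g

/-- ZEN: the centre and the index of the Eichler group. -/
def ZenStmt : Prop := ∀ (F V : Type) [Field F] [Finite F] [AddCommGroup V] [Module F V] [Finite V] (P : PForm F V)
  (sp : Bool) (w e : ℕ), Ty P sp w e →
  (1 ≤ w → sp = true ∨ 3 ≤ finrank F V → ∀ z : P.E, z ∈ Subgroup.center P.E →
    z = 1 ∨ z.1 = LinearEquiv.neg F) ∧
  (sp = true ∨ 5 ≤ finrank F V → (P.E.subgroupOf P.isom).index = cc sp (Nat.card F)) ∧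
  (sp = false → e = 1 → LinearEquiv.neg F ∉ P.E)

/-- DESC: descent to the projective Eichler group. -/
def DescStmt : Prop := ∀ (F V : Type) [Field F] [Finite F] [AddCommGroup V] [Module F V] [Finite V] (P : PForm F V)
  (sp : Bool) (w e n : ℕ) (s : ℂ), Ty P sp w e → 1 ≤ w → (sp = true ∨ 5 ≤ finrank F V) →
  Dg P n s → (s = 1 ∨ LinearEquiv.neg F ∉ P.E) → ∃ m, DgE P m ∧ n ∣ cc sp (Nat.card F) * m

/-- RE: the rank three characters of the two groups. -/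
def ReStmt : Prop := ∀ (F V : Type) [Field F] [Finite F] [AddCommGroup V] [Module F V] [Finite V] (P : PForm F V)
  (sp : Bool) (w e : ℕ), Ty P sp w e → 2 ≤ w →
  (∃ f g, FG (Nat.card F) w e f g ∧ Dg P f 1 ∧ Dg P g 1) ∧
  (1 ≤ e ∨ 3 ≤ w → ∃ f g, FG (Nat.card F) w e f g ∧ DgE P f ∧ DgE P g)

/-- ST: characters above the Steinberg character; FAITH: a faithful character of `Sp`. -/
def StStmt : Prop := ∀ (F V : Type) [Field F] [Finite F] [AddCommGroup V] [Module F V] [Finite V] (P : PForm F V)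
  (sp : Bool) (w e : ℕ), Ty P sp w e → 1 ≤ w →
  (1 ≤ e ∨ 3 ≤ w → ∃ n, Dg P n 1 ∧ Nat.card F ∣ n ∧ (e ≠ 1 → Nat.card F ^ 2 ∣ n)) ∧
  (sp = true → Odd (Nat.card F) → ∃ n, Dg P n (-1))

/-- A: induction of a non-real cuspidal character. -/
def AStmt : Prop := ∀ (F V : Type) [Field F] [Finite F] [AddCommGroup V] [Module F V] [Finite V] (P : PForm F V)
  (sp : Bool) (w e k c : ℕ) (s t : ℂ), Ty P sp w e → 0 < k → k ≤ w → w < 2 * k →
  Cusp F k false s →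
  (∀ (W : Type) [AddCommGroup W] [Module F W] [Finite W] (P' : PForm F W),
    Ty P' sp (w - k) e → ∃ n, c ∣ n ∧ Dg P' n t) →
  ∃ n d, c ∣ n ∧ d * (Nat.card F ^ k - 1) = n * Nk (Nat.card F) w e k ∧ Dg P d (s * t)

/-- SD: induction of a real cuspidal character. -/
def SdStmt : Prop := ∀ (F V : Type) [Field F] [Finite F] [AddCommGroup V] [Module F V] [Finite V] (P : PForm F V)
  (sp : Bool) (w e k : ℕ) (s : ℂ) (L : Lev P k) (ψ : (L.X ≃ₗ[F] L.X) → ℂ), Ty P sp w e →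
  0 < k → w < 2 * k → CuspFn ψ true s →
  ∃ (χ χ' : P.isom → ℂ) (n n' : ℕ), IsIrrCharacter _ χ ∧ IsIrrCharacter _ χ' ∧
    (∀ g, L.hc ψ (fun _ => 1) g = χ g + χ' g) ∧ χ 1 = n ∧ χ' 1 = n' ∧
    (n + n') * (Nat.card F ^ k - 1) = Nk (Nat.card F) w e k ∧ Sgn _ χ s ∧ Sgn _ χ' s

/-- AP: the same with the rank three characters of the complement. -/
def ApStmt : Prop := ∀ (F V : Type) [Field F] [Finite F] [AddCommGroup V] [Module F V] [Finite V] (P : PForm F V)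
  (sp : Bool) (w e k : ℕ) (s : ℂ), Ty P sp w e → 0 < k → k + 2 ≤ w → Cusp F k false s →
  ∃ f g d d', FG (Nat.card F) (w - k) e f g ∧
    d * (Nat.card F ^ k - 1) = f * Nk (Nat.card F) w e k ∧ Dg P d s ∧
    d' * (Nat.card F ^ k - 1) = g * Nk (Nat.card F) w e k ∧ Dg P d' s

/-- V2: fixed point free elements. -/
def V2Stmt : Prop := ∀ (F V : Type) [Field F] [Finite F] [AddCommGroup V] [Module F V] [Finite V] (P : PForm F V)
  (sp : Bool) (w e d r : ℕ), Ty P sp w e → d ≤ w →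
  ((d = 1 ∧ r.Prime ∧ r ≠ 2 ∧ r ∣ Nat.card F - 1) ∨ (d = 3 ∧ r = 7 ∧ Nat.card F = 2)) →
  ∃ (Y : Submodule F V) (x : P.isom), TS P Y ∧ finrank F Y = d ∧ orderOf x = r ∧
    (∀ u ∈ UU P P.isom Y, x * u * x⁻¹ ∈ UU P P.isom Y) ∧
    ∀ u ∈ UU P P.isom Y, x * u = u * x → u = 1

/-! ### The special cases -/

/-- PAR (a): `Sp₄(q)`, `q` even. -/
def Sp4Stmt : Prop := ∀ (F V : Type) [Field F] [Finite F] [AddCommGroup V] [Module F V] [Finite V] (P : PForm F V)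
  (r : ℕ), Ty P true 2 1 → Even (Nat.card F) → r.Prime → r ∣ Nat.card F - 1 →
  Cusp F 2 true 1 → Dv P (2 * r)

/-- PAR (b): `Sp₈(2)`. -/
def Sp82Stmt : Prop := ∀ (F V : Type) [Field F] [Finite F] [AddCommGroup V] [Module F V] [Finite V] (P : PForm F V),
  Ty P true 4 1 → Nat.card F = 2 → Cusp F 4 true 1 → Dv P 14

/-- `Ω₁₀⁺(2)`. -/
def O10Stmt : Prop := ∀ (F V : Type) [Field F] [Finite F] [AddCommGroup V] [Module F V] [Finite V] (P : PForm F V),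
  Ty P false 5 0 → Nat.card F = 2 → Cusp F 4 true 1 → Dv P 14

/-- S1: one of the two constituents has degree divisible by `p`. -/
def S1Stmt : Prop := ∀ (F V : Type) [Field F] [Finite F] [AddCommGroup V] [Module F V] [Finite V] (P : PForm F V)
  (p : ℕ) (L : Lev P 2) (ψ : (L.X ≃ₗ[F] L.X) → ℂ) (χ χ' : P.isom → ℂ) (n n' : ℕ),
  Ty P false 2 1 → p.Prime → CharP F p → CuspFn ψ true 1 → IsIrrCharacter _ χ →
  IsIrrCharacter _ χ' → (∀ g, L.hc ψ (fun _ => 1) g = χ g + χ' g) → χ 1 = n → χ' 1 = n' →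
  p ∣ n ∨ p ∣ n'

/-- `Ω₅(q)`. -/
def O5Stmt : Prop := ∀ (F V : Type) [Field F] [Finite F] [AddCommGroup V] [Module F V] [Finite V] (P : PForm F V)
  (p r : ℕ), Ty P false 2 1 → p.Prime → CharP F p → r.Prime → r ≠ 2 → r ∣ Nat.card F - 1 →
  Cusp F 2 true 1 → Dv P (p * r)

/-- `Sp₆(2)`. -/
def Sp62Stmt : Prop := ∀ (F V : Type) [Field F] [Finite F] [AddCommGroup V] [Module F V] [Finite V] (P : PForm F V),
  Ty P true 3 1 → Nat.card F = 2 → Cusp F 2 true 1 → Dv P 210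

/-- `Ω₆⁻(2)`: a character without fixed vectors, moved by the reflections. -/
def M2a {F V : Type} [Field F] [AddCommGroup V] [Module F V] [Finite V] (P : PForm F V) : Prop :=
  ∃ (φ : P.E → ℂ) (n : ℕ), IsIrrCharacter _ φ ∧ φ 1 = n ∧ 10 ∣ n ∧
    (∀ Y, TS P Y → finrank F Y = 1 → ∑ᶠ u : UU P P.E Y, φ u = 0) ∧
    ∀ σ ∈ P.isom, σ ∉ P.E → ∀ φ' : P.E → ℂ,
      (∀ g g' : P.E, g'.1 = σ * g.1 * σ⁻¹ → φ' g = φ g') → ip φ φ' = 0

/-- M2A. -/
def M2aStmt : Prop := ∀ (F V : Type) [Field F] [Finite F] [AddCommGroup V] [Module F V] [Finite V] (P : PForm F V),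
  Ty P false 2 2 → Nat.card F = 2 → Cusp F 2 true 1 → M2a P

/-- M2B: `Ω₈⁻(2)`. -/
def M2bStmt : Prop := ∀ (F V : Type) [Field F] [Finite F] [AddCommGroup V] [Module F V] [Finite V] (P : PForm F V),
  Ty P false 3 2 → Nat.card F = 2 →
  (∀ (W : Type) [AddCommGroup W] [Module F W] [Finite W] (P' : PForm F W),
    Ty P' false 2 2 → M2a P') → Dv P 1190

/-- SIM: similitudes in even dimension. -/
def SimStmt : Prop := ∀ (F V : Type) [Field F] [Finite F] [AddCommGroup V] [Module F V] [Finite V] (P : PForm F V)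
  (w e : ℕ) (μ : F), Ty P false w e → e ≠ 1 → μ ≠ 0 →
  ∃ g : V ≃ₗ[F] V, ∀ x, P.h (g x) = μ * P.h x

/-- M3: `Ω₈⁻(3)`. -/
def M3Stmt : Prop := ∀ (F V : Type) [Field F] [Finite F] [AddCommGroup V] [Module F V] [Finite V] (P : PForm F V),
  Ty P false 3 2 → Nat.card F = 3 → LinearEquiv.neg F ∉ P.E → Dv P 195

/-! ### The models -/

/-- `G` is the projective Eichler group of a space of the given type; `-1` lies in the Eichler
group only if `c` holds. -/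
def Mod (F : Type) [Field F] (G : Type) [Group G] (sp : Bool) (w e : ℕ) (c : Prop) : Prop :=
  ∃ (V : Type) (_ : AddCommGroup V) (_ : Module F V) (_ : Finite V) (P : PForm F V),
    Ty P sp w e ∧ Nonempty (G ≃* QE P) ∧ (LinearEquiv.neg F ∈ P.E → c)

/-- BR. -/
def BrStmt : Prop := ∀ (F : Type) [Field F] [Fintype F] (m : ℕ),
  Mod F (PSp m F) true m 1 True ∧
  (2 ≤ m → Odd (Fintype.card F) → Mod F (POmega F (quadFormOdd m F)) false m 1 True) ∧
  (3 ≤ m → Mod F (POmega F (quadFormPlus m F)) false m 0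
    (Even (Fintype.card F) ∨ Fintype.card F ^ m % 4 = 1)) ∧
  (2 ≤ m → ∀ a b : F, (∀ z₁ z₂ : F, z₁ ^ 2 + a * z₁ * z₂ + b * z₂ ^ 2 = 0 → z₁ = 0 ∧ z₂ = 0) →
    Mod F (POmega F (quadFormMinus m F a b)) false m 2
      (Even (Fintype.card F) ∨ Fintype.card F ^ (m + 1) % 4 = 3))

end Cfsg.Agent.H53.Dg
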