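import Cfsg.Agent.H50.E72Defs

/-! The Sylow 5-subgroups of `E₇(2)` are toral with explicit labels. -/

set_option autoImplicit false
set_option maxRecDepth 100000

namespace Cfsg.Agent.H53.E72Syl5

open Equiv Cfsg.Lie H37 H40 H34 H29 Module Multiplicative H50.E72
open scoped Matrix

def mA : List (List ℤ) := [[1, 1, 1, 2, 1, 0, 0], [0, 0, 0, 0, -1, 0, 0], [0, -1, -1, -2, -1, 0, 0],
  [0, 0, 1, 1, 1, 0, 0], [0, 1, 0, 0, 0, 0, 0], [0, 0, 0, 1, 1, 1, 0], [0, 0, 0, 0, 0, 0, 1]]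

theorem wordMat_mA : WordMat chevE7 [[2, 0, -1, 0, 0, 0, 0], [0, 2, 0, -1, 0, 0, 0],
    [-1, 0, 2, -1, 0, 0, 0], [0, -1, -1, 2, -1, 0, 0], [0, 0, 0, -1, 2, -1, 0],
    [0, 0, 0, 0, -1, 2, -1], [0, 0, 0, 0, 0, -1, 2]] [1, 2, 3, 1, 4, 3] mA := by decide +kernel

theorem m5_add : ∀ e e' : E5, ∀ i : Fin chevE7.rank,
    ((m5 (e + e') i : ℤ) : ZMod 5) = ((m5 e i + m5 e' i : ℤ) : ZMod 5) := by decide +kernel

theorem m5_inj : ∀ e : E5, (∀ i : Fin chevE7.rank, ((m5 e i : ℤ) : ZMod 5) = ((0 : ℤ) : ZMod 5)) →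
    e = 0 := by decide +kernel

theorem m5_fix : ∀ e : E5, ∀ i : Fin chevE7.rank,
    ((∑ j : Fin chevE7.rank, m5 e j * toM chevE7.rank mA j i : ℤ) : ZMod 5) =
      ((m5 e i * (2 : ℕ) : ℤ) : ZMod 5) := by decide +kernel

theorem isAdd_F5 (e : E5) : IsAdd C7.R (F5 e) := fun r => by
  have h : ∀ i : Fin chevE7.rank, chevE7.cartan i r =
      ∑ j, C7.R.rc r j * chevE7.cartan i (C7.R.simple j) := fun i => by
    have h1 : wtD chevE7 r = ∑ j, C7.R.rc r j • wtD chevE7 (C7.R.simple j) := by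
      funext i
      simp only [C7.wtD_eq, Finset.sum_apply, Pi.smul_apply, smul_eq_mul, RS.wt_simple,
        C7.R.wt_def r]
    have h2 := congrFun h1 i
    simpa only [wtD, Finset.sum_apply, Pi.smul_apply, smul_eq_mul] using h2
  simp only [F5, h, Finset.mul_sum]
  rw [Finset.sum_comm]
  exact Finset.sum_congr rfl fun j _ => Finset.sum_congr rfl fun i _ => by ring

theorem tg_inj : Function.Injective (C7.tg K) := (injective_iff_map_eq_one _).2 fun c hc => by
  have h := C7.pow_eq_one_of_inv invE7 c hc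
  funext i
  have h1 : ((c i : Kˣ) : K) ^ 2 = 1 := by
    rw [← Units.val_pow_eq_pow_val]; exact congrArg Units.val (congrFun h i)
  have h2 : ((c i : Kˣ) : K) = 1 := by
    have h3 : (((c i : Kˣ) : K) - 1) ^ 2 = 0 := by rw [sub_pow_char, h1, one_pow, sub_self]
    exact sub_eq_zero.1 (pow_eq_zero_iff two_ne_zero |>.1 h3)
  exact Units.ext h2

theorem card_fac : ¬ 125 ∣ Nat.card G0 := by
  have hcard := S1064.result (F := ZMod 2) (q := 2) (ZMod.card 2)
  rw [show Nat.gcd 2 (2 - 1) = 1 by norm_num, one_mul] at hcard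
  rw [hcard]; norm_num

theorem exists_sylow (x : Multiplicative E5 →* G0) (hx : Function.Injective x) :
    ∃ P : Sylow 5 G0, (P : Subgroup G0) = x.range := by
  have : Fact (Nat.Prime 5) := ⟨by norm_num⟩
  have hc : Nat.card x.range = 5 ^ 2 := by
    rw [← Nat.card_congr (MonoidHom.ofInjective hx).toEquiv]
    simp [Nat.card_eq_fintype_card]
  refine ⟨(IsPGroup.of_card hc).toSylow fun h => card_fac ?_, rfl⟩
  rw [← x.range.card_mul_index, hc]
  exact mul_dvd_mul_left (5 ^ 2) h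

theorem syl5 : Syl5Stmt := by
  intro x hx
  have : Fact (Nat.Prime 5) := ⟨by norm_num⟩
  obtain ⟨ζ, hζ, -⟩ := exists_prim_unit K (N := 5) (by
    rw [Ne, CharP.cast_eq_zero_iff K 2]; norm_num)
  obtain ⟨l, -, hl⟩ := C7.rep_of_wordMat wordMat_mA
  obtain ⟨j, hj, hr⟩ := C7.exists_emb_of_inj (algebraMap (ZMod 2) K) (ZMod.card 2)
    (C7.S.word_mem_W l) hl tg_inj
  let y : Multiplicative E5 →* (Fin chevE7.rank → Kˣ) :=
    MonoidHom.mk' (fun e i => ζ ^ m5 (toAdd e) i) fun a b => funext fun i => by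
      rw [Pi.mul_apply, ← zpow_add, zpow_eq_iff hζ, toAdd_mul]
      exact m5_add _ _ i
  have hy : Function.Injective y := (injective_iff_map_eq_one _).2 fun a ha => by
    refine toAdd.injective (m5_inj _ fun i => (zpow_eq_iff hζ).1 ?_)
    rw [zpow_zero]
    exact congrFun ha i
  have hm : ∀ a, (C7.tg K).comp y a ∈ j.range := fun a => (hr _).2 ⟨y a, rfl, funext fun i => by
    show evw (fun i : Fin chevE7.rank => ζ ^ m5 (toAdd a) i) _ = (ζ ^ m5 (toAdd a) i) ^ 2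
    rw [evw_zpow, ← zpow_natCast, ← zpow_mul, zpow_eq_iff hζ]
    exact m5_fix _ i⟩
  let z : Multiplicative E5 →* G0 := (MonoidHom.ofInjective hj).symm.toMonoidHom.comp
    (((C7.tg K).comp y).codRestrict _ hm)
  have hz : ∀ a, j (z a) = C7.tg K (y a) := fun a =>
    MonoidHom.apply_ofInjective_symm hj _
  have hzi : Function.Injective z := fun a b h => hy (tg_inj (by rw [← hz, ← hz, h]))
  obtain ⟨P, hP⟩ := exists_sylow x hx
  obtain ⟨Q, hQ⟩ := exists_sylow z hzi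
  obtain ⟨g, hg⟩ := MulAction.exists_smul_eq G0 P Q
  have hN : ∀ e : E5, ∃ e' : E5, z (ofAdd e') = g * x (ofAdd e) * g⁻¹ := fun e => by
    have h1 : g * x (ofAdd e) * g⁻¹ ∈ (Q : Subgroup G0) := by
      rw [← hg, Sylow.coe_subgroup_smul, hP]
      exact Subgroup.smul_mem_pointwise_smul _ _ _ ⟨_, rfl⟩
    rw [hQ] at h1
    obtain ⟨a, ha⟩ := h1
    exact ⟨toAdd a, ha⟩
  choose N hN using hN
  let N' : E5 →+ E5 := AddMonoidHom.mk' N fun a b => ofAdd.injective (hzi (by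
    rw [ofAdd_add, map_mul, hN, hN, hN, ofAdd_add, map_mul]; group))
  have hN' : Function.Injective N' := fun a b h => ofAdd.injective (hx (by
    have h1 : N a = N b := h
    have h2 := hN a
    rw [h1, hN b] at h2
    simpa using h2.symm))
  refine ⟨j.comp (MulAut.conj g).toMonoidHom, ζ,
    AddEquiv.ofBijective N' (Finite.injective_iff_bijective.1 hN'), hζ, fun e => ?_⟩
  show Lab C7 ζ (j (g * x (ofAdd e) * g⁻¹)) (F5 (N e))
  rw [← hN, hz]
  exact ⟨isAdd_F5 _, _, rfl, fun r => evw_zpow _ _ _⟩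

end Cfsg.Agent.H53.E72Syl5
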