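import Cfsg.Agent.H53.FMDefs
import Cfsg.Agent.H53.OCBad
import Cfsg.Agent.H83.Misc

/-! Control of fusion by an overgroup `M` of `N(S)`: the maximal bad subgroup. -/

set_option autoImplicit false

namespace Cfsg.Agent.H53.FL

open Subgroup Cfsg Cfsg.Agent.H83
open Cfsg.Agent.H53.OC (card_lt_of_lt odd_res factTwo)
open scoped commutatorElement

universe u

variable {Γ : Type u} [Group Γ] {G S M E T X R D P O H : Subgroup Γ} {g : Γ}

/-- `g` acts on `X` as an element of `M`. -/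
def Rl (M X : Subgroup Γ) (g : Γ) : Prop := ∃ m ∈ M, ∀ x ∈ X, g * x * g⁻¹ = m * x * m⁻¹

theorem Rl.mono (a : Rl M X g) (b : D ≤ X) : Rl M D g :=
  let ⟨m, hm, c⟩ := a
  ⟨m, hm, fun x hx => c x (b hx)⟩

theorem Rl.of_mem (a : g ∈ M) : Rl M X g := ⟨g, a, fun _ _ => rfl⟩

theorem Rl.of_cent (a : g ∈ centralizer (X : Set Γ)) : Rl M X g :=
  ⟨1, one_mem _, fun x hx => by rw [← a x hx]; group⟩

theorem Rl.mul {h : Γ} (a : Rl M X g) (b : Rl M (cj g X) h) : Rl M X (h * g) := by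
  obtain ⟨m, hm, c⟩ := a
  obtain ⟨n, hn, d⟩ := b
  refine ⟨n * m, mul_mem hn hm, fun x hx => ?_⟩
  calc h * g * x * (h * g)⁻¹ = h * (g * x * g⁻¹) * h⁻¹ := by group
    _ = n * (m * x * m⁻¹) * n⁻¹ := by rw [d _ (conj_mem_cj hx), c x hx]
    _ = _ := by group

theorem Rl.inv (a : Rl M X g) : Rl M (cj g X) g⁻¹ := by
  obtain ⟨m, hm, c⟩ := a
  refine ⟨m⁻¹, inv_mem hm, fun x hx => ?_⟩
  have h1 := c _ (mem_cj.1 hx)
  have h2 : g * (g⁻¹ * x * g) * g⁻¹ = x := by group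
  rw [h2] at h1
  calc g⁻¹ * x * g⁻¹⁻¹ = m⁻¹ * (m * (g⁻¹ * x * g) * m⁻¹) * m⁻¹⁻¹ := by group
    _ = _ := by rw [← h1]

theorem Rl.cent (a : Rl M X g) : ∃ m ∈ M, m⁻¹ * g ∈ centralizer (X : Set Γ) := by
  obtain ⟨m, hm, c⟩ := a
  refine ⟨m, hm, fun x hx => ?_⟩
  calc x * (m⁻¹ * g) = m⁻¹ * (m * x * m⁻¹) * g := by group
    _ = _ := by rw [← c x hx]; group

/-- The elements of `N_G(X)` which act on `X` as elements of `M`. -/
def rls (G M X : Subgroup Γ) : Subgroup Γ where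
  carrier := {g | g ∈ G ⊓ normalizer (X : Set Γ) ∧ Rl M X g}
  one_mem' := ⟨one_mem _, Rl.of_mem (one_mem _)⟩
  mul_mem' := fun a b => ⟨mul_mem a.1 b.1, b.2.mul (by rw [cj_eq_self b.1.2]; exact a.2)⟩
  inv_mem' := fun a => ⟨inv_mem a.1, by have := a.2.inv; rwa [cj_eq_self a.1.2] at this⟩

/-- The automizer of `X` in `G` is induced by `M`. -/
def Gd (G M X : Subgroup Γ) : Prop := ∀ g ∈ G ⊓ normalizer (X : Set Γ), Rl M X g

/-- `M` controls the fusion of `R`. -/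
def Ctl (G S M R : Subgroup Γ) : Prop := ∀ g ∈ G, cj g R ≤ S → Rl M R g

/-- `X` is fully normalized. -/
def FN (G S X : Subgroup Γ) : Prop :=
  X ≤ S ∧ IsSylowIn 2 (S ⊓ normalizer (X : Set Γ)) (G ⊓ normalizer (X : Set Γ))

/-- `H ≤ M O` with `O` of odd order normalized by `H`. -/
def OF (M H : Subgroup Γ) : Prop :=
  ∃ O : Subgroup Γ, H ≤ normalizer (O : Set Γ) ∧ Odd (Nat.card O) ∧ ∀ n ∈ H, ∃ m ∈ M, m⁻¹ * n ∈ O

theorem OF.mono (a : OF M H) (b : P ≤ H) : OF M P :=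
  let ⟨O, h1, h2, h3⟩ := a
  ⟨O, b.trans h1, h2, fun n hn => h3 n (b hn)⟩

theorem Gd.of_cj {h : Γ} (a : Gd G M (cj h X)) (hh : h ∈ G) (b : Rl M X h) : Gd G M X := fun g hg => by
  have h1 : h * g * h⁻¹ ∈ G ⊓ normalizer (cj h X : Set Γ) :=
    ⟨G.mul_mem (G.mul_mem hh hg.1) (G.inv_mem hh), cj_normalizer h X ▸ conj_mem_cj hg.2⟩
  have h2 := b.mul (a _ h1)
  rw [inv_mul_cancel_right] at h2
  have h3 := h2.mul (h := h⁻¹) (by rw [cj_mul, cj_eq_self hg.2]; exact b.inv)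
  rwa [inv_mul_cancel_left] at h3

structure Ctx (G S M : Subgroup Γ) : Prop where
  sy : IsSylowIn 2 S G
  MG : M ≤ G
  nS : G ⊓ normalizer (S : Set Γ) ≤ M

theorem Ctx.SM (c : Ctx G S M) : S ≤ M := (le_inf c.sy.le le_normalizer).trans c.nS

variable [Finite Γ]

theorem exists_fn (hS : IsSylowIn 2 S G) (hX : X ≤ S) :
    ∃ h ∈ G, FN G S (cj h X) ∧
      cj h (S ⊓ normalizer (X : Set Γ)) ≤ S ⊓ normalizer (cj h X : Set Γ) := by
  obtain ⟨R, hR, h1⟩ := exists_isSylowIn_ge (inf_le_inf_right (normalizer (X : Set Γ)) hS.le)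
    (hS.isPGroup.to_le inf_le_left)
  obtain ⟨h, hh, h2⟩ := hS.exists_conj_le (hR.le.trans inf_le_left) hR.isPGroup
  have h3 := hR.cj h
  rw [cj_inf, cj_eq_self (le_normalizer hh), cj_normalizer] at h3
  have h4 : S ⊓ normalizer (cj h X : Set Γ) = cj h R :=
    h3.max _ (inf_le_inf_right _ hS.le) (hS.isPGroup.to_le inf_le_left)
      (le_inf h2 (h3.le.trans inf_le_right))
  exact ⟨h, hh, ⟨(cj_mono h ((le_inf hX le_normalizer).trans h1)).trans h2, h4 ▸ h3⟩,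
    h4 ▸ cj_mono h h1⟩

theorem rl_to {h : Γ} (hS : IsSylowIn 2 S G) (a : Ctl G S M (S ⊓ normalizer (X : Set Γ))) (hX : X ≤ S)
    (hh : h ∈ G) (b : FN G S (cj h X)) (c : Gd G M (cj h X)) : Rl M X h := by
  obtain ⟨n, hn, h1⟩ := b.2.exists_conj_le (P := cj h (S ⊓ normalizer (X : Set Γ)))
    (le_inf (cj_le_of_mem (inf_le_left.trans hS.le) hh)
      (cj_normalizer h X ▸ cj_mono h inf_le_right))
    (isPGroup_cj (hS.isPGroup.to_le inf_le_left) h)
  have h2 := (a (n * h) (mul_mem hn.1 hh) (by rw [cj_mul]; exact h1.trans inf_le_left)).mono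
    (le_inf hX le_normalizer)
  have h3 := h2.mul (h := n⁻¹) (by rw [cj_mul, cj_eq_self hn.2]; exact c _ (inv_mem hn))
  rwa [inv_mul_cancel_left] at h3

/-- The fusion theorem. -/
theorem Ctx.alp (c : Ctx G S M) {k : ℕ}
    (a : ∀ X, FN G S X → k < Nat.card ↥(S ⊓ normalizer (X : Set Γ)) → Gd G M X)
    (hR : R ≤ S) (hk : k ≤ Nat.card R) : Ctl G S M R := by
  induction hn : Nat.card S - Nat.card R using Nat.strong_induction_on generalizing R with
  | _ n ih =>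
  intro g hg h1
  by_cases h0 : Nat.card S ≤ Nat.card R
  · obtain rfl := eq_of_le_of_card_ge hR h0
    exact Rl.of_mem (c.nS ⟨hg, cj_eq_self_iff.1 (eq_of_le_of_card_ge h1 (card_cj g _).ge)⟩)
  have key : ∀ X ≤ S, Nat.card X = Nat.card R →
      Nat.card R < Nat.card ↥(S ⊓ normalizer (X : Set Γ)) := fun X h2 h3 =>
    h3 ▸ card_lt_of_lt (lt_inf_normalizer c.sy.isPGroup
      (lt_of_le_of_ne h2 fun h4 => h0 (by rw [← h3, h4])))
  have k2 : ∀ X ≤ S, Nat.card X = Nat.card R → Ctl G S M (S ⊓ normalizer (X : Set Γ)) :=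
    fun X h2 h3 => by
      have h4 := key X h2 h3
      have h5 : Nat.card ↥(S ⊓ normalizer (X : Set Γ)) ≤ Nat.card S := card_le_of_le inf_le_left
      exact ih _ (by omega) inf_le_left (by omega) rfl
  obtain ⟨h, hh, h2, -⟩ := exists_fn c.sy hR
  have h3 := a _ h2 (hk.trans_lt (key _ h2.1 (card_cj h R)))
  have h4 := rl_to c.sy (k2 R hR rfl) hR hh h2 h3
  have h5 : cj (h * g⁻¹) (cj g R) = cj h R := by rw [cj_mul, cj_inv_cj]
  have h6 := (rl_to c.sy (k2 _ h1 (card_cj g R)) h1 (mul_mem hh (inv_mem hg)) (h5 ▸ h2)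
    (h5 ▸ h3)).inv
  rw [h5] at h6
  simpa using h4.mul h6

theorem endO (hE : IsPGroup 2 E) (hM : E ≤ M) (hn : E ≤ normalizer (O : Set Γ))
    (ho : Odd (Nat.card O)) (hg : g ∈ normalizer (E : Set Γ)) {m : Γ} (hm : m ∈ M)
    (h1 : m⁻¹ * g ∈ O) : Rl M E g := by
  have hc := Nat.coprime_two_right.2 ho
  have h0 : E ≤ normalizer ((O ⊓ M : Subgroup Γ) : Set Γ) := le_norm_inf hn (le_norm_of_le hM)
  have h2 : IsSylowIn 2 E (E ⊔ O ⊓ M) := ⟨le_sup_left, hE, fun R h1 h2 h3 => by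
    refine le_antisymm (fun x hx => ?_) h3
    obtain ⟨d, hd, o, ho, rfl⟩ := (mem_sup_right_norm h0).1 (h1 hx)
    rw [eq_one_of_mem_pgroup h2 (x := o) (by simpa using R.mul_mem (R.inv_mem (h3 hd)) hx)
      (coprime_orderOf_of_mem hc ho.1), mul_one]
    exact hd⟩
  have h3 : cj (m⁻¹ * g) E ≤ E ⊔ O ⊓ M := by
    rw [← dedekind hn hM]
    refine le_inf (cj_le_of_mem le_sup_left (mem_sup_right h1)) ?_
    rw [cj_mul, cj_eq_self hg]
    exact cj_le_of_mem hM (inv_mem hm)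
  obtain ⟨l, hl, h4⟩ := h2.exists_conj (h2.of_card_ge h3 (isPGroup_cj hE _) (card_cj _ E).ge)
  obtain ⟨o, ho', e, he, rfl⟩ := (mem_sup_right_norm' h0).1 hl
  rw [cj_mul, cj_eq_self (le_normalizer he)] at h4
  have h5 : o⁻¹ * (m⁻¹ * g) ∈ O ⊓ normalizer (E : Set Γ) :=
    ⟨O.mul_mem (O.inv_mem ho'.1) h1, cj_eq_self_iff.1 (by rw [cj_mul, ← h4, cj_inv_cj])⟩
  have h6 := le_cent_of_coprime hE (B := O ⊓ normalizer (E : Set Γ))
    (hc.coprime_dvd_left (card_dvd_of_le inf_le_left))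
    (le_norm_inf hn (le_norm_of_le le_normalizer)) inf_le_right h5
  have h7 := (Rl.of_cent (M := M) h6).mul (Rl.of_mem (mul_mem hm ho'.2))
  simpa [mul_assoc] using h7

/-- `E` is not good, with `|N_S(E)| = |T|` maximal and then `|E|` maximal. -/
structure Bad (G S M E T : Subgroup Γ) : Prop extends Ctx G S M where
  ES : E ≤ S
  hT : T = S ⊓ normalizer (E : Set Γ)
  syl : IsSylowIn 2 T (G ⊓ normalizer (E : Set Γ))
  bad : ¬ Gd G M E
  big0 : ∀ X, FN G S X → Nat.card T < Nat.card ↥(S ⊓ normalizer (X : Set Γ)) → Gd G M X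
  max0 : ∀ X, FN G S X → Nat.card T ≤ Nat.card ↥(S ⊓ normalizer (X : Set Γ)) →
    Nat.card E < Nat.card X → Gd G M X

theorem Ctx.exists_bad (c : Ctx G S M) (hX : FN G S X) (hb : ¬ Gd G M X) :
    ∃ E T, Bad G S M E T := by
  let s : Set (Subgroup Γ) := {y | FN G S y ∧ ¬ Gd G M y}
  obtain ⟨y, hy, hm⟩ := Set.exists_max_image s
    (fun y => toLex (Nat.card ↥(S ⊓ normalizer (y : Set Γ)), Nat.card y)) (Set.toFinite s)
    ⟨X, hX, hb⟩
  refine ⟨y, _, c, hy.1.1, rfl, hy.1.2, hy.2, fun X h1 h2 => ?_, fun X h1 h2 h3 => ?_⟩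
  · by_contra hc
    have := Prod.Lex.toLex_le_toLex.1 (hm X ⟨h1, hc⟩)
    dsimp only at this
    omega
  · by_contra hc
    have := Prod.Lex.toLex_le_toLex.1 (hm X ⟨h1, hc⟩)
    dsimp only at this
    omega

namespace Bad

variable (h : Bad G S M E T)
include h

omit [Finite Γ] in
theorem TS : T ≤ S := h.hT.le.trans inf_le_left

omit [Finite Γ] in
theorem TG : T ≤ G := h.syl.le.trans inf_le_left

omit [Finite Γ] in
theorem TN : T ≤ normalizer (E : Set Γ) := h.syl.le.trans inf_le_right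

omit [Finite Γ] in
theorem ET : E ≤ T := (le_inf h.ES le_normalizer).trans h.hT.ge

omit [Finite Γ] in
theorem pE : IsPGroup 2 E := h.sy.isPGroup.to_le h.ES

theorem ctl (hR : R ≤ S) (hk : Nat.card T ≤ Nat.card R) : Ctl G S M R := h.alp h.big0 hR hk

theorem gd_of (hX : X ≤ S) (h1 : T ≤ normalizer (X : Set Γ))
    (h2 : T < S ⊓ normalizer (X : Set Γ) ∨ Nat.card E < Nat.card X) : Gd G M X := by
  obtain ⟨g, hg, h3, h4⟩ := exists_fn h.sy hX
  have h5 := card_le_of_le (le_inf h.TS h1)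
  have h6 := card_le_of_le h4
  rw [card_cj] at h6
  refine Gd.of_cj ?_ hg ((h.ctl inf_le_left h5 g hg (h4.trans inf_le_left)).mono
    (le_inf hX le_normalizer))
  rcases h2 with h2 | h2
  · exact h.big0 _ h3 ((card_lt_of_lt h2).trans_le h6)
  · exact h.max0 _ h3 (h5.trans h6) (by rwa [card_cj])

theorem cent_le : T ⊓ centralizer (E : Set Γ) ≤ E := by
  by_contra hc
  set Z := T ⊓ (G ⊓ normalizer (E : Set Γ) ⊓ centralizer (E : Set Γ)) with hZ
  have hn : G ⊓ normalizer (E : Set Γ) ≤ normalizer ((G ⊓ normalizer (E : Set Γ) ⊓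
      centralizer (E : Set Γ) : Subgroup Γ) : Set Γ) :=
    le_norm_inf le_normalizer (le_norm_cent inf_le_right)
  have h1 := h.syl.inf_normal inf_le_left hn
  have h2 : E ⊔ Z ≤ T := sup_le h.ET inf_le_left
  have h3 : T ≤ normalizer ((E ⊔ Z : Subgroup Γ) : Set Γ) :=
    le_norm_sup h.TN (le_norm_inf le_normalizer (h.syl.le.trans hn))
  have h4 := h.gd_of (h2.trans h.TS) h3 (Or.inr
    (card_lt_of_lt (lt_of_le_of_ne le_sup_left fun h5 => hc fun x hx =>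
      h5.ge (mem_sup_right ⟨hx.1, h.syl.le hx.1, hx.2⟩))))
  refine h.bad fun g hg => ?_
  obtain ⟨n, hn', a, ha, rfl⟩ := h1.frattini (hn hg)
  have haH : a ∈ G ⊓ normalizer (E : Set Γ) := by
    simpa only [inv_mul_cancel_left] using Subgroup.mul_mem _ (Subgroup.inv_mem _ hn'.1) hg
  have h5 : G ⊓ normalizer (E : Set Γ) ⊓ normalizer (Z : Set Γ) ≤
      G ⊓ normalizer ((E ⊔ Z : Subgroup Γ) : Set Γ) :=
    le_inf (inf_le_left.trans inf_le_left) (le_norm_sup (inf_le_left.trans inf_le_right) inf_le_right)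
  exact ((rls G M E).mul_mem ⟨hn'.1, Rl.of_cent hn'.2⟩
    ⟨haH, (h4 a (h5 ⟨haH, ha⟩)).mono le_sup_left⟩).2

end Bad

/-- The minimal overgroup `P` of `T O` in `N_G(E)`. -/
structure Par (G S M E T O P : Subgroup Γ) : Prop extends Bad G S M E T where
  odd : Odd (Nat.card O)
  Oc : O ≤ centralizer (E : Set Γ)
  cen : G ⊓ centralizer (E : Set Γ) ≤ E ⊔ O
  le : P ≤ G ⊓ normalizer (E : Set Γ)
  PO : P ≤ normalizer (O : Set Γ)
  ge : T ⊔ O ≤ P
  nn : ¬ P ≤ rls G M E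
  min : ∀ K : Subgroup Γ, T ⊔ O ≤ K → K < P → K ≤ rls G M E

theorem Bad.exists_par (h : Bad G S M E T) : ∃ O P, Par G S M E T O P := by
  set H := G ⊓ normalizer (E : Set Γ)
  set K := G ⊓ centralizer (E : Set Γ)
  have hKH : K ≤ H := inf_le_inf_left _ (le_norm_of_le_cent le_rfl)
  have hn : H ≤ normalizer (K : Set Γ) :=
    le_norm_inf (inf_le_left.trans le_normalizer) (le_norm_cent inf_le_right)
  have h1 := h.syl.inf_normal hKH hn
  have h2 : T ⊓ K ≤ E := (inf_le_inf_left _ inf_le_right).trans h.cent_le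
  have h3 : K ≤ E ⊔ resOf 2 K := h1.resOf_sup.ge.trans (sup_le le_sup_right (h2.trans le_sup_left))
  have h4 : T ⊔ resOf 2 K ≤ H := sup_le h.syl.le ((resOf_le _).trans hKH)
  obtain ⟨P, hP, hm⟩ := exists_minimal_of_wellFoundedLT (fun L : Subgroup Γ => L ≤ H ∧
    T ⊔ resOf 2 K ≤ L ∧ ¬ L ≤ rls G M E) ⟨H, le_rfl, h4, fun h5 => h.bad fun g hg => (h5 hg).2⟩
  refine ⟨resOf 2 K, P, h, odd_res h1 (inf_le_right.trans (cent_anti h2)),
    (resOf_le _).trans inf_le_right, h3, hP.1, hP.1.trans (norm_resOf hn), hP.2.1, hP.2.2,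
    fun L h6 h7 => ?_⟩
  by_contra h8
  exact h7.not_ge (hm ⟨h7.le.trans hP.1, h6, h8⟩ h7.le)

namespace Par

variable (h : Par G S M E T O P)
include h

omit [Finite Γ] in
theorem TP : T ≤ P := le_sup_left.trans h.ge

omit [Finite Γ] in
theorem OP : O ≤ P := le_sup_right.trans h.ge

omit [Finite Γ] in
theorem PG : P ≤ G := h.le.trans inf_le_left

omit [Finite Γ] in
theorem PE : P ≤ normalizer (E : Set Γ) := h.le.trans inf_le_right

omit [Finite Γ] in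
theorem sylP : IsSylowIn 2 T P := h.syl.mono h.TP h.le

omit [Finite Γ] in
theorem O_le : O ≤ rls G M E := fun _ ho => ⟨h.le (h.OP ho), Rl.of_cent (h.Oc ho)⟩

omit [Finite Γ] in
theorem T_le : T ≤ rls G M E := fun _ ht => ⟨h.le (h.TP ht), Rl.of_mem (h.SM (h.TS ht))⟩

theorem eq_one {a : Γ} (h1 : a ∈ T) (h2 : a ∈ O) : a = 1 :=
  eq_one_of_mem_pgroup h.syl.isPGroup h1
    (coprime_orderOf_of_mem (Nat.coprime_two_right.2 h.odd) h2)

theorem mem_of_sup (hD : D ≤ T) {a : Γ} (h1 : a ∈ T) (h2 : a ∈ D ⊔ O) : a ∈ D := by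
  obtain ⟨d, hd, o, ho, rfl⟩ := (mem_sup_right_norm (hD.trans (h.TP.trans h.PO))).1 h2
  rw [h.eq_one (a := o) (by simpa using T.mul_mem (T.inv_mem (hD hd)) h1) ho, mul_one]
  exact hd

theorem frat (hD : D ≤ T) {g : Γ} (hg : g ∈ P) (hn : g ∈ normalizer ((D ⊔ O : Subgroup Γ) : Set Γ)) :
    ∃ o ∈ O, ∃ a ∈ P ⊓ normalizer (D : Set Γ), g = o * a := by
  have h0 := hD.trans (h.TP.trans h.PO)
  have h1 : IsSylowIn 2 D (D ⊔ O) := ⟨le_sup_left, h.syl.isPGroup.to_le hD, fun R h1 h2 h3 => by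
    refine le_antisymm (fun x hx => ?_) h3
    obtain ⟨d, hd, o, ho, rfl⟩ := (mem_sup_right_norm h0).1 (h1 hx)
    rw [eq_one_of_mem_pgroup h2 (x := o) (by simpa using R.mul_mem (R.inv_mem (h3 hd)) hx)
      (coprime_orderOf_of_mem (Nat.coprime_two_right.2 h.odd) ho), mul_one]
    exact hd⟩
  obtain ⟨n, hn', a, ha, rfl⟩ := h1.frattini hn
  obtain ⟨o, ho, d, hd, rfl⟩ := (mem_sup_right_norm' h0).1 hn'
  refine ⟨o, ho, d * a, ⟨?_, mul_mem (le_normalizer hd) ha⟩, mul_assoc _ _ _⟩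
  simpa [mul_assoc] using P.mul_mem (P.inv_mem (h.OP ho)) hg

theorem not_norm (hD : D ≤ T) (h1 : ∀ a ∈ P ⊓ normalizer (D : Set Γ), Rl M E a) :
    ¬ P ≤ normalizer ((D ⊔ O : Subgroup Γ) : Set Γ) := fun hn => h.nn fun g hg => by
  obtain ⟨o, ho, a, ha, rfl⟩ := h.frat hD hg (hn hg)
  exact mul_mem (h.O_le ho) ⟨h.le ha.1, h1 a ha⟩

theorem nnT : ¬ P ≤ normalizer ((T ⊔ O : Subgroup Γ) : Set Γ) :=
  h.not_norm le_rfl fun a ha =>
    (h.ctl h.TS le_rfl a (h.PG ha.1) ((cj_eq_self ha.2).le.trans h.TS)).mono h.ET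

theorem core (h1 : E ≤ D) (hD : D ≤ T) (hn : P ≤ normalizer ((D ⊔ O : Subgroup Γ) : Set Γ)) :
    D ≤ E := by
  by_contra hc
  have h2 : T ≤ normalizer (D : Set Γ) := fun t ht => mem_normalizer_fintype fun d hd =>
    h.mem_of_sup hD (T.mul_mem (T.mul_mem ht (hD hd)) (T.inv_mem ht))
      (conj_mem hn (h.TP ht) (mem_sup_left hd))
  have h3 := h.gd_of (hD.trans h.TS) h2 (Or.inr (card_lt_of_lt (lt_of_le_not_ge h1 hc)))
  exact h.not_norm hD (fun a ha => (h3 a ⟨h.PG ha.1, ha.2⟩).mono h1) hn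

theorem not_of : ¬ OF M P := fun ⟨_, h1, h2, h3⟩ => h.nn fun g hg =>
  let ⟨_, hm, h4⟩ := h3 g hg
  ⟨h.le hg, endO h.pE (h.ES.trans h.SM) (h.ET.trans (h.TP.trans h1)) h2 (h.PE hg) hm h4⟩

theorem cent_le' (hn : P ≤ normalizer (D : Set Γ)) (h1 : P ⊓ centralizer (D : Set Γ) ≤ rls G M E) :
    T ⊓ centralizer (D : Set Γ) ≤ E := by
  set N := P ⊓ centralizer (D : Set Γ)
  have h2 : P ≤ normalizer (N : Set Γ) := le_norm_inf le_normalizer (le_norm_cent hn)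
  have h3 := h.sylP.inf_normal inf_le_left h2
  have h4 : (P ⊓ normalizer ((T ⊓ N : Subgroup Γ) : Set Γ)) ⊔ O = P := by
    by_contra h5
    have h6 := h.min _ (sup_le_sup_right (le_inf h.TP (le_norm_inf le_normalizer (h.TP.trans h2))) O)
      (lt_of_le_of_ne (sup_le inf_le_left h.OP) h5)
    exact h.nn ((h3.frattini_sup inf_le_left h2).ge.trans (sup_le (le_sup_left.trans h6) h1))
  have h5 : P ≤ normalizer ((T ⊓ N ⊔ O : Subgroup Γ) : Set Γ) :=
    h4.ge.trans (sup_le (le_norm_sup inf_le_right (inf_le_left.trans h.PO))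
      (le_norm_of_le le_sup_right))
  have h6 := h.core (D := E ⊔ T ⊓ N) le_sup_left (sup_le h.ET inf_le_left)
    (by rw [sup_assoc]; exact le_norm_sup h.PE h5)
  exact (le_inf inf_le_left (inf_le_inf_right _ h.TP)).trans (le_sup_right.trans h6)

theorem gd (h1 : D ≤ E) (hn : P ≤ normalizer (D : Set Γ)) (hg : T < S ⊓ normalizer (D : Set Γ)) :
    P ≤ T ⊔ P ⊓ centralizer (D : Set Γ) := by
  by_contra hc
  have h2 := h.cent_le' hn (le_sup_right.trans (h.min (T ⊔ P ⊓ centralizer (D : Set Γ))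
    (sup_le_sup_left (le_inf h.OP (h.Oc.trans (cent_anti h1))) _)
    (lt_of_le_not_ge (sup_le h.TP inf_le_left) hc)))
  obtain ⟨R, hR, h3⟩ := exists_isSylowIn_ge (inf_le_inf_right (normalizer (D : Set Γ)) h.sy.le)
    (h.sy.isPGroup.to_le inf_le_left)
  have hTR := hg.le.trans h3
  have hRD := hR.le.trans inf_le_right
  have hRC : R ≤ normalizer ((R ⊓ centralizer (D : Set Γ) : Subgroup Γ) : Set Γ) :=
    le_norm_inf le_normalizer (le_norm_cent hRD)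
  have h4 : R ⊓ normalizer (E : Set Γ) = T :=
    h.syl.max _ (inf_le_inf_right _ (hR.le.trans inf_le_left)) (hR.isPGroup.to_le inf_le_left)
      (le_inf hTR h.TN)
  have h5 : R ⊓ centralizer (D : Set Γ) ≤ E := by
    by_contra h6
    have h7 : E ⊔ R ⊓ centralizer (D : Set Γ) ≤ R := sup_le (h.ET.trans hTR) inf_le_left
    refine (lt_inf_normalizer (hR.isPGroup.to_le h7) (lt_of_le_not_ge le_sup_left
      fun h8 => h6 (le_sup_right.trans h8))).not_ge fun w hw => ?_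
    obtain ⟨e, he, c, hc', rfl⟩ := (mem_sup_right_norm (h.ET.trans (hTR.trans hRC))).1 hw.1
    have h8 : c ∈ normalizer (E : Set Γ) := by
      simpa only [inv_mul_cancel_left] using Subgroup.mul_mem _ (inv_mem (le_normalizer he)) hw.2
    exact mul_mem he (h2 ⟨h4.le ⟨hc'.1, h8⟩, hc'.2⟩)
  have h6 : R ⊓ centralizer (D : Set Γ) = E ⊓ centralizer (D : Set Γ) :=
    le_antisymm (le_inf h5 inf_le_right) (inf_le_inf_right _ (h.ET.trans hTR))
  set C := R ⊓ centralizer (D : Set Γ)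
  have h7 : D ⊔ C ≤ E := sup_le h1 h5
  have h8 : R ≤ normalizer ((D ⊔ C : Subgroup Γ) : Set Γ) := le_norm_sup hRD hRC
  have h9 : P ≤ normalizer ((D ⊔ C : Subgroup Γ) : Set Γ) :=
    le_norm_sup hn (h6 ▸ le_norm_inf h.PE (le_norm_cent hn))
  have h10 := h.gd_of (h7.trans h.ES) (hTR.trans h8)
    (Or.inl (hg.trans_le (le_inf inf_le_left (h3.trans h8))))
  set K := G ⊓ centralizer ((D ⊔ C : Subgroup Γ) : Set Γ)
  have hPK : P ≤ normalizer (K : Set Γ) := le_norm_inf (le_norm_of_le h.PG) (le_norm_cent h9)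
  obtain ⟨Z, hZ⟩ := exists_isSylowIn 2 K
  have h11 := hR.inf_normal (N := G ⊓ centralizer (D : Set Γ))
    (inf_le_inf_left _ (le_norm_of_le_cent le_rfl))
    (le_norm_inf (le_norm_of_le inf_le_left) (le_norm_cent inf_le_right))
  have h12 : R ⊓ (G ⊓ centralizer (D : Set Γ)) ≤ D ⊔ C :=
    (inf_le_inf_left _ inf_le_right).trans le_sup_right
  have h13 : Z ≤ D ⊔ C := (h11.le_of_norm' (hZ.le.trans (inf_le_inf_left _ (cent_anti le_sup_left)))
    hZ.isPGroup (le_norm_of_le_cent (hZ.le.trans (inf_le_right.trans (cent_anti h12))))).trans h12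
  refine h.not_of ⟨resOf 2 K, norm_resOf hPK, odd_res hZ (inf_le_right.trans (cent_anti h13)),
    fun n hn' => ?_⟩
  obtain ⟨m, hm, h14⟩ := (h10 n ⟨h.PG hn', h9 hn'⟩).cent
  obtain ⟨z, hz, o, ho, h15⟩ := (mem_sup_left_norm' (hZ.le.trans (le_norm_resOf K))).1
    (hZ.resOf_sup.ge (⟨G.mul_mem (G.inv_mem (h.MG hm)) (h.PG hn'), h14⟩ : m⁻¹ * n ∈ K))
  refine ⟨m * z, mul_mem hm (h.SM (h.ES (h7 (h13 hz)))), ?_⟩
  rwa [mul_inv_rev, mul_assoc, ← h15, inv_mul_cancel_left]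

end Par

end Cfsg.Agent.H53.FL
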