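import Cfsg.Agent.H53.FMBad
import Cfsg.Agent.H53.OCCov
import Cfsg.Agent.H77.FPKit

/-! The quotient of the minimal overgroup by its odd core. -/

set_option autoImplicit false

namespace Cfsg.Agent.H53.FL

open Subgroup Cfsg Cfsg.Agent.H83
open Cfsg.Agent.H53.OC (factTwo tot tot_eq tot_mul tot_inv tot_one tot_conj tot_comm tot_pow mem_bar
  mem_pre tot_mem sq)
open scoped commutatorElement

universe u

variable {Γ : Type u} [Group Γ] {G S M E T X Y D P O : Subgroup Γ} {Q : Type u} [Group Q]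

open H63 (pim ppre mem_pim mem_ppre)

/-- `f` is the quotient map of `P` by `O`. -/
structure Cov (G S M E T O P : Subgroup Γ) (f : P →* Q) : Prop extends Par G S M E T O P where
  surj : Function.Surjective f
  ker : ppre f ⊥ = O

theorem Par.exists_cov (h : Par G S M E T O P) [Finite Γ] :
    ∃ (Q : Type u) (_ : Group Q) (_ : Finite Q) (f : P →* Q), Cov G S M E T O P f := by
  haveI := (normal_subgroupOf_iff_le_normalizer (le_sup_right.trans h.ge)).2 h.PO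
  refine ⟨P ⧸ O.subgroupOf P, inferInstance, inferInstance, QuotientGroup.mk' _, h,
    QuotientGroup.mk'_surjective _, ?_⟩
  rw [ppre, MonoidHom.comap_bot, QuotientGroup.ker_mk', subgroupOf_map_of_le (le_sup_right.trans h.ge)]

namespace Cov

variable [Finite Γ] [Finite Q] {f : P →* Q} (h : Cov G S M E T O P f) {U V : Subgroup Q}
include h

theorem EP : E ≤ P := h.ET.trans h.TP

theorem ex (y : Q) : ∃ a ∈ P, tot f a = y := by
  obtain ⟨a, rfl⟩ := h.surj y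
  exact ⟨a, a.2, tot_eq f a.2⟩

theorem eq_one_iff {a : Γ} (ha : a ∈ P) : tot f a = 1 ↔ a ∈ O := by
  rw [← h.ker, mem_pre, mem_bot, and_iff_right ha]

theorem inj {a b : Γ} (ha : a ∈ T) (hb : b ∈ T) (h1 : tot f a = tot f b) : a = b := by
  refine mul_inv_eq_one.1 (h.eq_one (T.mul_mem ha (T.inv_mem hb)) ?_)
  rw [← h.eq_one_iff (h.TP (T.mul_mem ha (T.inv_mem hb))), tot_mul f (h.TP ha) (h.TP (T.inv_mem hb)),
    tot_inv f (h.TP hb), h1, mul_inv_cancel]

theorem mem_iff (hX : X ≤ T) {a : Γ} (ha : a ∈ T) : tot f a ∈ pim f X ↔ a ∈ X := by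
  refine ⟨fun h1 => ?_, tot_mem f (hX.trans h.TP)⟩
  obtain ⟨b, hb, h2⟩ := (mem_bar f (hX.trans h.TP)).1 h1
  exact h.inj (hX hb) ha h2 ▸ hb

theorem bar_le (hX : X ≤ T) (hY : Y ≤ T) : pim f X ≤ pim f Y ↔ X ≤ Y :=
  ⟨fun h1 _ ha => (h.mem_iff hY (hX ha)).1 (h1 (tot_mem f (hX.trans h.TP) ha)), H63.pim_mono f⟩

theorem pre_bar (hX : X ≤ P) : ppre f (pim f X) = X ⊔ O := by
  rw [H63.ppre_pim f hX, h.ker, sup_comm]

theorem bar_pre (V : Subgroup Q) : pim f (ppre f V) = V :=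
  H63.pim_ppre f (le_top.trans (MonoidHom.range_eq_top.2 h.surj).ge)

theorem bar_top : pim f P = ⊤ := (H63.pim_dom f).trans (MonoidHom.range_eq_top.2 h.surj)

theorem bar_O : pim f O = ⊥ := h.ker ▸ h.bar_pre ⊥

theorem bar_pull (hV : V ≤ pim f T) : pim f (T ⊓ ppre f V) = V := by
  rw [H63.pim_inf_ppre, inf_eq_right.2 hV]

theorem exists_pull (hV : V ≤ pim f T) : ∃ X ≤ T, pim f X = V := ⟨_, inf_le_left, h.bar_pull hV⟩

theorem normal_bar (hn : P ≤ normalizer (X : Set Γ)) : (pim f X).Normal :=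
  normalizer_eq_top_iff.1 (top_le_iff.1 (h.bar_top ▸ H63.pim_norms f hn))

theorem norm_pre {g : Γ} (hg : g ∈ P) (hn : tot f g ∈ normalizer (V : Set Q)) :
    g ∈ normalizer (ppre f V : Set Γ) :=
  H63.ppre_norms f le_rfl ((mem_pre f).2 ⟨hg, hn⟩)

theorem norm_iff (hX : X ≤ D) (hD : D ≤ T) {g : Γ} (hg : g ∈ P) (hg' : g ∈ normalizer (D : Set Γ)) :
    tot f g ∈ normalizer (pim f X : Set Q) ↔ g ∈ normalizer (X : Set Γ) := by
  refine ⟨fun h1 => mem_normalizer_fintype fun x hx => ?_, fun h1 =>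
    H63.pim_norms f (inf_le_right : P ⊓ normalizer (X : Set Γ) ≤ _) (tot_mem f inf_le_left ⟨hg, h1⟩)⟩
  refine (h.mem_iff (hX.trans hD) (hD (conj_mem le_rfl hg' (hX hx)))).1 ?_
  rw [tot_conj f hg (h.TP (hD (hX hx)))]
  exact conj_mem le_rfl h1 (tot_mem f (hX.trans (hD.trans h.TP)) hx)

theorem cent_iff (hX : X ≤ D) (hD : D ≤ T) {g : Γ} (hg : g ∈ P) (hg' : g ∈ normalizer (D : Set Γ)) :
    tot f g ∈ centralizer (pim f X : Set Q) ↔ g ∈ centralizer (X : Set Γ) := by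
  refine ⟨fun h1 x hx => ?_, fun h1 =>
    H63.pim_cents f (inf_le_right : P ⊓ centralizer (X : Set Γ) ≤ _) (tot_mem f inf_le_left ⟨hg, h1⟩)⟩
  have h2 := h.inj (hD (conj_mem le_rfl hg' (hX hx))) (hD (hX hx)) (by
    rw [tot_conj f hg (h.TP (hD (hX hx))), ← h1 _ (tot_mem f (hX.trans (hD.trans h.TP)) hx),
      mul_inv_cancel_right])
  exact (mul_inv_eq_iff_eq_mul.1 h2).symm

theorem core_eq : pCore 2 Q = pim f E := by
  refine le_antisymm ?_ (le_pCore (h.normal_bar h.PE) (H63.pim_isPGroup f h.pE))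
  have hs : IsSylowIn 2 (pim f T) ⊤ := h.bar_top ▸ by
    have := (isSylowIn_top h.sylP.toSylow).map f
    rwa [← subgroupOf_self P] at this
  have h1 : pCore 2 Q ≤ pim f T := pCoreOf_top (p := 2) (G := Q) ▸ hs.pCoreOf_le
  obtain ⟨D, hD, h2⟩ := h.exists_pull h1
  have h3 : pim f E ≤ pCore 2 Q := le_pCore (h.normal_bar h.PE) (H63.pim_isPGroup f h.pE)
  rw [← h2] at h3 ⊢
  refine H63.pim_mono f (h.core ((h.bar_le h.ET hD).1 h3) hD fun g hg => ?_)
  rw [← h.pre_bar (hD.trans h.TP), h2]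
  refine h.norm_pre hg (le_norm_pCoreOf (p := 2) (⊤ : Subgroup Q) |>.trans ?_ <| mem_top _)
  rw [pCoreOf_top]

theorem min' : H85.FP.Min (pim f T) (pim f (P ⊓ rls G M E)) where
  syl := h.bar_top ▸ by
    have := (isSylowIn_top h.sylP.toSylow).map f
    rwa [← subgroupOf_self P] at this
  chr := fun y hy => by
    obtain ⟨g, hg, rfl⟩ := h.ex y
    rw [h.core_eq] at hy ⊢
    have := tot_mem f (sup_le h.EP h.OP) (h.cen ⟨h.PG hg, (h.cent_iff le_rfl h.ET hg (h.PE hg)).1 hy⟩)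
    rwa [H63.pim_sup f h.EP h.OP, h.bar_O, sup_bot_eq] at this
  nn := fun h1 => h.nnT fun g hg => by
    rw [← h.pre_bar h.TP]
    exact h.norm_pre hg (by simp [normalizer_eq_top])
  um := ⟨H63.pim_mono f (le_inf h.TP h.T_le), lt_top_iff_ne_top.2 fun h1 => h.nn (by
      have h2 := h.pre_bar (inf_le_left : P ⊓ rls G M E ≤ P)
      rw [h1, H63.ppre_top] at h2
      exact h2.le.trans (sup_le inf_le_right h.O_le)), fun K h1 h2 => by
    rw [← h.bar_pre K]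
    exact H63.pim_mono f (le_inf (H63.ppre_le_dom f K) (h.min _ (h.pre_bar h.TP ▸ H63.ppre_mono f h1)
      (lt_of_le_of_ne (H63.ppre_le_dom f K) fun h3 => h2.ne (by rw [← h.bar_pre K, h3, h.bar_top]))))⟩

theorem norm_of_normal (hX : X ≤ T) (hn : (pim f X).Normal) : X ≤ E ∧ P ≤ normalizer (X : Set Γ) := by
  have h1 : X ≤ E := (h.bar_le hX h.ET).1
    (h.core_eq ▸ le_pCore hn (H63.pim_isPGroup f (h.syl.isPGroup.to_le hX)))
  exact ⟨h1, fun g hg => (h.norm_iff h1 h.ET hg (h.PE hg)).1 (by simp [normalizer_eq_top])⟩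

theorem card_bar (hX : X ≤ T) : Nat.card (pim f X) = Nat.card X :=
  (Nat.card_congr (H63.pimEquiv f (hX.trans h.TP) (by
    rw [h.ker, eq_bot_iff]; exact fun a ha => h.eq_one (hX ha.2) ha.1)).toEquiv).symm

theorem OZ_iff (hX : X ≤ T) {a : Γ} (ha : a ∈ T) : tot f a ∈ OZ 2 (pim f X) ↔ a ∈ OZ 2 X := by
  rw [mem_OZ, mem_OZ, h.mem_iff hX ha, h.cent_iff hX le_rfl (h.TP ha) (le_normalizer ha),
    ← tot_pow f (h.TP ha)]
  refine and_congr_right fun _ => and_congr_right fun _ => ⟨fun h1 => ?_, fun h1 => h1 ▸ tot_one f⟩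
  exact h.inj (T.pow_mem ha 2) T.one_mem (h1.trans (tot_one f).symm)

theorem exists_aut : ∃ θ : normalizer (T : Set Γ) →* MulAut (pim f T),
    ∀ (n : normalizer (T : Set Γ)) (a : Γ) (ha : a ∈ T),
      (θ n ⟨tot f a, tot_mem f h.TP ha⟩ : Q) = tot f (n * a * (n : Γ)⁻¹) := by
  let e := H63.pimEquiv f h.TP (by
    rw [h.ker, eq_bot_iff]; exact fun a ha => h.eq_one ha.2 ha.1)
  have he : ∀ a : T, (e a : Q) = tot f a := fun a => (tot_eq f (h.TP a.2)).symm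
  refine ⟨(MulAut.congr e).toMonoidHom.comp T.normalizerMonoidHom, fun n a ha => ?_⟩
  have : (⟨tot f a, tot_mem f h.TP ha⟩ : pim f T) = e ⟨a, ha⟩ := Subtype.ext (he ⟨a, ha⟩).symm
  rw [this]
  simp only [MonoidHom.comp_apply, MulEquiv.coe_toMonoidHom, MulAut.congr_apply, MulEquiv.trans_apply,
    MulEquiv.symm_apply_apply, he]
  rfl

theorem res_le (h1 : D ≤ E) (hn : P ≤ normalizer (D : Set Γ)) 
    (hg : T < S ⊓ normalizer (D : Set Γ)) :
    resOf 2 (⊤ : Subgroup Q) ≤ centralizer (pim f D : Set Q) := by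
  haveI := h.normal_bar hn
  refine H77.FP.min_res_le h.min' (top_le_iff.1 ?_)
  rw [← h.bar_top]
  refine (H63.pim_mono f (h.gd h1 hn hg)).trans ?_
  rw [H63.pim_sup f h.TP inf_le_left]
  exact sup_le le_sup_right ((H63.pim_cents f inf_le_right).trans le_sup_left)

theorem exists_odd {y : Q} (hy : Odd (orderOf y)) : ∃ a ∈ P, tot f a = y ∧ Odd (orderOf a) := by
  obtain ⟨a, ha, rfl⟩ := h.ex y
  refine ⟨a, ha, rfl, Odd.of_dvd_nat (hy.mul h.odd) (orderOf_dvd_of_pow_eq_one ?_)⟩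
  have h1 : a ^ orderOf (tot f a) ∈ O := by
    rw [← h.eq_one_iff (P.pow_mem ha _), tot_pow f ha, pow_orderOf_eq_one]
  rw [pow_mul]
  exact congrArg Subtype.val (pow_card_eq_one' (x := (⟨_, h1⟩ : O)))

theorem bar_cj {g : Γ} (hg : g ∈ P) (X : Subgroup Γ) : pim f (cj g X) = cj (tot f g) (pim f X) := by
  rw [tot_eq f hg]; exact H63.pim_cj f hg X

theorem centT (hX : X ≤ T) {a : Γ} (ha : a ∈ T) :
    tot f a ∈ centralizer (pim f X : Set Q) ↔ a ∈ centralizer (X : Set Γ) :=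
  h.cent_iff hX le_rfl (h.TP ha) (le_normalizer ha)

theorem normT (hX : X ≤ T) {a : Γ} (ha : a ∈ T) :
    tot f a ∈ normalizer (pim f X : Set Q) ↔ a ∈ normalizer (X : Set Γ) :=
  h.norm_iff hX le_rfl (h.TP ha) (le_normalizer ha)

theorem bar_inf_cent (hX : X ≤ T) :
    pim f (T ⊓ centralizer (X : Set Γ)) = pim f T ⊓ centralizer (pim f X : Set Q) := by
  refine le_antisymm (le_inf (H63.pim_mono f inf_le_left) (H63.pim_cents f inf_le_right))
    fun y hy => ?_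
  obtain ⟨a, ha, rfl⟩ := (mem_bar f h.TP).1 hy.1
  exact tot_mem f (inf_le_left.trans h.TP) ⟨ha, (h.centT hX ha).1 hy.2⟩

omit [Finite Γ] [Finite Q] in
theorem bar_sq (hX : X ≤ T) : pim f (sq X) = sq (pim f X) := by
  have hP := hX.trans h.TP
  rw [OC.sq, H63.pim_closure f (by rintro _ ⟨e, he, rfl⟩; exact hP (X.mul_mem he he)), OC.sq]
  congr 1
  ext y
  constructor
  · rintro ⟨_, hx, ⟨e, he, rfl⟩, rfl⟩
    exact ⟨_, tot_mem f hP he, by rw [← tot_eq f hx, tot_mul f (hP he) (hP he)]⟩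
  · rintro ⟨_, hy, rfl⟩
    obtain ⟨e, he, rfl⟩ := (mem_bar f hP).1 hy
    exact ⟨e * e, hP (X.mul_mem he he), ⟨e, he, rfl⟩, by
      rw [← tot_eq f, tot_mul f (hP he) (hP he)]⟩

theorem lift_norm (hD : D ≤ T) {y : Q} (hy : y ∈ normalizer (pim f D : Set Q)) :
    ∃ a ∈ P ⊓ normalizer (D : Set Γ), tot f a = y := by
  obtain ⟨g, hg, rfl⟩ := h.ex y
  obtain ⟨o, ho, b, hb, rfl⟩ := h.frat hD hg (h.pre_bar (hD.trans h.TP) ▸ h.norm_pre hg hy)
  exact ⟨b, hb, by rw [tot_mul f (h.OP ho) hb.1, (h.eq_one_iff (h.OP ho)).2 ho, one_mul]⟩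

theorem odd_pre (hV : Odd (Nat.card V)) : Odd (Nat.card (ppre f V)) := by
  rw [← Nat.coprime_two_right, coprime_card_iff] at hV ⊢
  intro x hx k hk
  obtain ⟨h1, h2⟩ := (mem_pre f).1 hx
  refine coprime_card_iff.1 (Nat.coprime_two_right.2 h.odd) x ((h.eq_one_iff h1).1 ?_) k hk
  exact hV _ h2 k (by rw [← tot_pow f h1, hk, tot_one])

end Cov


end Cfsg.Agent.H53.FL
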