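import Cfsg.Agent.H53.FlavEndB

/-! The case `Z ≤ Z(X)`. -/

set_option autoImplicit false

namespace Cfsg.Agent.H53.Flav

open Subgroup Cfsg Cfsg.Agent.H8
open scoped commutatorElement Pointwise

variable {X : Type*} [Group X]

/-- The centralizer of a subgroup modulo the centre. -/
def CMS (A : Subgroup X) : Subgroup X := ⨅ a ∈ A, CM a

theorem mem_CMS {A : Subgroup X} {x : X} : x ∈ CMS A ↔ ∀ a ∈ A, x ∈ CM a := by
  simp only [CMS, mem_iInf]

theorem Two.S_le_CMS [Finite X] {r : ℕ} {S R Q Z : Subgroup X} (h : Two r S R Q Z)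
    (hZ : Z ≤ center X) : S ≤ CMS Q := fun s hs => mem_CMS.mpr fun a ha => CM_symm (hZ
  (h.triv_of_cenZ hs (fun z hz => commutatorElement_eq_one_iff_mul_comm.mpr
    (mem_center_iff.mp (hZ hz) s).symm) ha))

namespace Cfg

variable [Finite X] {G : Subgroup X} {p r n : ℕ} (c : Cfg X G p r n)
include c

theorem Z_center {S R Q Z S' R' Q' Z' : Subgroup X} (f : Fr G r S R Q Z) (f' : Fr G r S' R' Q' Z')
    (hZ : Z ≤ center X) : Z' ≤ center X := by
  obtain ⟨g, -, -, -, -, e⟩ := c.exists_conj f f'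
  intro z hz
  rw [← e, mem_conj_smul] at hz
  have h1 := conj_center (hZ hz) g
  have h2 : g * (g⁻¹ * z * g) * g⁻¹ = z := by group
  rw [← h2, h1]; exact hZ hz

theorem Z_eq {S R Q Z S' R' Q' Z' : Subgroup X} (f : Fr G r S R Q Z) (f' : Fr G r S' R' Q' Z')
    (hZ : Z ≤ center X) : Z = Z' := by
  obtain ⟨g, -, -, -, -, e⟩ := c.exists_conj f f'
  rw [← e, conj_smul_eq_of_mem_centralizer fun z hz => (mem_center_iff.mp (hZ hz) g).symm]

theorem Q_not_le {S R Q Z : Subgroup X} (f : Fr G r S R Q Z) : ¬ Q ≤ Z := fun hle =>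
  c.nontriv S R f.toFrame (by
    rw [← f.hQ, ← (c.loc f).QR, commutator_eq_bot_iff_le_centralizer]
    exact hle.trans (c.loc f).ZR)

theorem scA {S R Q Z S' R' Q' Z' : Subgroup X} (f : Fr G r S R Q Z) (f' : Fr G r S' R' Q' Z')
    (hZ : Z ≤ center X) {t : X} (ht : t ∈ Q') (hS : t ∈ S) : t ∈ Q ⊔ center X := by
  haveI : Fact (Nat.Prime 2) := ⟨Nat.prime_two⟩
  have l := c.loc f
  have l' := c.loc f'
  have hSC := l.S_le_CMS hZ
  -- move `Q` into `S'` inside `CM t`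
  have h1 : S' ≤ CM t ⊓ G := le_inf
    (fun s hs => mem_CMS.mp (l'.S_le_CMS (c.Z_center f f' hZ) hs) t ht) f'.le
  have h2 : Q ≤ CM t ⊓ G := le_inf (fun q hq => CM_symm (mem_CMS.mp (hSC hS) q hq))
    (l.QS.trans f.le)
  obtain ⟨g, hg, hle⟩ := (f'.syl.mono h1 inf_le_right).exists_conj_le (f.two.to_le l.QS) h2
  have f1 := c.conj f' g⁻¹
  have l1 := c.loc f1
  have hQ1 : Q ≤ MulAut.conj g⁻¹ • S' := by
    have := conj_mono hle g⁻¹
    rwa [conj_inv_smul_conj_smul] at this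
  have ht1 : ⁅g⁻¹, t⁆ * t ∈ MulAut.conj g⁻¹ • Q' := by
    rw [← conj_eq_c]; exact conj_mem_conj_smul.mpr ht
  have hc1 : ⁅g⁻¹, t⁆ ∈ center X := (CM t).inv_mem hg.1
  generalize MulAut.conj g⁻¹ • S' = S1 at *
  generalize MulAut.conj g⁻¹ • R' = R1 at *
  generalize MulAut.conj g⁻¹ • Q' = Q1 at *
  generalize MulAut.conj g⁻¹ • Z' = Z1 at *
  -- move `Q1` into `S` inside `CMS Q`
  have h3 : Q1 ≤ CMS Q ⊓ G := le_inf (fun q hq => mem_CMS.mpr fun a ha => CM_symm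
    (mem_CMS.mp (l1.S_le_CMS (c.Z_center f f1 hZ) (hQ1 ha)) q hq)) (l1.QS.trans f1.le)
  obtain ⟨k, hk, hle2⟩ := (f.syl.mono (le_inf hSC f.le) inf_le_right).exists_conj_le
    (f1.two.to_le l1.QS) h3
  have f2 := c.conj f1 k
  have l2 := c.loc f2
  have ht2 := (conj_mem_conj_smul (g := k)).mpr ht1
  generalize MulAut.conj k • S1 = S2 at *
  generalize MulAut.conj k • R1 = R2 at *
  generalize MulAut.conj k • Q1 = Q2 at *
  generalize MulAut.conj k • Z1 = Z2 at *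
  -- the subgroup `A`
  have hn : ∀ {S R Q Z A : Subgroup X}, Fr G r S R Q Z → Q ≤ A → A ≤ S →
      Q ≤ normalizer (A : Set X) ∧ R ≤ normalizer (A : Set X) := fun {S R Q Z A} f h1 h2 =>
    ⟨h1.trans le_normalizer, le_normalizer_of_conj fun ρ hρ a ha => by
      rw [conj_eq_c, ← commutatorElement_inv]
      exact mul_mem (inv_mem (h1 (f.hQ ▸ commutator_mem_commutator (h2 ha) hρ))) ha⟩
  have hAS : Q ⊔ Q2 ≤ S := sup_le l.QS hle2
  have hA2 : Q ⊔ Q2 ≤ normalizer (Q2 : Set X) ⊓ G := by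
    refine le_inf (sup_le (le_normalizer_of_conj fun q hq a ha => ?_) le_normalizer)
      (hAS.trans f.le)
    have h4 : ⁅q, a⁆ ∈ center X := CM_symm (mem_CMS.mp (hSC (hle2 ha)) q hq)
    rw [conj_eq_c]
    exact mul_mem (l2.ZQ (c.Z_eq f f2 hZ ▸ l.memZ_center (l.cQ hq (hle2 ha)) h4)) ha
  obtain ⟨j, hj, hle3⟩ := (f2.syl.mono (le_inf l2.SQ f2.le) inf_le_right).exists_conj_le
    (f.two.to_le hAS) hA2
  have f3 := c.conj f2 j⁻¹
  rw [mem_normalizer_iff_conj_smul_eq.mp (inv_mem hj.1)] at f3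
  have hA3 : Q ⊔ Q2 ≤ MulAut.conj j⁻¹ • S2 := by
    have := conj_mono hle3 j⁻¹
    rwa [conj_inv_smul_conj_smul] at this
  have h5 := hn f le_sup_left hAS
  have h6 := hn f3 le_sup_right hA3
  have h7 := (c.ti f f3 (c.not_le_normalizer (hAS.trans f.le) (f.two.to_le hAS) fun hle =>
    c.Q_not_le f fun q hq => l.memZ_center hq (hle (mem_sup_left hq))) h5.1 h5.2 h6.1 h6.2).1
    _ ht2 (hle2 ht2)
  have h8 := mem_CMS.mp (inv_mem hk.1) _ h7
  have e : t = ⁅g⁻¹, t⁆⁻¹ * (⁅k⁻¹, k * (⁅g⁻¹, t⁆ * t) * k⁻¹⁆ * (k * (⁅g⁻¹, t⁆ * t) * k⁻¹)) := by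
    rw [← conj_eq_c]; group
  rw [e]
  exact mul_mem (mem_sup_right (inv_mem hc1)) (mul_mem (mem_sup_right h8) (mem_sup_left h7))

theorem endA {S R Q Z : Subgroup X} (f : Fr G r S R Q Z) (hZ : Z ≤ center X)
    (g1 : ∀ s ∈ S, s * s ∈ center X → s ∈ Q ⊔ center X) :
    (∀ a ∈ S, ∀ b ∈ S, ⁅a, b⁆ ∈ center X) ∧ (center X).relIndex S = 2 ^ (2 * n) := by
  have l := c.loc f
  have hD : ∀ (i : ℕ), ∀ d ∈ S, d ∈ centralizer (R : Set X) → d ^ 2 ^ i = 1 → d ∈ center X := by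
    intro i
    induction i with
    | zero => intro d _ _ e; rw [pow_zero, pow_one] at e; rw [e]; exact one_mem _
    | succ i ih =>
      intro d hd hdR e
      obtain ⟨q, hq, k, hk, rfl⟩ := mem_sup_of_normal_right.mp (g1 d hd (ih (d * d) (mul_mem hd hd)
        (mul_mem hdR hdR) (by rw [← pow_two, ← pow_mul, ← pow_succ', e])))
      exact mul_mem (hZ (l.memZ hq (((centralizer _).mul_mem_cancel_right
        (fun ρ _ => mem_center_iff.mp hk ρ)).mp hdR))) hk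
  have hS : S ≤ center X ⊔ Q := fun s hs => by
    obtain ⟨y, hy, d, hd, hdR, rfl⟩ := l.dec hs
    obtain ⟨i, hi⟩ := f.two ⟨d, hd⟩
    exact mul_mem (mem_sup_right hy) (mem_sup_left (hD i d hd hdR (congrArg Subtype.val hi)))
  refine ⟨fun a ha b hb => ?_, ?_⟩
  · exact sup_le (center_le_CM b) (fun q hq => CM_symm (mem_CMS.mp (l.S_le_CMS hZ hb) q hq)) (hS ha)
  · have hex : ∃ z ∈ Z, z ≠ 1 := by
      by_contra hcon
      push Not at hcon
      exact c.Q_not_le f (l.abelian_le_Z le_rfl l.RQ fun a ha b hb => hcon _ (l.comm_mem ha hb))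
    obtain ⟨z, hz, hz1⟩ := hex
    obtain ⟨Zk, Xk, hk, -⟩ := l.cmp z hz hz1
    have h1 : Xk = Z := le_antisymm (fun x hx => l.memZ_of_cen (l.cmp_le hk hx) fun y hy =>
      (commutatorElement_eq_one_iff_mul_comm.mp (mem_bot.mp (hk.cen ▸ ⟨((hk.mem x).mp hx).2 y hy,
        hZ (l.comm_mem (l.cmp_le hk hx) hy)⟩))).symm) (l.rad_Z hk.mem)
    rw [← relIndex_sup_left S, le_antisymm (sup_le le_sup_left hS) (sup_le_sup_left l.QS _),
      relIndex_sup_left, ← inf_relIndex_right, show center X ⊓ Q = Z from le_antisymm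
        (fun x hx => l.memZ_center hx.2 hx.1) (le_inf hZ l.ZQ), ← h1, hk.index]

/-- The configuration is impossible, given the two quoted recognition steps. -/
theorem false_of
    (gold : ∀ {S R Q Z : Subgroup X}, Fr G r S R Q Z → ∀ {A : Subgroup X}, A ≤ S → ¬ A ≤ center X →
      (∀ a ∈ A, ∀ b ∈ A, ⁅a, b⁆ ∈ center X) →
      (∀ g ∈ G, ∀ a ∈ A, g * a * g⁻¹ ∈ S → g * a * g⁻¹ ∈ A ⊔ center X) →
      (∀ s ∈ S, s * s ∈ center X → s ∈ A ⊔ center X) ∧ ((∀ a ∈ S, ∀ b ∈ S, ⁅a, b⁆ ∈ center X) ∨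
        ((∀ a ∈ S, ∀ b ∈ S, a ∉ center X → b ∉ center X → a * a ∈ center X → b * b ∈ center X →
          ∃ g ∈ G, g * a * g⁻¹ * b⁻¹ ∈ center X) ∧ ((center X).relIndex S + 1) ∣ Nat.card G)))
    (walter : ∀ {S R Q Z : Subgroup X}, Fr G r S R Q Z → (∀ a ∈ S, ∀ b ∈ S, ⁅a, b⁆ ∈ center X) →
      (center X).relIndex S = 2 ^ (2 * n) → False) : False := by
  obtain ⟨S, R, Q, Z, f⟩ := c.exists_fr'
  have l := c.loc f
  by_cases hZ : Z ≤ center X
  · obtain ⟨g1, -⟩ := gold f l.QS (fun hle => c.Q_not_le f fun q hq => l.memZ_center hq (hle hq))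
      (fun a ha b hb => hZ (l.comm_mem ha hb))
      fun g _ a ha hS => c.scA f (c.conj f g) hZ (conj_mem_conj_smul.mpr ha) hS
    exact walter f (c.endA f hZ g1).1 (c.endA f hZ g1).2
  · obtain ⟨g1, h | ⟨g2, g3⟩⟩ := gold f l.ZS hZ
      (fun a ha b hb => by rw [l.c_Z_left ha (l.ZQ hb)]; exact one_mem _)
      fun g _ a ha hS => c.sc f (c.conj f g) hZ (conj_mem_conj_smul.mpr ha) hS
    · exact hZ (l.Z_le fun x hx y hy => h x (l.QS hx) y (l.QS hy))
    · exact c.endB f hZ g1 g2 g3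

end Cfg

end Cfsg.Agent.H53.Flav
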