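import Cfsg.Agent.H12.RO14
import Cfsg.Agent.H73.Descent
import Cfsg.Agent.H61.TransLin

/-!
Solvable linear groups (project MW2): definitions, the induction principle and the statements of
the pieces.  Notes: `stubs/notes/h53_mw.md`.
-/

set_option autoImplicit false

namespace Cfsg.Agent.H53.MW

open MulAction Cfsg.Agent.H12.RO
open scoped commutatorElement

universe u

section Der

variable {G : Type*} [Group G]

/-- the derived series of a subgroup, inside the ambient group -/
def der (X : Subgroup G) : ℕ → Subgroup G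
  | 0 => X
  | n + 1 => ⁅der X n, der X n⁆

/-- `X` acts trivially on `Ω` -/
def Triv (X : Subgroup G) (Ω : Type*) [MulAction G Ω] : Prop := ∀ g ∈ X, ∀ ω : Ω, g • ω = ω

@[simp] theorem der_zero (X : Subgroup G) : der X 0 = X := rfl

theorem der_succ (X : Subgroup G) (n : ℕ) : der X (n + 1) = ⁅der X n, der X n⁆ := rfl

theorem der_mono {X Y : Subgroup G} (h : X ≤ Y) : ∀ n, der X n ≤ der Y n
  | 0 => h
  | n + 1 => Subgroup.commutator_mono (der_mono h n) (der_mono h n)

theorem der_add (X : Subgroup G) (a : ℕ) : ∀ b, der X (a + b) = der (der X a) b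
  | 0 => rfl
  | b + 1 => by rw [← add_assoc, der_succ, der_add X a b, der_succ]

theorem der_succ_le (X : Subgroup G) (n : ℕ) : der X (n + 1) ≤ der X n :=
  Subgroup.commutator_le.2 fun a ha b hb => (der X n).mul_mem ((der X n).mul_mem
    ((der X n).mul_mem ha hb) ((der X n).inv_mem ha)) ((der X n).inv_mem hb)

theorem der_anti (X : Subgroup G) {a b : ℕ} (h : a ≤ b) : der X b ≤ der X a :=
  antitone_nat_of_succ_le (f := der X) (der_succ_le X) h

theorem der_le (X : Subgroup G) (n : ℕ) : der X n ≤ X := der_anti X (Nat.zero_le n)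

theorem map_der {H : Type*} [Group H] (f : G →* H) (X : Subgroup G) :
    ∀ n, (der X n).map f = der (X.map f) n
  | 0 => rfl
  | n + 1 => by rw [der_succ, Subgroup.map_commutator, map_der f X n, der_succ]

theorem der_top (n : ℕ) : der (⊤ : Subgroup G) n = derivedSeries G n := by
  induction n with
  | zero => rfl
  | succ n ih => rw [der_succ, ih, derivedSeries_succ]

theorem map_derivedSeries_subtype (X : Subgroup G) (n : ℕ) :
    (derivedSeries X n).map X.subtype = der X n := by
  rw [← der_top, map_der, ← MonoidHom.range_eq_map, Subgroup.range_subtype]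

instance der_normal (X : Subgroup G) [X.Normal] : ∀ n, (der X n).Normal
  | 0 => ‹_›
  | n + 1 => by
    have := der_normal X n
    exact Subgroup.commutator_normal _ _

/-- an element of `der X n` comes from the `n`-th derived subgroup of any subgroup `H ≥ X` -/
theorem exists_of_mem_der {X H : Subgroup G} (h : X ≤ H) {n : ℕ} {g : G} (hg : g ∈ der X n) :
    ∃ hg' : g ∈ H, (⟨g, hg'⟩ : H) ∈ der (X.subgroupOf H) n := by
  rw [← Subgroup.map_subgroupOf_eq_of_le h, ← map_der] at hg
  obtain ⟨x, hx, rfl⟩ := hg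
  exact ⟨x.2, hx⟩

theorem mem_der_map {H : Type*} [Group H] (f : G →* H) {X : Subgroup G} {n : ℕ} {g : G}
    (hg : g ∈ der X n) : f g ∈ der (X.map f) n := map_der f X n ▸ ⟨g, hg, rfl⟩

theorem Triv.mono {Ω : Type*} [MulAction G Ω] {X Y : Subgroup G} (h : Triv Y Ω) (hXY : X ≤ Y) :
    Triv X Ω := fun g hg => h g (hXY hg)

theorem triv_iff {Ω : Type*} [MulAction G Ω] {X : Subgroup G} :
    Triv X Ω ↔ X ≤ (toPermHom G Ω).ker := by
  refine forall₂_congr fun g _ => ?_
  rw [MonoidHom.mem_ker, Equiv.ext_iff]; rfl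

/-- if the elements of `X` commute as operators then `X'` acts trivially -/
theorem triv_der_one {Ω : Type*} [MulAction G Ω] {X : Subgroup G}
    (h : ∀ a ∈ X, ∀ b ∈ X, ∀ ω : Ω, a • b • ω = b • a • ω) : Triv (der X 1) Ω := by
  rw [triv_iff]
  refine Subgroup.commutator_le.2 fun a ha b hb => ?_
  rw [MonoidHom.mem_ker, Equiv.ext_iff]
  intro ω
  change ⁅a, b⁆ • ω = ω
  rw [commutatorElement_def, mul_smul, mul_smul, mul_smul, h a ha b hb, smul_inv_smul,
    smul_inv_smul]

end Der

/-- **The induction principle** for completely reducible modules of solvable groups. -/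
theorem ind (P : ∀ (G V : Type u) [Group G] [AddCommGroup V] [DistribMulAction G V], Prop)
    (h0 : ∀ (G V : Type u) [Group G] [AddCommGroup V] [DistribMulAction G V] [Subsingleton V],
      P G V)
    (hsum : ∀ (G V : Type u) [Group G] [Finite G] [Group.IsSolvable G] [AddCommGroup V] [Finite V]
      [DistribMulAction G V] (U W : AddSubgroup V) (hU : Inv G U) (hW : Inv G W), ¬ Irr G V →
      U ≠ ⊥ → W ≠ ⊥ → U ⊓ W = ⊥ → U ⊔ W = ⊤ →
      (letI := subAct hU; P G U) → (letI := subAct hW; P G W) → P G V)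
    (hquot : ∀ (G G' V : Type u) [Group G] [Finite G] [Group G'] [AddCommGroup V] [Finite V]
      [DistribMulAction G V] [DistribMulAction G' V] (f : G →* G'), Function.Surjective f →
      (∀ (g : G) (v : V), f g • v = g • v) → P G' V → P G V)
    (hprim : ∀ (G V : Type u) [Group G] [Finite G] [Group.IsSolvable G] [AddCommGroup V]
      [Finite V] [Nontrivial V] [DistribMulAction G V], (∀ g : G, (∀ x : V, g • x = x) → g = 1) →
      Prim G V → (∀ (G' V' : Type u) [Group G'] [Finite G'] [Group.IsSolvable G'] [AddCommGroup V']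
        [Finite V'] [DistribMulAction G' V'], Nat.card V' < Nat.card V → CR G' V' → P G' V') →
      P G V)
    (himp : ∀ (G V Ω N : Type u) [Group G] [Finite G] [Group.IsSolvable G] [AddCommGroup V]
      [Finite V] [Nontrivial V] [DistribMulAction G V] [MulAction G Ω] [Fintype Ω] [Nontrivial Ω]
      [AddCommGroup N] [DistribMulAction G N], (∀ g : G, (∀ x : V, g • x = x) → g = 1) →
      Irr G V → Sys G V Ω → Aff G Ω N →
      (∀ (G' V' : Type u) [Group G'] [Finite G'] [Group.IsSolvable G'] [AddCommGroup V']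
        [Finite V'] [DistribMulAction G' V'], Nat.card V' < Nat.card V → CR G' V' → P G' V') →
      P G V)
    (G V : Type u) [Group G] [Finite G] [Group.IsSolvable G] [AddCommGroup V] [Finite V]
    [DistribMulAction G V] (hcr : CR G V) : P G V := by
  induction hn : Nat.card V using Nat.strong_induction_on generalizing G V with
  | _ n ih =>
  have IH : ∀ (G' V' : Type u) [Group G'] [Finite G'] [Group.IsSolvable G'] [AddCommGroup V']
      [Finite V'] [DistribMulAction G' V'], Nat.card V' < Nat.card V → CR G' V' → P G' V' :=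
    fun G' V' _ _ _ _ _ _ hlt h2 => ih _ (hn ▸ hlt) G' V' h2 rfl
  rcases subsingleton_or_nontrivial V with hV | hV
  · exact h0 G V
  by_cases hirr : Irr G V
  swap
  · have hirr' := hirr
    unfold Irr at hirr
    push Not at hirr
    obtain ⟨U, hU, h0, h1⟩ := hirr
    obtain ⟨W, hW, h2, h3⟩ := hcr U hU
    have h4 : W ≠ ⊤ := by
      rintro rfl
      exact h0 (by simpa using h2)
    have h5 : W ≠ ⊥ := by
      rintro rfl
      exact h1 (by simpa using h3)
    letI := subAct hU
    letI := subAct hW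
    exact hsum G V U W hU hW hirr' h0 h5 h2 h3 (IH G U (card_lt_of_ne_top h1) (hcr.sub hU))
      (IH G W (card_lt_of_ne_top h4) (hcr.sub hW))
  let f := DistribMulAction.toModuleAut ℤ V (S := G)
  let G' := f.range
  have hfin : Finite G' := Finite.of_surjective _ f.rangeRestrict_surjective
  have hsol : Group.IsSolvable G' := Group.isSolvable_of_surjective f.rangeRestrict_surjective
  have hirr' : Irr G' V := fun U hU => hirr U fun g v hv => hU (f.rangeRestrict g) v hv
  have hf : ∀ g : G', (∀ x : V, g • x = x) → g = 1 := fun g hg => Subtype.ext (LinearEquiv.ext hg)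
  refine hquot G G' V f.rangeRestrict f.rangeRestrict_surjective (fun _ _ => rfl) ?_
  by_cases hp : Prim G' V
  · exact hprim G' V hf hp IH
  obtain ⟨Ω, _, _, _, S, N, _, _, ⟨A⟩⟩ := exists_aff hirr' hp
  exact himp G' V Ω N hf hirr' S A IH

/-- The primitive package: `M = U To E`, `W = M / U` with its commutator form `b`, `|W| = e²`. -/
structure Pk (G V K W : Type*) [Group G] [AddCommGroup V] [DistribMulAction G V] [Field K]
    [Module K V] [AddCommGroup W] [DistribMulAction G W] (σ : G →* RingAut K)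
    (U To E M : Subgroup G) (π : G → W) (b : W → W → Kˣ) (e : ℕ) : Prop
    extends Str G V K σ U To E where
  M_eq : M = U ⊔ (To ⊔ E)
  Mn : M.Normal
  sec : IsSec U M π
  σM : ∀ t ∈ M, σ t = 1
  kerW : ∀ g : G, σ g = 1 → (∀ w : W, g • w = w) → g ∈ M
  cr : CR G W
  hb : ∀ s ∈ M, ∀ t ∈ M, ∀ v : V, ⁅s, t⁆ • v = (b (π s) (π t) : K) • v
  b_add_left : ∀ x y z, b (x + y) z = b x z * b y z
  b_add_right : ∀ x y z, b x (y + z) = b x y * b x z
  b_self : ∀ x, b x x = 1
  b_nd : ∀ x, (∀ y, b x y = 1) → x = 0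
  b_smul : ∀ (g : G) x y, (b (g • x) (g • y) : K) = σ g (b x y)
  card : Nat.card W = e ^ 2
  pos : 0 < e
  le : e ≤ Module.finrank K V
  dvd : ∀ r : ℕ, r.Prime → r ∣ e → r ∣ Nat.card U
  U_dvd : Nat.card U ∣ Nat.card K - 1
  cyc : IsCyclic U
  scal : ∀ g : G, (∃ c : K, ∀ v : V, g • v = c • v) → g ∈ U

/-- PK: the package exists. -/
def PkStmt : Prop :=
  ∀ (G V : Type u) [Group G] [Finite G] [Group.IsSolvable G] [AddCommGroup V] [Finite V]
    [Nontrivial V] [DistribMulAction G V], (∀ g : G, (∀ x : V, g • x = x) → g = 1) → Prim G V →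
    ∃ (K : Type u) (_ : Field K) (_ : Finite K) (_ : Module K V) (W : Type u) (_ : AddCommGroup W)
      (_ : Finite W) (_ : DistribMulAction G W) (σ : G →* RingAut K) (U To E M : Subgroup G)
      (π : G → W) (b : W → W → Kˣ) (e : ℕ), Pk G V K W σ U To E M π b e

/-- A property of all primitive packages. -/
def AllPk (P : ∀ (G V K W : Type u) [Group G] [AddCommGroup V] [DistribMulAction G V] [Field K]
    [Module K V] [AddCommGroup W] [DistribMulAction G W] (_ : G →* RingAut K) (_ _ : Subgroup G)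
    (_ : ℕ), Prop) : Prop :=
  ∀ (G V K W : Type u) [Group G] [Finite G] [Group.IsSolvable G] [AddCommGroup V] [Finite V]
    [Nontrivial V] [DistribMulAction G V] [Field K] [Finite K] [Module K V] [AddCommGroup W]
    [Finite W] [DistribMulAction G W] (σ : G →* RingAut K) (U To E M : Subgroup G) (π : G → W)
    (b : W → W → Kˣ) (e : ℕ), Pk G V K W σ U To E M π b e → P G V K W σ U M e

/-! ### S4070 -/

/-- bound for the derived length of a completely reducible solvable group on `n < 2^24` vectors -/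
def phi (n : ℕ) : ℕ :=
  if n ≤ 2 then 0 else if n ≤ 3 then 1 else if n ≤ 8 then 2 else if n ≤ 63 then 4 else
    if n ≤ 4095 then 6 else if n ≤ 6560 then 7 else 8

/-- PHI -/
def PhiStmt : Prop :=
  ∀ (G V : Type u) [Group G] [Finite G] [Group.IsSolvable G] [AddCommGroup V] [Finite V]
    [DistribMulAction G V], CR G V → Nat.card V < 2 ^ 24 →
    Triv (der (⊤ : Subgroup G) (phi (Nat.card V))) V

/-- PSI: solvable permutation groups of degree at most seven -/
def PsiStmt : Prop :=
  ∀ (G Ω : Type u) [Group G] [Finite G] [Group.IsSolvable G] [MulAction G Ω] [Finite Ω],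
    Nat.card Ω ≤ 7 → Triv (der (⊤ : Subgroup G) (min (Nat.card Ω - 1) 3)) Ω

/-- `k` inequivalent vectors whose stabilizers have derived length at most `d a` on `V` -/
def Good (G V : Type*) [Group G] [AddCommGroup V] [DistribMulAction G V] {k : ℕ}
    (d : Fin k → ℕ) : Prop :=
  ∃ v : Fin k → V, (∀ a a' (g : G), g • v a = v a' → a = a') ∧
    ∀ a, Triv (der (stabilizer G (v a)) (d a)) V

/-- the stabilizer of a colouring -/
def cst (G : Type*) [Group G] {Ω κ : Type*} [MulAction G Ω] (c : Ω → κ) : Subgroup G where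
  carrier := {g | ∀ ω, c (g • ω) = c ω}
  one_mem' ω := by rw [one_smul]
  mul_mem' {a b} ha hb ω := by rw [mul_smul, ha, hb]
  inv_mem' {a} ha ω := by rw [← ha, smul_inv_smul]

theorem mem_cst {G : Type*} [Group G] {Ω κ : Type*} [MulAction G Ω] {c : Ω → κ} {g : G} :
    g ∈ cst G c ↔ ∀ ω, c (g • ω) = c ω := Iff.rfl

/-- `k'` inequivalent colourings with `k` colours and small stabilizers -/
def Cols (G Ω : Type*) [Group G] [MulAction G Ω] {k k' : ℕ} (d : Fin k → ℕ) (d' : Fin k' → ℕ) :
    Prop :=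
  ∃ c : Fin k' → Ω → Fin k, (∀ j j' (g : G), (∀ ω, c j' (g • ω) = c j ω) → j = j') ∧
    ∀ j ω, ∃ s, s + d (c j ω) ≤ d' j ∧ ∀ g ∈ der (cst G (c j)) s, g • ω = ω

def tA : Fin 2 → ℕ := ![6, 6]
def tB : Fin 3 → ℕ := ![7, 7, 8]
def tC : Fin 4 → ℕ := ![8, 8, 8, 8]
def tD : Fin 5 → ℕ := ![9, 9, 9, 9, 9]

/-- the invariant of the induction -/
def Inv9 (G V : Type*) [Group G] [AddCommGroup V] [DistribMulAction G V] : Prop :=
  Good G V tA ∨ Good G V tB ∨ Good G V tC ∨ Good G V tD

/-- COL-A -/
def ColAStmt : Prop :=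
  ∀ (G Ω N : Type u) [Group G] [Finite G] [Group.IsSolvable G] [MulAction G Ω] [Fintype Ω]
    [Nontrivial Ω] [AddCommGroup N] [DistribMulAction G N], Aff G Ω N →
    Cols G Ω tA tB ∨ Cols G Ω tA tC ∨ Cols G Ω tA tD

/-- COL-B -/
def ColBStmt : Prop :=
  ∀ (G Ω N : Type u) [Group G] [Finite G] [Group.IsSolvable G] [MulAction G Ω] [Fintype Ω]
    [Nontrivial Ω] [AddCommGroup N] [DistribMulAction G N], Aff G Ω N →
    Cols G Ω tB tD ∧ Cols G Ω tC tD ∧ Cols G Ω tD tD

/-- REG: for `8 ≤ e ≤ 63` some vector has trivial stabilizer in `M`; for `3 ≤ e` some non-zero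
vector has not. -/
def RegStmt : Prop :=
  AllPk.{u} fun G V _ _ _ _ _ _ _ _ _ _ _ M e =>
    (8 ≤ e → e ≤ 63 → ∃ v : V, ∀ t ∈ M, t • v = v → t = 1) ∧
    (3 ≤ e → ∃ v : V, v ≠ 0 ∧ ∃ t ∈ M, t ≠ (1 : G) ∧ t • v = v)

/-- CNT: five orbits by counting -/
def CntStmt : Prop :=
  AllPk.{u} fun G V _ _ _ _ _ _ _ _ _ σ _ _ e =>
    (64 ≤ e → ∃ v : Fin 5 → V, (∀ a, v a ≠ 0) ∧ ∀ a a' (g : G), g • v a = v a' → a = a') ∧
    (4096 ≤ e → ∃ v : Fin 5 → V, (∀ a (g : G), σ g = 1 → g • v a = v a → g = 1) ∧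
      ∀ a a' (g : G), g • v a = v a' → a = a')

/-- ODD-S: odd order, small `e` -/
def OddSStmt : Prop :=
  AllPk.{u} fun G V _ W _ _ _ _ _ _ _ _ _ M e => Odd (Nat.card G) → Odd (Nat.card V) →
    (e = 1 ∨ e = 3 ∨ e = 5 ∨ e = 9) →
    Triv (der (⊤ : Subgroup G) 1) W ∧ ∃ v : V, ∀ t ∈ M, t • v = v → t = 1

/-- ODD-L: odd order, large `e` -/
def OddLStmt : Prop :=
  AllPk.{u} fun G V _ _ _ _ _ _ _ _ _ _ _ M e => Odd (Nat.card G) → Odd (Nat.card V) →
    ¬ (e = 1 ∨ e = 3 ∨ e = 5 ∨ e = 9) →
    ∃ v : V, ∀ g ∈ der (⊤ : Subgroup G) 1 ⊔ M, g • v = v → g = 1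

/-! ### S4266, S4190 -/

/-- the group of permutations induced by `G` -/
abbrev img (G V : Type*) [Group G] [MulAction G V] : Subgroup (Equiv.Perm V) :=
  (toPermHom G V).range

/-- the commuting probability of the induced group -/
noncomputable def cp (G V : Type*) [Group G] [MulAction G V] : ℚ := commProb (img G V)

/-- the class number of the induced group plus the number of orbits -/
noncomputable def ko (G V : Type*) [Group G] [MulAction G V] : ℕ :=
  Nat.card (ConjClasses (img G V)) + Nat.card (orbitRel.Quotient G V)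

/-- the invariant of the induction for S4266 -/
def Lin (p : ℕ) (G V : Type*) [Group G] [MulAction G V] : Prop :=
  (p : ℚ) ≤ cp G V * Nat.card V ∧ (p ^ 2 ≤ Nat.card V → 49 * p + 60 ≤ 60 * ko G V)

/-- SQF: the symplectic bound on a module of order `r²` -/
def SqfStmt : Prop :=
  ∀ (G W : Type u) (A : Type u) [Group G] [Finite G] [AddCommGroup W] [Finite W]
    [DistribMulAction G W] [CommGroup A] (b : W → W → A) (e : ℕ), Squarefree e →
    Nat.card W = e ^ 2 → (∀ x y z, b (x + y) z = b x z * b y z) →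
    (∀ x y z, b x (y + z) = b x y * b x z) → (∀ x, b x x = 1) → (∀ x, (∀ y, b x y = 1) → x = 0) →
    (∀ (g : G) x y, b (g • x) (g • y) = b x y) → Nat.card (img G W) ≤ e * (e ^ 2 - 1)

/-- ORD: completely reducible solvable groups on at most sixteen vectors in characteristic two -/
def OrdStmt : Prop :=
  ∀ (G W : Type u) [Group G] [Finite G] [Group.IsSolvable G] [AddCommGroup W] [Finite W]
    [DistribMulAction G W], CR G W → Nat.card W = 16 → Nat.card (img G W) ≤ 72

/-- the primitive case of `Lin` for the values of `e` satisfying `P` -/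
def LinP (P : ℕ → Prop) : Prop :=
  AllPk.{u} fun G V _ _ _ _ _ _ _ _ _ _ _ _ e => P e →
    ∀ p : ℕ, p.Prime → 11 ≤ p → (∀ v : V, p • v = 0) → Lin p G V

/-- LIN -/
def LinStmt : Prop :=
  ∀ (p : ℕ), p.Prime → 11 ≤ p → ∀ (G V : Type u) [Group G] [Finite G] [Group.IsSolvable G]
    [AddCommGroup V] [Finite V] [Nontrivial V] [DistribMulAction G V], CR G V →
    (∀ v : V, p • v = 0) → Lin p G V

/-- S4266 in one universe -/
def HKStmt : Prop :=
  ∀ (G : Type u) [Group G] [Finite G] [Group.IsSolvable G] (p : ℕ), p.Prime →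
    p ^ 2 ∣ Nat.card G → 49 * p ≤ 60 * Nat.card (ConjClasses G)

/-- LINZ: a central element of large prime order acting without fixed points -/
def LinZStmt : Prop :=
  ∀ (p : ℕ), p.Prime → 53 ≤ p → ∀ (G V : Type u) [Group G] [Finite G] [Group.IsSolvable G]
    [AddCommGroup V] [Finite V] [Nontrivial V] [DistribMulAction G V], CR G V →
    ∀ (r : ℕ), r.Prime → (∀ v : V, r • v = 0) → ∀ z : G, z ∈ Subgroup.center G → z ^ p = 1 →
    (∀ v : V, z • v = v → v = 0) →
    54 ≤ cp G V * Nat.card V ∧ ∃ m : Polynomial ℤ, m.Monic ∧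
      (∀ v : V, ∑ i ∈ Finset.range (m.natDegree + 1), m.coeff i • z ^ i • v = 0) ∧
      2 ^ m.natDegree ≤ cp G V * Nat.card V

end Cfsg.Agent.H53.MW
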