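import Cfsg.Agent.Lead.PcDefs

/-! Project PL, piece B4: the normaliser of `R` is transitive on `R - T` modulo the squares. -/

set_option autoImplicit false

namespace Cfsg.Agent.H53.PlB4

open Subgroup Cfsg.Agent.Lead.Pc
open scoped commutatorElement

universe u

theorem sq_conj {G : Type u} [Group G] {T : Subgroup G} {n x : G} (hn : n ∈ Nm T)
    (hx : x ∈ Sq T) : n * x * n⁻¹ ∈ Sq T := by
  induction hx using closure_induction with
  | mem s hs =>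
    obtain ⟨t, ht, rfl⟩ := hs
    exact subset_closure ⟨n * t * n⁻¹, (mem_normalizer_iff.1 hn t).1 ht, by group⟩
  | one => simp
  | mul a b _ _ ha hb =>
    have e : n * (a * b) * n⁻¹ = n * a * n⁻¹ * (n * b * n⁻¹) := by group
    rw [e]
    exact mul_mem ha hb
  | inv a _ ha =>
    have e : n * a⁻¹ * n⁻¹ = (n * a * n⁻¹)⁻¹ := by group
    rw [e]
    exact inv_mem ha

theorem b4 : B4Stmt.{u} := by
  intro ord G _ _ S T S1 S2 R h l nc b y hy y' hy' y0 y0'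
  have : Fact (Nat.Prime 2) := ⟨Nat.prime_two⟩
  have tw : ∀ a ∈ R, Tw a := fun a ha => by
    obtain ⟨k, hk⟩ := l.two ⟨a, ha⟩
    exact ⟨k, congrArg Subtype.val hk⟩
  have par : ∀ a ∈ R, a ∉ T → ∀ m : ℕ, (a ^ m ∈ S ↔ Even m) := fun a ha a0 m => by
    obtain ⟨-, a1, a2⟩ := b.li a ha a0
    have a3 : ∀ j : ℕ, a ^ (2 * j) ∈ S := fun j => by
      rw [pow_mul, pow_two]
      exact pow_mem (h.le a2) j
    rcases Nat.even_or_odd' m with ⟨j, rfl | rfl⟩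
    · exact iff_of_true (a3 j) (even_two_mul j)
    · refine iff_of_false (fun q => a1 ?_) (Nat.not_even_iff_odd.2 (odd_two_mul_add_one j))
      rw [pow_succ] at q
      exact (mul_mem_cancel_left (a3 j)).1 q
  obtain ⟨yN, yS, -⟩ := b.li y hy y0
  obtain ⟨yN', -, yT'⟩ := b.li y' hy' y0'
  obtain ⟨n, hn, k, hk⟩ := nc y y' (tw y hy) (tw y' hy') yS yN yN'
    (ord G S h.nm h.cp y y' (tw y hy) (tw y' hy') yS fun m => by rw [par y hy y0, par y' hy' y0'])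
  obtain ⟨Y, hY⟩ : ∃ Y, Y = n * y * n⁻¹ := ⟨_, rfl⟩
  have hk' : y' ^ k = Y := hY ▸ hk
  have YR : Y ∈ R := hk' ▸ zpow_mem hy' k
  have YF : Y * y'⁻¹ ∈ Sq T := by
    rcases Int.even_or_odd' k with ⟨j, rfl | rfl⟩
    · refine absurd ((mem_normalizer_iff.1 hn y).2 ?_) y0
      rw [← hY, ← hk', zpow_mul, zpow_two]
      exact zpow_mem yT' j
    · rw [← hk', zpow_add_one, mul_inv_cancel_right, zpow_mul, zpow_two]
      exact zpow_mem (b.sq y' hy') j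
  let D : Subgroup G :=
    { carrier := {d | d ∈ Nm T ∧ d ∈ S2 ∧ d * Y * d⁻¹ * Y⁻¹ ∈ Sq T}
      one_mem' := ⟨one_mem _, one_mem _, by simp⟩
      mul_mem' := by
        rintro d e ⟨d1, d2, d3⟩ ⟨e1, e2, e3⟩
        refine ⟨mul_mem d1 e1, mul_mem d2 e2, ?_⟩
        have q : d * e * Y * (d * e)⁻¹ * Y⁻¹ =
          d * (e * Y * e⁻¹ * Y⁻¹) * d⁻¹ * (d * Y * d⁻¹ * Y⁻¹) := by group
        rw [q]
        exact mul_mem (sq_conj d1 e3) d3
      inv_mem' := by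
        rintro d ⟨d1, d2, d3⟩
        refine ⟨inv_mem d1, inv_mem d2, ?_⟩
        have q : d⁻¹ * Y * d⁻¹⁻¹ * Y⁻¹ = d⁻¹ * (d * Y * d⁻¹ * Y⁻¹)⁻¹ * d⁻¹⁻¹ := by group
        rw [q]
        exact sq_conj (inv_mem d1) (inv_mem d3) }
  have RN : R ≤ Nm T := fun a ha => b.nm (le_normalizer ha)
  have RD : R ≤ D := fun a ha => ⟨RN ha, l.rs ha, b.cm a ha Y YR⟩
  have RD' : ∀ a ∈ R, n * a * n⁻¹ ∈ D := fun a ha =>
    ⟨mul_mem (mul_mem hn (RN ha)) (inv_mem hn), l.n2.conj_mem a (l.rs ha) n, by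
      have q : n * a * n⁻¹ * Y * (n * a * n⁻¹)⁻¹ * Y⁻¹ = n * (a * y * a⁻¹ * y⁻¹) * n⁻¹ := by
        rw [hY]; group
      rw [q]
      exact sq_conj hn (b.cm a ha y hy)⟩
  have od : ¬ 2 ∣ (R.subgroupOf D).index := fun q => by
    have e := relIndex_mul_relIndex R D S2 RD fun d hd => hd.2.1
    have o := l.oddR
    rw [← e] at o
    exact (Nat.Odd.of_mul_left o).not_two_dvd_nat q
  let P : Sylow 2 D := (l.two.comap_subtype (K := D)).toSylow od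
  obtain ⟨Q, hQ⟩ := ((l.two.map (MulAut.conj n).toMonoidHom).comap_subtype (K := D)).exists_le_sylow
  obtain ⟨d, hd⟩ := MulAction.exists_smul_eq D Q P
  refine ⟨d * n, mem_normalizer_fintype fun a ha => ?_, ?_⟩
  · have q1 : (⟨n * a * n⁻¹, RD' a ha⟩ : D) ∈ Q := hQ ⟨a, ha, rfl⟩
    have q2 : d * ⟨n * a * n⁻¹, RD' a ha⟩ * d⁻¹ ∈ P := by
      rw [← hd]
      exact ⟨_, q1, rfl⟩
    have q3 : (d : G) * (n * a * n⁻¹) * (d : G)⁻¹ ∈ R := q2
    have q4 : (d : G) * n * a * (d * n)⁻¹ = d * (n * a * n⁻¹) * (d : G)⁻¹ := by group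
    rw [q4]
    exact q3
  · have q : (d : G) * n * y * (d * n)⁻¹ * y'⁻¹ = d * Y * (d : G)⁻¹ * Y⁻¹ * (Y * y'⁻¹) := by
      rw [hY]; group
    rw [q]
    exact mul_mem d.2.2.2 YF

end Cfsg.Agent.H53.PlB4
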