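import Cfsg.Agent.H53.MWOrd

/-!
The 3-closure of a solvable permutation group (project TC): definitions and the statements of the
pieces.  Notes: `stubs/notes/h53_tc.md`.
-/

set_option autoImplicit false

namespace Cfsg.Agent.H53.TC

open MulAction Cfsg.Agent.H12.RO Cfsg.Agent.H53.MW

universe u

/-- `H` induces a solvable group on `Ω` -/
def SolvOn (H Ω : Type*) [Group H] [MulAction H Ω] : Prop :=
  ∃ n, Triv (der (⊤ : Subgroup H) n) Ω

/-- `H` lies in the 3-closure of `G` -/
def Cl3 (G H Ω : Type*) [Group G] [Group H] [MulAction G Ω] [MulAction H Ω] : Prop :=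
  ∀ (h : H) (a b c : Ω), ∃ g : G, g • a = h • a ∧ g • b = h • b ∧ g • c = h • c

/-- `H` lies in the 3-closure of the affine group `V ⋊ G` -/
def Aff3 (G H V : Type*) [Group G] [Group H] [AddCommGroup V] [DistribMulAction G V]
    [MulAction H V] : Prop :=
  ∀ (h : H) (x y z : V), ∃ g : G, h • y - h • x = g • (y - x) ∧ h • z - h • x = g • (z - x)

/-- `H` lies in the 2-closure of `G` -/
def Cl2 (G H V : Type*) [Group G] [Group H] [MulAction G V] [MulAction H V] : Prop :=
  ∀ (h : H) (x y : V), ∃ g : G, g • x = h • x ∧ g • y = h • y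

/-- the theorem in degrees `< n` -/
def TC (n : ℕ) : Prop :=
  ∀ (G H Ω : Type u) [Group G] [Finite G] [Group.IsSolvable G] [Group H] [MulAction G Ω]
    [MulAction H Ω] [Finite Ω], Nat.card Ω < n → Cl3 G H Ω → SolvOn H Ω

/-- the affine form of the theorem in degrees `< n` -/
def AC (n : ℕ) : Prop :=
  ∀ (G H V : Type u) [Group G] [Finite G] [Group.IsSolvable G] [Group H] [AddCommGroup V]
    [Finite V] [DistribMulAction G V] [MulAction H V], Nat.card V < n → Aff3 G H V → SolvOn H V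

/-- the linear form of the theorem in degrees `< n` -/
def LC (n : ℕ) : Prop :=
  ∀ (G H V : Type u) [Group G] [Finite G] [Group.IsSolvable G] [Group H] [AddCommGroup V]
    [Finite V] [DistribMulAction G V] [DistribMulAction H V], Nat.card V < n → Cl2 G H V →
    SolvOn H V

theorem AC.lc {n : ℕ} (h : AC.{u} n) : LC.{u} n := fun G H V _ _ _ _ _ _ _ _ hn hc =>
  h G H V hn fun f x y z => by
    obtain ⟨g, h1, h2⟩ := hc f (y - x) (z - x)
    exact ⟨g, by rw [h1, smul_sub], by rw [h2, smul_sub]⟩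

/-- the irreducible affine case in degree `n` -/
def IrrStep (n : ℕ) : Prop :=
  ∀ (G H V : Type u) [Group G] [Finite G] [Group.IsSolvable G] [Group H] [AddCommGroup V]
    [Finite V] [Nontrivial V] [DistribMulAction G V] [MulAction H V], Nat.card V = n → Irr G V →
    Aff3 G H V → SolvOn H V

/-- RED-A -/
def AcStmt : Prop := ∀ n, TC.{u} n → AC.{u} n

/-- RED-B: the induction on the degree -/
def RedStmt : Prop := (∀ n, TC.{u} n → IrrStep.{u} n) → ∀ n, TC.{u} n

/-- IMP: imprimitive modules -/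
def ImpStmt : Prop :=
  ∀ n, TC.{u} n → AC.{u} n → ∀ (G H V Ω : Type u) [Group G] [Finite G] [Group.IsSolvable G]
    [Group H] [AddCommGroup V] [Finite V] [DistribMulAction G V] [MulAction H V] [MulAction G Ω]
    [Fintype Ω] [Nontrivial Ω], Sys G V Ω → Nat.card V ≤ n → Aff3 G H V → SolvOn H V

/-- HUA -/
def HuaStmt : Prop :=
  ∀ (K : Type u) [Field K] [Finite K] (φ : K → K), Function.Bijective φ → φ 1 = 1 →
    (∀ s t : K, s ≠ 0 → ∃ τ : RingAut K, φ t = τ (t / s) * φ s) → ∃ τ : RingAut K, ∀ t, φ t = τ t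

/-- ADD: permutations in the 3-closure of an affine semilinear group are semi-affine -/
def AddStmt : Prop :=
  ∀ (G V K : Type u) [Group G] [AddCommGroup V] [Nontrivial V] [DistribMulAction G V] [Field K]
    [Finite K] [Module K V] (σ : G →* RingAut K),
    (∀ (g : G) (c : K) (v : V), g • c • v = σ g c • g • v) → 2 < Nat.card K →
    ∀ f : Equiv.Perm V, f 0 = 0 →
    (∀ x y z : V, ∃ g : G, f y - f x = g • (y - x) ∧ f z - f x = g • (z - x)) →
    (∀ x y, f (x + y) = f x + f y) ∧ ∃ τ : RingAut K, ∀ (c : K) (v : V), f (c • v) = τ c • f v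

/-- The ambient situation: `L` is semilinear and lies in the 2-closure of `G`, `T` is an `r`-group
of symplectic type normalized by `G`, `W = T / scalars` with commutator form `b`. -/
structure Amb (L V K W : Type*) [Group L] [AddCommGroup V] [DistribMulAction L V] [Field K]
    [Module K V] [AddCommGroup W] (σ : L →* RingAut K) (G T : Subgroup L) (π : L → W)
    (b : W → W → Kˣ) (r : ℕ) : Prop where
  faith : ∀ f : L, (∀ v : V, f • v = v) → f = 1
  semi : ∀ (f : L) (c : K) (v : V), f • c • v = σ f c • f • v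
  cl : ∀ (f : L) (x y : V), ∃ g ∈ G, g • x = f • x ∧ g • y = f • y
  Tn : ∀ g ∈ G, ∀ t ∈ T, g * t * g⁻¹ ∈ T
  σT : ∀ t ∈ T, σ t = 1
  prime : r.Prime
  mul : ∀ s ∈ T, ∀ t ∈ T, π (s * t) = π s + π t
  surj : ∀ w, ∃ t ∈ T, π t = w
  ker : ∀ t ∈ T, π t = 0 ↔ ∃ c : K, ∀ v : V, t • v = c • v
  hb : ∀ s ∈ T, ∀ t ∈ T, ∀ v : V, s • t • v = (b (π s) (π t) : K) • t • s • v
  alt : Alt b
  nt : ∃ w : W, w ≠ 0
  rW : ∀ w : W, r • w = 0
  odd : r ≠ 2 → ∀ t ∈ T, t ^ r = 1
  two : r = 2 → ∀ t ∈ T, π t = 0 → t ^ 2 = 1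

/-- The ambient situation after `T` is known to be normal. -/
structure Nrm (L V K W : Type*) [Group L] [AddCommGroup V] [DistribMulAction L V] [Field K]
    [Module K V] [AddCommGroup W] [DistribMulAction L W] (σ : L →* RingAut K) (G T : Subgroup L)
    (π : L → W) (b : W → W → Kˣ) (r : ℕ) : Prop extends Amb L V K W σ G T π b r where
  normal : T.Normal
  conj : ∀ f : L, ∀ t ∈ T, π (f * t * f⁻¹) = f • π t
  bs : ∀ (f : L) (x y : W), (b (f • x) (f • y) : K) = σ f (b x y)

/-- a property of all ambient situations -/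
def AllAmb (P : ∀ (L : Type u) [Group L] (_ : Subgroup L) (_ : ℕ), Prop) : Prop :=
  ∀ (L V K W : Type u) [Group L] [Finite L] [AddCommGroup V] [Finite V] [Nontrivial V]
    [DistribMulAction L V] [Field K] [Finite K] [Module K V] [AddCommGroup W] [Finite W]
    (σ : L →* RingAut K) (G T : Subgroup L) (π : L → W) (b : W → W → Kˣ) (r : ℕ),
    Amb L V K W σ G T π b r → P L T r

/-- NORM-odd -/
def NormOddStmt : Prop := AllAmb.{u} fun _ _ T r => r ≠ 2 → T.Normal

/-- NORM-two -/
def NormTwoStmt : Prop := AllAmb.{u} fun _ _ T r => r = 2 → T.Normal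

/-- CSC: a linear element centralizing `T` and preserving the `T`-orbits is a scalar -/
def CscStmt : Prop :=
  ∀ (L V K W : Type u) [Group L] [Finite L] [AddCommGroup V] [Finite V] [Nontrivial V]
    [DistribMulAction L V] [Field K] [Finite K] [Module K V] [AddCommGroup W] [Finite W]
    (σ : L →* RingAut K) (G T : Subgroup L) (π : L → W) (b : W → W → Kˣ) (r : ℕ),
    Amb L V K W σ G T π b r → ∀ c : L, σ c = 1 → (∀ t ∈ T, Commute c t) →
    (∀ v : V, ∃ t ∈ T, c • v = t • v) → (c ^ r = 1 ∨ (r = 2 ∧ ∀ v : V, c • c • v = -v)) →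
    ∃ γ : K, ∀ v : V, c • v = γ • v

/-- the pair `w, w'` is encoded by a pair of vectors -/
def EncAt (L V : Type*) {W : Type*} [Group L] [MulAction L V] [MulAction L W] (w w' : W) : Prop :=
  ∃ x y : V, ∀ h : L, h • x = x → h • y = y → h • w = w ∧ h • w' = w'

/-- some two-point stabilizer induces at most four permutations on `W` -/
def Idx (L V W : Type*) [Group L] [MulAction L V] [MulAction L W] : Prop :=
  ∃ (x y : V) (φ : L → Fin 4), ∀ h h' : L, h • x = x → h • y = y → h' • x = x → h' • y = y →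
    φ h = φ h' → ∀ w : W, h • w = h' • w

/-- a property of all normalized situations -/
def AllNrm (P : ∀ (L V K W : Type u) [Group L] [MulAction L V] [Field K] [AddCommGroup W]
    [MulAction L W] (_ : Subgroup L) (_ : L → W) (_ : W → W → Kˣ) (_ : ℕ), Prop) : Prop :=
  ∀ (L V K W : Type u) [Group L] [Finite L] [AddCommGroup V] [Finite V] [Nontrivial V]
    [DistribMulAction L V] [Field K] [Finite K] [Module K V] [AddCommGroup W] [Finite W]
    [DistribMulAction L W] (σ : L →* RingAut K) (G T : Subgroup L) (π : L → W) (b : W → W → Kˣ)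
    (r : ℕ), Nrm L V K W σ G T π b r → P L V K W T π b r

/-- ENC-N: non-orthogonal pairs, `r` odd -/
def EncNStmt : Prop :=
  AllNrm.{u} fun L V _ W _ _ _ _ _ _ _ b r => r ≠ 2 → (5 ≤ r ∨ 9 < Nat.card W) →
    ∀ d c : W, b d c ≠ 1 → EncAt L V d c

/-- ENC-I: orthogonal independent pairs, `r` odd -/
def EncIStmt : Prop :=
  AllNrm.{u} fun L V _ W _ _ _ _ _ _ _ b r => r ≠ 2 → (5 ≤ r ∨ 81 < Nat.card W) →
    ∀ d d' : W, b d d' = 1 → (∀ i j : ℤ, i • d + j • d' = 0 → (r : ℤ) ∣ i ∧ (r : ℤ) ∣ j) →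
    EncAt L V d d'

/-- ENC-3: the small cases for `r = 3` -/
def Enc3Stmt : Prop :=
  AllNrm.{u} fun L V _ W _ _ _ _ _ _ _ _ r => r = 3 → Nat.card W ≤ 81 → Idx L V W ∨ SolvOn L W

/-- ATT: for `r = 2` non-central involutions are point stabilizers, except in small cases -/
def AttStmt : Prop :=
  AllNrm.{u} fun L V _ W _ _ _ _ _ T π _ r => r = 2 → ∀ t ∈ T, t ^ 2 = 1 → π t ≠ 0 →
    (∃ x : V, ∀ s ∈ T, s • x = x ↔ s = 1 ∨ s = t) ∨ Idx L V W

/-- ENC-2 -/
def Enc2Stmt : Prop :=
  AllNrm.{u} fun L V _ W _ _ _ _ _ T π _ r => r = 2 →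
    (∀ t ∈ T, t ^ 2 = 1 → π t ≠ 0 → ∃ x : V, ∀ s ∈ T, s • x = x ↔ s = 1 ∨ s = t) →
    (∀ w w' : W, EncAt L V w w') ∨ SolvOn L W

/-- IDX -/
def IdxStmt : Prop :=
  ∀ (L V W : Type u) [Group L] [Finite L] [MulAction L V] [MulAction L W] (G : Subgroup L),
    Group.IsSolvable G → (∀ (f : L) (x y : V), ∃ g ∈ G, g • x = f • x ∧ g • y = f • y) →
    Idx L V W → SolvOn L W

/-- CEN: the centralizer of a non-abelian group normalized by `G` -/
def CenStmt : Prop :=
  ∀ n, LC.{u} n → ∀ (L V : Type u) [Group L] [Finite L] [AddCommGroup V] [Finite V]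
    [DistribMulAction L V] (G T : Subgroup L), Group.IsSolvable G → Nat.card V ≤ n → Irr G V →
    (∀ (f : L) (x y : V), ∃ g ∈ G, g • x = f • x ∧ g • y = f • y) →
    (∀ g ∈ G, ∀ t ∈ T, g * t * g⁻¹ ∈ T) → (∃ s ∈ T, ∃ t ∈ T, ∃ v : V, s • t • v ≠ t • s • v) →
    ∃ k, Triv (der (Subgroup.centralizer (T : Set L)) k) V

/-- LOC: the ambient situation is solvable -/
def LocStmt : Prop :=
  ∀ n, LC.{u} n → ∀ (L V K W : Type u) [Group L] [Finite L] [AddCommGroup V] [Finite V]
    [Nontrivial V] [DistribMulAction L V] [Field K] [Finite K] [Module K V] [AddCommGroup W]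
    [Finite W] (σ : L →* RingAut K) (G T : Subgroup L) (π : L → W) (b : W → W → Kˣ) (r : ℕ),
    Amb L V K W σ G T π b r → Group.IsSolvable G → Irr G V → Nat.card V ≤ n → Nat.card W < n →
    SolvOn L V

/-- LIN: the primitive linear case -/
def LinStmt : Prop :=
  ∀ n, LC.{u} n → ∀ (G L V K W : Type u) [Group G] [Finite G] [Group.IsSolvable G] [Group L]
    [Finite L] [AddCommGroup V] [Finite V] [Nontrivial V] [DistribMulAction G V]
    [DistribMulAction L V] [Field K] [Finite K] [Module K V] [AddCommGroup W] [Finite W]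
    [DistribMulAction G W] (σ : G →* RingAut K) (U To E M : Subgroup G) (π : G → W)
    (b : W → W → Kˣ) (e : ℕ), Pk G V K W σ U To E M π b e → Irr G V → Nat.card V ≤ n →
    (∀ f : L, (∀ v : V, f • v = v) → f = 1) → ∀ ι : G →* L, (∀ (g : G) (v : V), ι g • v = g • v) →
    Cl2 G L V → (∀ f : L, ∃ τ : RingAut K, ∀ (c : K) (v : V), f • c • v = τ c • f • v) →
    SolvOn L V

end Cfsg.Agent.H53.TC
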