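import Cfsg.Agent.H53.TCDefs

/-!
The 3-closure of a solvable permutation group (project TC): common tools.
-/

set_option autoImplicit false

open MulAction Cfsg.Agent.H12.RO Polynomial
open scoped commutatorElement

namespace Cfsg.Agent.H53.MW

variable {W K : Type*} [AddCommGroup W] [Field K] {b : W → W → Kˣ} (h : Alt b)
include h

theorem Alt.nsmul_right (n : ℕ) (x y : W) : b x (n • y) = b x y ^ n := by
  rw [h.swap, h.nsmul_left, h.swap x y, inv_pow, inv_inv]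

theorem Alt.zsmul_right (n : ℤ) (x y : W) : b x (n • y) = b x y ^ n := by
  rw [h.swap, h.zsmul_left, h.swap x y, inv_zpow, inv_inv]

theorem Alt.sub_left (x y z : W) : b (x - y) z = b x z / b y z := by
  rw [sub_eq_add_neg, h.l, h.neg_left, div_eq_mul_inv]

theorem Alt.sub_right (x y z : W) : b x (y - z) = b x y / b x z := by
  rw [sub_eq_add_neg, h.r, h.neg_right, div_eq_mul_inv]

theorem Alt.symm_one {x y : W} (e : b x y = 1) : b y x = 1 := by rw [h.swap, e, inv_one]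

theorem Alt.exists_ne {x : W} (hx : x ≠ 0) : ∃ y, b x y ≠ 1 := by
  by_contra hn
  push Not at hn
  exact hx (h.nd x hn)

theorem Alt.ext {x y : W} (e : ∀ z, b x z = b y z) : x = y :=
  sub_eq_zero.1 (h.nd _ fun z => by rw [h.sub_left, e, div_self'])

theorem Alt.le_perp_perp (A : AddSubgroup W) : A ≤ h.perp (h.perp A) :=
  fun x hx _ hy => h.symm_one (hy x hx)

theorem Alt.perp_perp [Finite W] (A : AddSubgroup W) : h.perp (h.perp A) = A := by
  refine (AddSubgroup.eq_of_le_of_card_ge (h.le_perp_perp A) (le_of_eq ?_)).symm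
  have h1 := h.card_mul A
  rw [← h.card_mul (h.perp A), mul_comm] at h1
  exact (Nat.eq_of_mul_eq_mul_left Nat.card_pos h1).symm

theorem Alt.perp_anti {A B : AddSubgroup W} (e : A ≤ B) : h.perp B ≤ h.perp A :=
  fun _ hy x hx => hy x (e hx)

/-- every character of a subgroup is given by the form -/
theorem Alt.exists_ext [Finite W] (A : AddSubgroup W) (χ : W → Kˣ)
    (hχ : ∀ x ∈ A, ∀ y ∈ A, χ (x + y) = χ x * χ y) : ∃ a, ∀ x ∈ A, b x a = χ x := by
  obtain ⟨h1, h2⟩ := card_hom_le (Multiplicative A) K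
  let F : W ⧸ h.perp A → (Multiplicative A →* Kˣ) := fun q =>
    MonoidHom.mk' (fun x => b (x.toAdd : A) q.out) fun x x' => h.l _ _ _
  have hF : Function.Injective F := fun q q' e => by
    rw [← q.out_eq', ← q'.out_eq', QuotientAddGroup.eq]
    intro x hx
    have : b x q.out = b x q'.out := DFunLike.congr_fun e (Multiplicative.ofAdd ⟨x, hx⟩)
    rw [h.r, h.neg_right, this, inv_mul_cancel]
  have h3 : Nat.card A = Nat.card (W ⧸ h.perp A) := by
    have h4 := h.card_mul A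
    rw [← (h.perp A).index_mul_card] at h4
    exact Nat.eq_of_mul_eq_mul_right Nat.card_pos h4
  obtain ⟨q, hq⟩ := (hF.bijective_of_nat_card_le (h2.trans_eq h3)).2
    (MonoidHom.mk' (fun x => χ (x.toAdd : A)) fun x y => hχ _ x.toAdd.2 _ y.toAdd.2)
  exact ⟨q.out, fun x hx => DFunLike.congr_fun hq (Multiplicative.ofAdd ⟨x, hx⟩)⟩

theorem Alt.exists_lagr_le [Finite W] (A : AddSubgroup W) (hA : A ≤ h.perp A) :
    ∃ D : AddSubgroup W, A ≤ D ∧ h.perp D = D := by
  obtain ⟨D, ⟨hAD, hD⟩, hmax⟩ := (wellFounded_gt (α := AddSubgroup W)).has_min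
    {D | A ≤ D ∧ D ≤ h.perp D} ⟨A, le_rfl, hA⟩
  refine ⟨D, hAD, le_antisymm (fun y hy => ?_) hD⟩
  by_contra hn
  refine hmax (D ⊔ AddSubgroup.zmultiples y) ⟨hAD.trans le_sup_left, fun z hz x hx => ?_⟩
    (lt_of_le_not_ge le_sup_left fun e => hn (e (AddSubgroup.mem_sup_right
      (AddSubgroup.mem_zmultiples y))))
  obtain ⟨d, hd, _, ⟨m, rfl⟩, rfl⟩ := AddSubgroup.mem_sup.1 hz
  obtain ⟨d', hd', _, ⟨m', rfl⟩, rfl⟩ := AddSubgroup.mem_sup.1 hx
  have h1 : b d' (m • y) = 1 := (h.perp D).zsmul_mem hy m d' hd'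
  have h2 : b d (m' • y) = 1 := (h.perp D).zsmul_mem hy m' d hd
  change b (d' + m' • y) (d + m • y) = 1
  rw [h.l, h.r, h.r, hD hd d' hd', h1, h.swap d, h2, h.zsmul_left, h.zsmul_right, h.self]
  simp

/-- a Lagrangian through two orthogonal vectors -/
theorem Alt.exists_lagr_pair [Finite W] {d d' : W} (e : b d d' = 1) :
    ∃ D : AddSubgroup W, d ∈ D ∧ d' ∈ D ∧ h.perp D = D := by
  obtain ⟨D, h1, h2⟩ := h.exists_lagr_le (AddSubgroup.zmultiples d ⊔ AddSubgroup.zmultiples d') (by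
    intro z hz x hx
    obtain ⟨_, ⟨m, rfl⟩, _, ⟨m', rfl⟩, rfl⟩ := AddSubgroup.mem_sup.1 hz
    obtain ⟨_, ⟨n, rfl⟩, _, ⟨n', rfl⟩, rfl⟩ := AddSubgroup.mem_sup.1 hx
    change b (n • d + n' • d') (m • d + m' • d') = 1
    simp only [h.l, h.r, h.zsmul_left, h.zsmul_right, h.self, e, h.symm_one e, one_zpow, mul_one])
  exact ⟨D, h1 (AddSubgroup.mem_sup_left (AddSubgroup.mem_zmultiples d)),
    h1 (AddSubgroup.mem_sup_right (AddSubgroup.mem_zmultiples d')), h2⟩

end Cfsg.Agent.H53.MW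

namespace Cfsg.Agent.H53.TC

open Cfsg.Agent.H53.MW

section Lin

variable {K V : Type*} [Field K] [AddCommGroup V] [Module K V]

/-- a linear map having every vector of a subspace as an eigenvector is a scalar there -/
theorem scal (φ : V →ₗ[K] V) (S : Submodule K V) (h : ∀ v ∈ S, ∃ c : K, φ v = c • v) :
    ∃ c : K, ∀ v ∈ S, φ v = c • v := by
  by_cases h0 : ∀ v ∈ S, v = 0
  · exact ⟨0, fun v hv => by rw [h0 v hv, map_zero, smul_zero]⟩
  push Not at h0
  obtain ⟨x, hx, hx0⟩ := h0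
  obtain ⟨c, hc⟩ := h x hx
  refine ⟨c, fun v hv => ?_⟩
  obtain ⟨c', hc'⟩ := h v hv
  obtain ⟨c'', hc''⟩ := h _ (S.add_mem hx hv)
  rw [map_add, hc, hc', smul_add] at hc''
  by_cases e : c' = c''
  · rw [e, add_left_inj] at hc''
    rw [hc', e, smul_left_injective K hx0 hc'']
  · have h1 : (c' - c'') • v = (c'' - c) • x := by
      rw [sub_smul, sub_smul, sub_eq_sub_iff_add_eq_add, add_comm, hc'', add_comm]
    have h2 : v = ((c' - c'')⁻¹ * (c'' - c)) • x := by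
      rw [mul_smul, ← h1, smul_smul, inv_mul_cancel₀ (sub_ne_zero.2 e), one_smul]
    rw [h2, map_smul, hc, smul_comm]

theorem mem_of_aeval (T : Module.End K V) (P : Submodule K V)
    (hP : ∀ (γ : K) (v : V), T v = γ • v → v ∈ P) (l : List K) (hl : l.Nodup) :
    ∀ u, aeval T (l.map fun a => X - C a).prod u = 0 → u ∈ P := by
  induction l with
  | nil => intro u hu; simp at hu; exact hu ▸ P.zero_mem
  | cons a l ih =>
    intro u hu
    rw [List.nodup_cons] at hl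
    rw [List.map_cons, List.prod_cons] at hu
    set q := (l.map fun a => X - C a).prod with hq
    have h1 : aeval T q u ∈ P := hP a _ (by
      rw [map_mul, Module.End.mul_apply] at hu
      simpa [sub_eq_zero, Module.algebraMap_end_apply] using hu)
    obtain ⟨g, hg⟩ := X_sub_C_dvd_sub_C_eval (p := q) (a := a)
    have h2 : aeval T ((X - C a) * g) u ∈ P := ih hl.2 _ (by
      rw [← Module.End.mul_apply, ← map_mul, show q * ((X - C a) * g) = g * ((X - C a) * q) by ring,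
        map_mul, Module.End.mul_apply, hu, map_zero])
    have h3 : q.eval a ≠ 0 := by
      rw [hq, eval_list_prod, List.map_map]
      refine List.prod_ne_zero ?_
      simp only [List.mem_map, Function.comp, eval_sub, eval_X, eval_C, not_exists, not_and]
      intro x hx e
      exact hl.1 (sub_eq_zero.1 e ▸ hx)
    rw [← hg, map_sub, LinearMap.sub_apply, aeval_C, Module.algebraMap_end_apply] at h2
    have h4 := P.sub_mem h1 h2
    rw [sub_sub_cancel] at h4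
    exact (P.smul_mem_iff h3).1 h4

theorem span_eig' {r : ℕ} {ζ l : K} (hζ : IsPrimitiveRoot ζ r) (hr : 0 < r) (hl : l ≠ 0)
    (T : Module.End K V) (hT : ∀ v, (T ^ r) v = l ^ r • v) (P : Submodule K V)
    (hP : ∀ (γ : K) (v : V), T v = γ • v → v ∈ P) : P = ⊤ := by
  rw [eq_top_iff]
  intro u _
  refine mem_of_aeval T P hP ((List.range r).map fun i => ζ ^ i * l) ?_ u ?_
  · refine List.Nodup.map_on (fun i hi j hj e => ?_) List.nodup_range
    exact hζ.pow_inj (List.mem_range.1 hi) (List.mem_range.1 hj) (mul_right_cancel₀ hl e)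
  · have h1 := X_pow_sub_C_eq_prod hζ hr (α := l) rfl
    rw [List.map_map]
    refine Eq.trans (congrArg (fun p => aeval T p u) h1.symm) ?_
    simp only [map_sub, aeval_X_pow, aeval_C, LinearMap.sub_apply, hT,
      Module.algebraMap_end_apply, sub_self]

theorem exists_eig' {r : ℕ} {ζ l : K} (hζ : IsPrimitiveRoot ζ r) (hr : 0 < r)
    (T : Module.End K V) (hT : ∀ v, (T ^ r) v = l ^ r • v) (S : Submodule K V)
    (hS : ∀ v ∈ S, T v ∈ S) (h0 : S ≠ ⊥) : ∃ (γ : K), ∃ v ∈ S, v ≠ 0 ∧ T v = γ • v := by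
  obtain ⟨u, hu, hu0⟩ := S.ne_bot_iff.1 h0
  obtain ⟨a, -, h⟩ := exists_eig T S hS ((Multiset.range r).map fun i => ζ ^ i * l) u hu hu0 (by
    have h1 := X_pow_sub_C_eq_prod hζ hr (α := l) rfl
    rw [Multiset.map_map]
    refine Eq.trans (congrArg (fun p => aeval T p u) h1.symm) ?_
    simp only [map_sub, aeval_X_pow, aeval_C, LinearMap.sub_apply, hT,
      Module.algebraMap_end_apply, sub_self])
  exact ⟨a, h⟩

theorem unique_scal {c d : K} {v : V} (hv : v ≠ 0) (e : c • v = d • v) : c = d :=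
  smul_left_injective K hv e

end Lin

section Amb

variable {L V K W : Type*} [Group L] [AddCommGroup V] [DistribMulAction L V] [Field K]
  [Module K V] [AddCommGroup W] {σ : L →* RingAut K} {G T : Subgroup L} {π : L → W}
  {b : W → W → Kˣ} {r : ℕ} (A : Amb L V K W σ G T π b r)
include A

theorem Amb.one : π 1 = 0 := (A.ker 1 T.one_mem).2 ⟨1, by simp⟩

theorem Amb.inv {t : L} (ht : t ∈ T) : π t⁻¹ = -π t := by
  rw [eq_neg_iff_add_eq_zero, ← A.mul _ (T.inv_mem ht) _ ht, inv_mul_cancel, A.one]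

theorem Amb.pow {t : L} (ht : t ∈ T) (n : ℕ) : π (t ^ n) = n • π t := by
  induction n with
  | zero => rw [pow_zero, zero_smul, A.one]
  | succ n ih => rw [pow_succ, A.mul _ (T.pow_mem ht n) _ ht, ih, succ_nsmul]

theorem Amb.ext {f g : L} (e : ∀ v : V, f • v = g • v) : f = g := by
  rw [← mul_inv_eq_one]
  exact A.faith _ fun v => by rw [mul_smul, e, smul_inv_smul]

theorem Amb.lin {f : L} (hf : σ f = 1) (c : K) (v : V) : f • c • v = c • f • v := by
  rw [A.semi, hf]; rfl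

theorem Amb.linT {t : L} (ht : t ∈ T) (c : K) (v : V) : t • c • v = c • t • v :=
  A.lin (A.σT t ht) c v

/-- the linear map given by an element of `ker σ` -/
def Amb.toEnd (f : L) (hf : σ f = 1) : Module.End K V where
  toFun v := f • v
  map_add' := smul_add f
  map_smul' c v := A.lin hf c v

@[simp] theorem Amb.toEnd_apply (f : L) (hf : σ f = 1) (v : V) : A.toEnd f hf v = f • v := rfl

theorem Amb.toEnd_pow (f : L) (hf : σ f = 1) (n : ℕ) (v : V) :
    (A.toEnd f hf ^ n) v = f ^ n • v := by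
  induction n with
  | zero => simp
  | succ n ih => rw [pow_succ', Module.End.mul_apply, ih, pow_succ', mul_smul]; rfl

theorem Amb.b_pow (x y : W) : b x y ^ r = 1 := by
  rw [← A.alt.nsmul_left, A.rW, A.alt.zero_left]

theorem Amb.prim {x y : W} (h : b x y ≠ 1) : IsPrimitiveRoot (b x y : K) r := by
  have : Fact r.Prime := ⟨A.prime⟩
  rw [IsPrimitiveRoot.coe_units_iff, ← orderOf_eq_prime (A.b_pow x y) h]
  exact IsPrimitiveRoot.orderOf _

theorem Amb.exists_b_ne : ∃ s ∈ T, ∃ t ∈ T, b (π s) (π t) ≠ 1 := by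
  obtain ⟨w, hw⟩ := A.nt
  obtain ⟨y, hy⟩ := A.alt.exists_ne hw
  obtain ⟨s, hs, rfl⟩ := A.surj w
  obtain ⟨t, ht, rfl⟩ := A.surj y
  exact ⟨s, hs, t, ht, hy⟩

theorem Amb.exists_prim : ∃ ζ : K, IsPrimitiveRoot ζ r := by
  obtain ⟨s, -, t, -, h⟩ := A.exists_b_ne
  exact ⟨_, A.prim h⟩

theorem Amb.comm_act {s t : L} (hs : s ∈ T) (ht : t ∈ T) (v : V) :
    ⁅s, t⁆ • v = (b (π s) (π t) : K) • v := by
  rw [commutatorElement_def, mul_smul, mul_smul, mul_smul, A.hb s hs t ht, smul_inv_smul,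
    smul_inv_smul]

theorem Amb.commute_of {s t : L} (hs : s ∈ T) (ht : t ∈ T) (h : b (π s) (π t) = 1) :
    Commute s t := A.ext fun v => by rw [mul_smul, mul_smul, A.hb s hs t ht, h]; simp

theorem Amb.commute_iff [Nontrivial V] {s t : L} (hs : s ∈ T) (ht : t ∈ T) :
    Commute s t ↔ b (π s) (π t) = 1 := by
  refine ⟨fun h => ?_, A.commute_of hs ht⟩
  obtain ⟨v, hv⟩ := exists_ne (0 : V)
  have h1 := A.comm_act hs ht v
  rw [commutatorElement_eq_one_iff_commute.2 h, one_smul] at h1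
  exact Units.ext (unique_scal hv (h1.symm.trans (one_smul K v).symm))

/-- the `r`-th roots of unity lie in `T` -/
theorem Amb.scal_mem {γ : K} (hγ : γ ^ r = 1) : ∃ z ∈ T, ∀ v : V, z • v = γ • v := by
  obtain ⟨s, hs, t, ht, h⟩ := A.exists_b_ne
  have : NeZero r := ⟨A.prime.ne_zero⟩
  obtain ⟨i, -, rfl⟩ := (A.prim h).eq_pow_of_pow_eq_one hγ
  have hm : ⁅s, t⁆ ∈ T := T.mul_mem (T.mul_mem (T.mul_mem hs ht) (T.inv_mem hs)) (T.inv_mem ht)
  refine ⟨⁅s, t⁆ ^ i, T.pow_mem hm i, fun v => ?_⟩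
  clear hγ
  induction i with
  | zero => simp
  | succ i ih => rw [pow_succ', mul_smul, ih, A.comm_act hs ht, pow_succ', mul_smul]

theorem Amb.mem_of_scal {f : L} {γ : K} (hf : ∀ v : V, f • v = γ • v) (hγ : γ ^ r = 1) :
    f ∈ T := by
  obtain ⟨z, hz, e⟩ := A.scal_mem hγ
  rwa [A.ext fun v => (hf v).trans (e v).symm]

/-- two elements of `T` with the same image differ by a scalar -/
theorem Amb.eq_iff {s t : L} (hs : s ∈ T) (ht : t ∈ T) :
    π s = π t ↔ ∃ c : K, ∀ v : V, s • v = c • t • v := by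
  have h1 := A.ker _ (T.mul_mem hs (T.inv_mem ht))
  rw [A.mul _ hs _ (T.inv_mem ht), A.inv ht, add_neg_eq_zero] at h1
  rw [h1]
  refine exists_congr fun c => ⟨fun e v => ?_, fun e v => ?_⟩
  · rw [← e, mul_smul, inv_smul_smul]
  · rw [mul_smul, e, smul_inv_smul]

theorem Amb.pow_act {t : L} (ht : σ t = 1) {x : V} {c : K} (e : t • x = c • x) (n : ℕ) :
    t ^ n • x = c ^ n • x := by
  induction n with
  | zero => simp
  | succ n ih => rw [pow_succ', mul_smul, ih, A.lin ht, e, pow_succ, mul_smul]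

omit A in
theorem eig_ne_zero {t : L} {x : V} (hx : x ≠ 0) {c : K} (e : t • x = c • x) : c ≠ 0 := by
  rintro rfl
  rw [zero_smul, smul_eq_zero_iff_eq] at e
  exact hx e

/-- an element of `T` with an eigenvector is diagonalizable -/
theorem Amb.pow_of_eig {t : L} (ht : t ∈ T) {x : V} (hx : x ≠ 0) {c : K} (e : t • x = c • x)
    (v : V) : t ^ r • v = c ^ r • v := by
  obtain ⟨c', hc'⟩ := (A.ker _ (T.pow_mem ht r)).1 (by rw [A.pow ht, A.rW])
  rw [hc', unique_scal hx ((hc' x).symm.trans (A.pow_act (A.σT t ht) e r))]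

/-- `V` is spanned by the eigenvectors of a linear element `c` with `c ^ r = l ^ r` -/
theorem Amb.span_eig {c : L} (hc : σ c = 1) {l : K} (hl : l ≠ 0)
    (h : ∀ v : V, c ^ r • v = l ^ r • v) (P : Submodule K V)
    (hP : ∀ (γ : K) (v : V), c • v = γ • v → v ∈ P) : P = ⊤ := by
  obtain ⟨ζ, hζ⟩ := A.exists_prim
  exact span_eig' hζ A.prime.pos hl (A.toEnd c hc) (fun v => by rw [A.toEnd_pow, h]) P hP

theorem Amb.exists_eig {c : L} (hc : σ c = 1) {l : K} (h : ∀ v : V, c ^ r • v = l ^ r • v)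
    (S : Submodule K V) (hS : ∀ v ∈ S, c • v ∈ S) (h0 : S ≠ ⊥) :
    ∃ (γ : K), ∃ v ∈ S, v ≠ 0 ∧ c • v = γ • v := by
  obtain ⟨ζ, hζ⟩ := A.exists_prim
  exact exists_eig' hζ A.prime.pos (A.toEnd c hc) (fun v => by rw [A.toEnd_pow, h]) S hS h0

/-- the eigenspace of a linear element -/
def Amb.eig (f : L) (hf : σ f = 1) (γ : K) : Submodule K V where
  carrier := {v | f • v = γ • v}
  add_mem' {v w} hv hw := by
    change f • (v + w) = γ • (v + w)
    rw [smul_add, smul_add, show f • v = _ from hv, show f • w = _ from hw]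
  zero_mem' := by simp
  smul_mem' c v hv := by
    change f • c • v = γ • c • v
    rw [A.lin hf, show f • v = _ from hv, smul_comm]

theorem Amb.mem_eig {f : L} {hf : σ f = 1} {γ : K} {v : V} :
    v ∈ A.eig f hf γ ↔ f • v = γ • v := Iff.rfl

/-- common eigenvectors -/
theorem Amb.exists_common [Finite V] (D : Set L) (hD : ∀ t ∈ D, t ∈ T)
    (hc : ∀ s ∈ D, ∀ t ∈ D, b (π s) (π t) = 1)
    (hd : ∀ t ∈ D, ∃ l : K, ∀ v : V, t ^ r • v = l ^ r • v) (S : Submodule K V) (h0 : S ≠ ⊥)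
    (hS : ∀ t ∈ D, ∀ v ∈ S, t • v ∈ S) :
    ∃ x ∈ S, x ≠ 0 ∧ ∀ t ∈ D, ∃ c : K, t • x = c • x := by
  have : Finite (Submodule K V) := Finite.of_injective _ SetLike.coe_injective
  obtain ⟨S', ⟨h1, h2, h3⟩, hmin⟩ := (wellFounded_lt (α := Submodule K V)).has_min
    {S' | S' ≤ S ∧ S' ≠ ⊥ ∧ ∀ t ∈ D, ∀ v ∈ S', t • v ∈ S'} ⟨S, le_rfl, h0, hS⟩
  obtain ⟨x, hx, hx0⟩ := S'.ne_bot_iff.1 h2
  refine ⟨x, h1 hx, hx0, fun t ht => ?_⟩
  obtain ⟨l, hl⟩ := hd t ht
  obtain ⟨γ, v, hv, hv0, e⟩ := A.exists_eig (A.σT t (hD t ht)) hl S' (h3 t ht) h2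
  refine ⟨γ, ?_⟩
  by_contra hn
  refine hmin (S' ⊓ A.eig t (A.σT t (hD t ht)) γ) ⟨inf_le_left.trans h1,
    (Submodule.ne_bot_iff _).2 ⟨v, ⟨hv, e⟩, hv0⟩, fun s hs u hu => ⟨h3 s hs u hu.1, ?_⟩⟩
    (lt_of_le_not_ge inf_le_left fun h4 => hn (h4 hx).2)
  change t • s • u = γ • s • u
  rw [A.hb t (hD t ht) s (hD s hs), hc t ht s hs, show t • u = _ from hu.2, A.linT (hD s hs)]
  simp

theorem Amb.b_of_eig {s t : L} (hs : s ∈ T) (ht : t ∈ T) {x : V} (hx : x ≠ 0) {c d : K}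
    (e : s • x = c • x) (e' : t • x = d • x) : b (π s) (π t) = 1 := by
  have h1 := A.hb s hs t ht x
  rw [e', e, A.linT hs, A.linT ht, e, e', smul_smul, smul_smul, smul_smul] at h1
  have h2 := unique_scal hx h1
  rw [mul_assoc, mul_comm d c, eq_comm, mul_eq_right₀
    (mul_ne_zero (eig_ne_zero hx e) (eig_ne_zero hx e'))] at h2
  exact Units.ext h2

/-- the projective stabilizer of a vector in `T` -/
def Amb.pst (x : V) : Subgroup L where
  carrier := {t | t ∈ T ∧ ∃ c : K, t • x = c • x}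
  one_mem' := ⟨T.one_mem, 1, by simp⟩
  mul_mem' := by
    rintro s t ⟨hs, c, hc⟩ ⟨ht, d, hd⟩
    exact ⟨T.mul_mem hs ht, d * c, by rw [mul_smul, hd, A.linT hs, hc, mul_smul]⟩
  inv_mem' := by
    rintro s ⟨hs, c, hc⟩
    refine ⟨T.inv_mem hs, c⁻¹, ?_⟩
    by_cases hx : x = 0
    · simp [hx]
    rw [inv_smul_eq_iff, A.linT hs, hc, smul_smul, inv_mul_cancel₀ (eig_ne_zero hx hc), one_smul]

theorem Amb.mem_pst {x : V} {t : L} : t ∈ A.pst x ↔ t ∈ T ∧ ∃ c : K, t • x = c • x := Iff.rfl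

/-- the image of a subgroup of `T` -/
def Amb.img (D : Subgroup L) (hD : D ≤ T) : AddSubgroup W where
  carrier := {w | ∃ t ∈ D, π t = w}
  zero_mem' := ⟨1, D.one_mem, A.one⟩
  add_mem' := by
    rintro _ _ ⟨s, hs, rfl⟩ ⟨t, ht, rfl⟩
    exact ⟨s * t, D.mul_mem hs ht, A.mul _ (hD hs) _ (hD ht)⟩
  neg_mem' := by
    rintro _ ⟨s, hs, rfl⟩
    exact ⟨s⁻¹, D.inv_mem hs, A.inv (hD hs)⟩

theorem Amb.mem_img {D : Subgroup L} {hD : D ≤ T} {w : W} :
    w ∈ A.img D hD ↔ ∃ t ∈ D, π t = w := Iff.rfl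

/-- every non-zero `T`-invariant subspace affords the character of a given vector -/
theorem Amb.move [Finite V] [Finite W] {x : V} (hx : x ≠ 0) (S : Submodule K V) (h0 : S ≠ ⊥)
    (hS : ∀ t ∈ T, ∀ v ∈ S, t • v ∈ S) :
    ∃ x' ∈ S, x' ≠ 0 ∧ ∀ t ∈ T, ∀ c : K, t • x = c • x → t • x' = c • x' := by
  classical
  obtain ⟨y, hy, hy0, h1⟩ := A.exists_common (A.pst x : Set L) (fun t ht => ht.1)
    (fun s hs t ht => by
      obtain ⟨hs, c, hc⟩ := hs
      obtain ⟨ht, d, hd⟩ := ht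
      exact A.b_of_eig hs ht hx hc hd)
    (fun t ht => by
      obtain ⟨ht, c, hc⟩ := ht
      exact ⟨c, A.pow_of_eig ht hx hc⟩) S h0 fun t ht => hS t ht.1
  have h2 : ∀ w : W, ∃ c : Kˣ, ∀ t ∈ A.pst x, π t = w → ∀ a a' : K, t • x = a • x →
      t • y = a' • y → a = c * a' := by
    intro w
    by_cases hw : ∃ t ∈ A.pst x, π t = w
    swap
    · exact ⟨1, fun t ht e => absurd ⟨t, ht, e⟩ hw⟩
    obtain ⟨s, hs, rfl⟩ := hw
    obtain ⟨c, hc⟩ := hs.2
    obtain ⟨c', hc'⟩ := h1 s hs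
    refine ⟨Units.mk0 (c / c') (div_ne_zero (eig_ne_zero hx hc) (eig_ne_zero hy0 hc')),
      fun t ht e a a' ha ha' => ?_⟩
    obtain ⟨d, hd⟩ := (A.eq_iff ht.1 hs.1).1 e
    rw [hd, hc, smul_smul] at ha
    rw [hd, hc', smul_smul] at ha'
    rw [← unique_scal hx ha, ← unique_scal hy0 ha', Units.val_mk0]
    field_simp [eig_ne_zero hy0 hc']
  choose χ hχ using h2
  obtain ⟨a, ha⟩ := A.alt.exists_ext (A.img (A.pst x) fun t ht => ht.1) χ (by
    rintro _ ⟨s, hs, rfl⟩ _ ⟨t, ht, rfl⟩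
    obtain ⟨c, hc⟩ := hs.2
    obtain ⟨c', hc'⟩ := h1 s hs
    obtain ⟨d, hd⟩ := ht.2
    obtain ⟨d', hd'⟩ := h1 t ht
    have h3 := hχ _ _ ((A.pst x).mul_mem hs ht) (A.mul s hs.1 t ht.1) (d * c) (d' * c')
      (by rw [mul_smul, hd, A.linT hs.1, hc, mul_smul])
      (by rw [mul_smul, hd', A.linT hs.1, hc', mul_smul])
    rw [hχ _ s hs rfl c c' hc hc', hχ _ t ht rfl d d' hd hd'] at h3
    refine Units.ext (mul_right_cancel₀
      (mul_ne_zero (eig_ne_zero hy0 hd') (eig_ne_zero hy0 hc')) ?_)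
    rw [← h3, Units.val_mul]
    ring)
  obtain ⟨s, hs, rfl⟩ := A.surj a
  refine ⟨s • y, hS s hs y hy, (smul_ne_zero_iff_ne s).2 hy0, fun t ht c hc => ?_⟩
  obtain ⟨c', hc'⟩ := h1 t ⟨ht, c, hc⟩
  rw [A.hb t ht s hs, ha _ ⟨t, ⟨ht, c, hc⟩, rfl⟩, hc', A.linT hs, smul_smul,
    ← hχ _ t ⟨ht, c, hc⟩ rfl c c' hc hc']

/-- for odd `r` an isotropic subgroup has a common eigenvector -/
theorem Amb.exists_vec [Finite V] [Nontrivial V] (hr : r ≠ 2) {D : AddSubgroup W}
    (hD : D ≤ A.alt.perp D) : ∃ x : V, x ≠ 0 ∧ ∀ t ∈ T, π t ∈ D → ∃ c : K, t • x = c • x := by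
  obtain ⟨x, -, h0, h1⟩ := A.exists_common {t | t ∈ T ∧ π t ∈ D} (fun t ht => ht.1)
    (fun s hs t ht => hD ht.2 _ hs.2) (fun t ht => ⟨1, fun v => by rw [A.odd hr t ht.1]; simp⟩)
    ⊤ top_ne_bot fun _ _ _ _ => trivial
  exact ⟨x, h0, fun t ht hd => h1 t ⟨ht, hd⟩⟩

/-- **Independence of components.** -/
theorem Amb.frame (D : Subgroup L) (hD : D ≤ T) (lam : L → K) {ι ι' : Type*} [Fintype ι]
    [Fintype ι'] (s : ι → L) (z : ι → V) (s' : ι' → L) (z' : ι' → V) (hs : ∀ i, s i ∈ T)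
    (hs' : ∀ i, s' i ∈ T) (hz : ∀ i, ∀ d ∈ D, d • z i = lam d • z i)
    (hz' : ∀ i, ∀ d ∈ D, d • z' i = lam d • z' i)
    (inj : ∀ i j, (∀ d ∈ D, b (π d) (π (s i)) = b (π d) (π (s j))) → i = j)
    (inj' : ∀ i j, (∀ d ∈ D, b (π d) (π (s' i)) = b (π d) (π (s' j))) → i = j)
    (e : ∑ i, s i • z i = ∑ j, s' j • z' j) (i : ι) :
    (s i • z i = 0 ∧ ∀ j, ¬ ∀ d ∈ D, b (π d) (π (s i)) = b (π d) (π (s' j))) ∨
      ∃ j, (∀ d ∈ D, b (π d) (π (s i)) = b (π d) (π (s' j))) ∧ s i • z i = s' j • z' j := by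
  classical
  let act : D → V →+ V := fun d => AddMonoidHom.mk' (fun v => (lam d)⁻¹ • (d : L) • v)
    fun v w => by rw [smul_add, smul_add]
  let ch : L → D →* K := fun t => (Units.coeHom K).comp (MonoidHom.mk' (fun d => b (π d) (π t))
    fun d d' => by rw [Subgroup.coe_mul, A.mul _ (hD d.2) _ (hD d'.2), A.alt.l])
  have hch : ∀ t t', ch t = ch t' ↔ ∀ d ∈ D, b (π d) (π t) = b (π d) (π t') := fun t t' =>
    ⟨fun e d hd => Units.ext (DFunLike.congr_fun e (⟨d, hd⟩ : D) :),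
      fun e => MonoidHom.ext fun d => congrArg Units.val (e d d.2)⟩
  have key : ∀ t ∈ T, ∀ v : V, (∀ d ∈ D, d • v = lam d • v) → ∀ d : D,
      act d (t • v) = ch t d • t • v := by
    intro t ht v hv d
    change (lam d)⁻¹ • (d : L) • t • v = (b (π d) (π t) : K) • t • v
    by_cases h0 : v = 0
    · simp [h0]
    rw [A.hb _ (hD d.2) t ht, hv d d.2, A.linT ht, smul_comm, smul_smul (lam d)⁻¹,
      inv_mul_cancel₀ (eig_ne_zero h0 (hv d d.2)), one_smul]
  have h1 := eig_indep act (Sum.elim (fun i => ch (s i)) fun j => ch (s' j))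
    (Sum.elim (fun i => s i • z i) fun j => -(s' j • z' j)) (by
      rintro (i | j) d
      · exact key _ (hs i) _ (hz i) d
      · change act d (-_) = _ • (-_)
        rw [map_neg, key _ (hs' j) _ (hz' j), smul_neg]; rfl)
    (by rw [Fintype.sum_sum_type]; simp [e]) (ch (s i))
  rw [Finset.sum_filter, Fintype.sum_sum_type, Finset.sum_eq_single i (fun k _ hk => by
    exact if_neg fun e => hk (inj _ _ ((hch _ _).1 e))) (by simp), if_pos (by exact rfl)] at h1
  by_cases hj : ∃ j, ∀ d ∈ D, b (π d) (π (s i)) = b (π d) (π (s' j))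
  · obtain ⟨j, hj⟩ := hj
    refine Or.inr ⟨j, hj, ?_⟩
    rw [Finset.sum_eq_single j (fun k _ hk => by
      exact if_neg fun e => hk (inj' _ _ fun d hd => ((hch _ _).1 e d hd).trans (hj d hd)))
      (by simp), if_pos (by exact ((hch _ _).2 hj).symm)] at h1
    exact add_neg_eq_zero.1 h1
  · rw [Finset.sum_eq_zero (fun k _ => by exact if_neg fun e => hj ⟨k, (hch _ _).1 e.symm⟩),
      add_zero] at h1
    exact Or.inl ⟨h1, fun j e => hj ⟨j, e⟩⟩

/-! ### the case `r = 2` -/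

theorem Amb.exists_z (hr : r = 2) : ∃ z ∈ T, ∀ v : V, z • v = -v := by
  obtain ⟨z, hz, e⟩ := A.scal_mem (γ := -1) (by rw [hr]; simp)
  exact ⟨z, hz, fun v => by rw [e, neg_one_smul]⟩

theorem Amb.b_pm (hr : r = 2) (x y : W) : b x y = 1 ∨ b x y = -1 := by
  have := congrArg Units.val (A.b_pow x y)
  rw [hr, Units.val_pow_eq_pow_val, Units.val_one, sq_eq_one_iff] at this
  exact this.imp (fun e => Units.ext e) fun e => Units.ext e

theorem Amb.two_ne (hr : r = 2) : (2 : K) ≠ 0 := by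
  obtain ⟨s, -, t, -, h⟩ := A.exists_b_ne
  intro e
  refine h (((A.b_pm hr _ _).resolve_left h).trans (Units.ext ?_))
  rw [Units.val_neg, Units.val_one, neg_eq_iff_add_eq_zero, one_add_one_eq_two, e]

theorem Amb.neg_one_ne (hr : r = 2) : (-1 : Kˣ) ≠ 1 := fun e => A.two_ne hr (by
  have := congrArg Units.val e
  rwa [Units.val_neg, Units.val_one, neg_eq_iff_add_eq_zero, one_add_one_eq_two] at this)

theorem Amb.eq_zero_of_neg (hr : r = 2) {v : V} (e : v = -v) : v = 0 :=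
  eq_zero_of_eq_neg (A.two_ne hr) e

/-- central elements of `T` are `± 1` -/
theorem Amb.pm [Nontrivial V] (hr : r = 2) {t : L} (ht : t ∈ T) (h0 : π t = 0) :
    t = 1 ∨ ∀ v : V, t • v = -v := by
  obtain ⟨c, hc⟩ := (A.ker t ht).1 h0
  obtain ⟨v, hv⟩ := exists_ne (0 : V)
  have h1 := A.pow_act (A.σT t ht) (hc v) 2
  rw [A.two hr t ht h0, one_smul] at h1
  have h2 : c ^ 2 = 1 := (unique_scal hv ((one_smul K v).trans h1)).symm
  rcases sq_eq_one_iff.1 h2 with rfl | rfl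
  · exact Or.inl (A.faith _ fun v => by rw [hc, one_smul])
  · exact Or.inr fun v => by rw [hc, neg_one_smul]

theorem Amb.sq [Nontrivial V] (hr : r = 2) {t : L} (ht : t ∈ T) :
    t ^ 2 = 1 ∨ ∀ v : V, t • t • v = -v :=
  (A.pm hr (T.pow_mem ht 2) (by rw [A.pow ht, ← hr, A.rW])).imp id fun e v => by
    rw [← e, _root_.sq, mul_smul]

theorem Amb.anti (hr : r = 2) {s t : L} (hs : s ∈ T) (ht : t ∈ T) (h : b (π s) (π t) ≠ 1)
    (v : V) : s • t • v = -(t • s • v) := by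
  rw [A.hb s hs t ht, (A.b_pm hr _ _).resolve_left h]; simp

theorem Amb.mul_sq {s t : L} (hs : s ∈ T) (ht : t ∈ T) (v : V) :
    (s * t) ^ 2 • v = (b (π t) (π s) : K) • s ^ 2 • t ^ 2 • v := by
  simp only [_root_.sq, mul_smul]
  rw [A.hb t ht s hs, A.linT hs]

end Amb

section Nrm

variable {L V K W : Type*} [Group L] [AddCommGroup V] [DistribMulAction L V] [Field K]
  [Module K V] [AddCommGroup W] [DistribMulAction L W] {σ : L →* RingAut K} {G T : Subgroup L}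
  {π : L → W} {b : W → W → Kˣ} {r : ℕ} (N : Nrm L V K W σ G T π b r)
include N

theorem Nrm.conj_mem (f : L) {t : L} (ht : t ∈ T) : f * t * f⁻¹ ∈ T := N.normal.conj_mem t ht f

theorem Nrm.b_one (f : L) {x y : W} (e : b x y = 1) : b (f • x) (f • y) = 1 :=
  Units.ext (by rw [N.bs, e, Units.val_one, map_one])

theorem Nrm.conj_act (f t : L) (v : V) : (f * t * f⁻¹) • f • v = f • t • v := by
  rw [mul_smul, mul_smul, inv_smul_smul]

/-- the stabilizer of a common eigenvector of a Lagrangian `D` normalizes `D` -/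
theorem Nrm.smul_mem {D : AddSubgroup W} (hD : N.alt.perp D = D) {x : V} (hx : x ≠ 0)
    (he : ∀ t ∈ T, π t ∈ D → ∃ c : K, t • x = c • x) {h : L} (hh : h • x = x) {w : W}
    (hw : w ∈ D) : h • w ∈ D := by
  obtain ⟨t, ht, rfl⟩ := N.surj w
  obtain ⟨c, hc⟩ := he t ht hw
  rw [← N.conj h t ht, ← hD]
  intro u hu
  obtain ⟨s, hs, rfl⟩ := N.surj u
  obtain ⟨d, hd⟩ := he s hs hu
  refine N.b_of_eig hs (N.conj_mem h ht) hx hd (d := σ h c) ?_
  conv_lhs => rw [← hh, N.conj_act, hc, N.semi, hh]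

/-- an element of `T` having the common eigenvector of a Lagrangian as eigenvector lies in it -/
theorem Nrm.mem_of_eig {D : AddSubgroup W} (hD : N.alt.perp D = D) {x : V} (hx : x ≠ 0)
    (he : ∀ t ∈ T, π t ∈ D → ∃ c : K, t • x = c • x) {s : L} (hs : s ∈ T) {c : K}
    (e : s • x = c • x) : π s ∈ D := by
  rw [← hD]
  intro u hu
  obtain ⟨t, ht, rfl⟩ := N.surj u
  obtain ⟨d, hd⟩ := he t ht hu
  exact N.b_of_eig ht hs hx hd e

/-- **The support lemma.** -/
theorem Nrm.supp {D : AddSubgroup W} (hD : N.alt.perp D = D) {x : V} (hx : x ≠ 0)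
    (he : ∀ t ∈ T, π t ∈ D → ∃ c : K, t • x = c • x) {ι : Type*} [Fintype ι] (t : ι → L)
    (ht : ∀ i, t i ∈ T) (inj : ∀ i j, π (t i) - π (t j) ∈ D → i = j) (c : ι → K)
    (hc : ∀ i, c i ≠ 0) {h : L} (hh : h • x = x)
    (hy : h • ∑ i, c i • t i • x = ∑ i, c i • t i • x) (i : ι) :
    ∃ j, h • π (t i) - π (t j) ∈ D ∧ σ h (c i) • h • t i • x = c j • t j • x := by
  classical
  have hsub : ∀ u u' : W, (∀ d ∈ N.pst x, b (π d) u = b (π d) u') → u - u' ∈ D := by
    intro u u' e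
    rw [← hD]
    intro w hw
    obtain ⟨d, hd, rfl⟩ := N.surj w
    rw [N.alt.sub_right, e d ⟨hd, he d hd hw⟩, div_self']
  have hl : ∀ d : L, ∃ l : K, d ∈ N.pst x → d • x = l • x := fun d => by
    by_cases hd : d ∈ N.pst x
    · obtain ⟨l, hl⟩ := hd.2
      exact ⟨l, fun _ => hl⟩
    · exact ⟨0, fun e => absurd e hd⟩
  choose lam hlam using hl
  have hz : ∀ a : K, ∀ d ∈ N.pst x, d • a • x = lam d • a • x := fun a d hd => by
    rw [N.linT hd.1, hlam d hd, smul_comm]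
  have e1 : ∀ i, (h * t i * h⁻¹) • σ h (c i) • x = σ h (c i) • h • t i • x := fun i => by
    rw [N.linT (N.conj_mem h (ht i))]
    conv_lhs => rw [← hh, N.conj_act]
  rcases N.frame (N.pst x) (fun _ hd => hd.1) lam (fun i => h * t i * h⁻¹)
    (fun i => σ h (c i) • x) t (fun i => c i • x) (fun i => N.conj_mem h (ht i)) ht
    (fun i => hz _) (fun i => hz _) (fun i j e => inj i j (by
      have h1 := hsub _ _ e
      rw [N.conj h _ (ht i), N.conj h _ (ht j), ← smul_sub] at h1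
      simpa using N.smul_mem hD hx he (inv_smul_eq_iff.2 hh.symm) h1))
    (fun i j e => inj i j (hsub _ _ e)) (by
      simp only [e1, N.linT (ht _)]
      rw [← hy, Finset.smul_sum]
      exact Finset.sum_congr rfl fun i _ => (N.semi _ _ _).symm) i with h1 | ⟨j, h1, h2⟩
  · exfalso
    have h2 := h1.1
    rw [smul_eq_zero_iff_eq, smul_eq_zero] at h2
    exact h2.elim (by simpa using hc i) hx
  · refine ⟨j, ?_, by rw [← e1, h2, N.linT (ht j)]⟩
    rw [← N.conj h _ (ht i)]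
    exact hsub _ _ h1

end Nrm

end Cfsg.Agent.H53.TC
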